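import Cfsg.Agent.H28.Elu2

/-! Reduction of statements about elements of prime order of `PSL`. -/

set_option autoImplicit false

namespace Cfsg.Agent.H28

open Polynomial Module
open scoped Pointwise

variable {F V : Type*} [Field F] [AddCommGroup V] [Module F V] [FiniteDimensional F V]

omit [FiniteDimensional F V] in
theorem exists_compl_fixR {P : Type*} [Group P] [Finite P] (h : (Nat.card P : F) ≠ 0) (ρ : P →* End F V) :
    ∃ T : Submodule F V, IsCompl (fixR ρ) T ∧ ∀ g v, ρ g v - v ∈ T := by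
  have := Fintype.ofFinite P
  rw [Nat.card_eq_fintype_card] at h
  let _ := invertibleOfNonzero h
  have h1 := Representation.isProj_averageMap (k := F) ρ
  refine ⟨_, (show fixR ρ = Representation.invariants ρ from Submodule.ext fun v => mem_fixR) ▸ h1.isCompl, fun g v => ?_⟩
  rw [LinearMap.mem_ker, map_sub, sub_eq_zero, Representation.averageMap, ← Representation.asAlgebraHom_single_one,
    ← End.mul_apply, ← map_mul, GroupAlgebra.mul_average_right]

omit [FiniteDimensional F V] in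
theorem iv_of_sub_mem {a : End F V} {T U : Submodule F V} (h : ∀ v, a v - v ∈ T) (hU : T ≤ U) : Iv a U := fun v hv => by
  simpa using U.add_mem (hU (h v)) hv

omit [FiniteDimensional F V] in
theorem iv_of_le_fixR {P : Type*} {ρ : P → End F V} {U : Submodule F V} (h : U ≤ fixR ρ) (g : P) : Iv (ρ g) U :=
  fun v hv => by rwa [mem_fixR.1 (h hv) g]

theorem natCast_card_ne_zero {P : Type*} [Group P] [Finite P] {p r : ℕ} [hp : Fact p.Prime] [CharP F p]
    [hr : Fact r.Prime] (hrp : r ≠ p) (h : IsPGroup r P) : (Nat.card P : F) ≠ 0 := by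
  obtain ⟨k, hk⟩ := h.exists_card_eq
  rw [hk, Nat.cast_pow]
  exact pow_ne_zero _ (cast_ne_zero_of_ne (p := p) hr.out hrp)

/-- linear equivalences as endomorphisms -/
def leq (G : Subgroup (V ≃ₗ[F] V)) : G →* End F V := ⟨⟨fun g => g.1, rfl⟩, fun _ _ => rfl⟩

theorem smul_eq_of_iv {G : Subgroup (V ≃ₗ[F] V)} {U : Submodule F V} (h : ∀ g, Iv (leq G g) U) :
    ∀ g ∈ G, g • U = U := fun g hg => (h ⟨g, hg⟩).map_eq g.injective

theorem squarefree_X_pow_sub_C {r : ℕ} (hr : (r : F) ≠ 0) {z : F} (hz : z ≠ 0) : Squarefree (X ^ r - C z : F[X]) :=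
  (separable_X_pow_sub_C z hr hz).squarefree

omit [FiniteDimensional F V] in
theorem aeval_X_pow_sub_C {a : End F V} {r : ℕ} {z : F} (h : a ^ r = z • 1) : aeval a (X ^ r - C z) = 0 := by
  simp [h, Algebra.algebraMap_eq_smul_one]

variable [Fintype F] {r : ℕ}

theorem not_dvd_card_of_ne {p : ℕ} [hp : Fact p.Prime] [CharP F p] (hr : r.Prime) (hrp : r ≠ p) :
    ¬ r ∣ Fintype.card F := fun h => by
  obtain ⟨k, -, hk⟩ := FiniteField.card F p
  exact hrp ((Nat.prime_dvd_prime_iff_eq hr hp.out).1 (hr.dvd_of_dvd_pow (hk ▸ h)))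

theorem orderOf_card_pos {p : ℕ} [hp : Fact p.Prime] [CharP F p] [hr : Fact r.Prime] (hrp : r ≠ p) :
    0 < orderOf (Fintype.card F : ZMod r) :=
  orderOf_pos_iff.2 (isOfFinOrder_iff_pow_eq_one.2 ⟨r - 1, Nat.sub_pos_of_lt hr.out.one_lt,
    ZMod.pow_card_sub_one_eq_one (mt (ZMod.natCast_eq_zero_iff _ _).1 (not_dvd_card_of_ne hr.out hrp))⟩)

theorem not_dvd_card_sub_one {p : ℕ} [hp : Fact p.Prime] [CharP F p] : ¬ p ∣ Fintype.card F - 1 := fun h => by
  obtain ⟨k, -, hk⟩ := FiniteField.card F p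
  have h3 : p ∣ Fintype.card F := hk ▸ dvd_pow_self p k.ne_zero
  exact hp.out.not_dvd_one ((Nat.dvd_sub_iff_right Fintype.card_pos h3).1 h)

theorem eq_one_of_pow_of_not_dvd (hr : r.Prime) (h : ¬ r ∣ Fintype.card F - 1) {z : F} (hz : z ^ r = 1) : z = 1 := by
  have h1 := FiniteField.pow_card_sub_one_eq_one z (by rintro rfl; simp [hr.ne_zero] at hz)
  rw [← orderOf_eq_one_iff, ← Nat.dvd_one, ← ((Nat.Prime.coprime_iff_not_dvd hr).2 h).gcd_eq_one]
  exact Nat.dvd_gcd (orderOf_dvd_of_pow_eq_one hz) (orderOf_dvd_of_pow_eq_one h1)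

omit [FiniteDimensional F V] in
theorem po_of_pow (hr : r.Prime) (h : ¬ r ∣ Fintype.card F - 1) {y : End F V} (h1 : y ^ r = 1) (h2 : y ≠ 1) : PO r y := by
  refine ⟨⟨1, by simp [h1]⟩, fun z e => h2 ?_⟩
  cases subsingleton_or_nontrivial V
  · exact Subsingleton.elim _ _
  rw [e, _root_.smul_pow, one_pow] at h1
  rw [e, eq_one_of_pow_of_not_dvd hr h (smul_left_injective F one_ne_zero (h1.trans (one_smul _ _).symm)), one_smul]

theorem forall_po_two (hr : r.Prime) (h : ¬ r ∣ Fintype.card F - 1) {P : End F V → Prop}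
    (hP : ∀ w : F, w ≠ 0 → ∀ a, P a → P (w • a)) :
    (∀ a, LinearMap.det a = 1 → PO r a → P a) ↔ ∀ y, y ^ r = 1 → y ≠ 1 → P y := by
  constructor
  · exact fun H y h1 h2 => H y (eq_one_of_pow_of_not_dvd hr h (by rw [← map_pow, h1, map_one])) (po_of_pow hr h h1 h2)
  · intro H a h1 h2
    obtain ⟨w, hw, y, rfl, h3, h4⟩ | ⟨z, hz, -⟩ := po_cases hr.ne_zero (inj_of_det (h1 ▸ one_ne_zero)) h2
    · exact hP w hw y (H y h3 h4)
    · obtain ⟨b, hb⟩ := exists_pow_eq_of_not_dvd hr h z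
      exact absurd hb (hz b)

theorem forall_po_one (hr : r.Prime) (h : r ∣ Fintype.card F - 1) (hn : finrank F V ≠ 0) {P : End F V → Prop}
    (hP : ∀ w : F, w ≠ 0 → ∀ a, P a → P (w • a)) (h1 : ∀ y, y ^ r = 1 → P y) {A : Prop}
    (h2 : ∀ z (hz : ∀ b, b ^ r ≠ z) a k, a ^ r = z • 1 → ed a = .replicate k (kpp hr hz) → finrank F V = k * r →
      (P a ↔ A)) :
    (∀ a, LinearMap.det a = 1 → PO r a → P a) ↔ A ∨ (padicValNat r (finrank F V) ≤ padicValNat r (Fintype.card F - 1) ∧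
      (r = 2 → Even (finrank F V) → Fintype.card F % 4 = 1)) := by
  rw [or_iff_not_imp_right, ← exists_nonpow_det_iff hr h hn]
  constructor
  · rintro H ⟨z, k, hz, h3, h4⟩
    obtain ⟨a, h5, h6, h7, h8⟩ := exists_nonpow_end hr hz h3 (by rintro rfl; exact hn (by simpa using h3))
    exact (h2 z hz a k h5 h7 h3).1 (H a (h8.trans h4) h6)
  · intro H a h3 h4
    obtain ⟨w, hw, y, rfl, h5, -⟩ | ⟨z, hz, h5⟩ := po_cases hr.ne_zero (inj_of_det (h3 ▸ one_ne_zero)) h4
    · exact hP w hw y (h1 y h5)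
    · obtain ⟨k, h6, h7, h8⟩ := ed_of_nonpow hr hz h5
      exact (h2 z hz a k h5 h6 h7).2 (H ⟨z, k, hz, h7, h8 ▸ h3⟩)

theorem forall_po_unip {p : ℕ} [hp : Fact p.Prime] [CharP F p] {P : End F V → Prop}
    (hP : ∀ w : F, w ≠ 0 → ∀ a, P a → P (w • a)) {Q : Multiset ℕ → Prop}
    (hQ : ∀ u μ, (∀ k ∈ μ, 0 < k) → ed u = μ.map (H13.upp F) → (P u ↔ Q μ)) :
    (∀ a, LinearMap.det a = 1 → PO p a → P a) ↔
      ∀ μ : Multiset ℕ, (∀ k ∈ μ, 0 < k ∧ k ≤ p) → μ.sum = finrank F V → (∃ k ∈ μ, 1 < k) → Q μ := by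
  have h0 : ∀ u : End F V, u ^ p = 1 ↔ (u - 1) ^ p = 0 := fun u => by
    have := H13.sub_one_pow_char (F := F) p u 1
    rw [pow_one] at this
    rw [this, sub_eq_zero]
  rw [forall_po_two hp.out not_dvd_card_sub_one hP]
  constructor
  · rintro H μ h1 h2 ⟨k, h3, h4⟩
    obtain ⟨u, h5, rfl⟩ := H13.exists_jt (F := F) (V := V) (fun k hk => (h1 k hk).1) h2
    refine (hQ u _ (fun k => H13.jt_pos) (H13.ed_eq_map h5)).1 (H u ((h0 u).2
      ((H13.pow_eq_zero_iff_jt h5 p).2 fun k hk => (h1 k hk).2)) fun e => h4.not_ge ?_)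
    exact (H13.pow_eq_zero_iff_jt h5 1).1 (by simp [e]) k h3
  · intro H u h1 h2
    have h5 : IsNilpotent (u - 1) := ⟨p, (h0 u).1 h1⟩
    refine (hQ u _ (fun k => H13.jt_pos) (H13.ed_eq_map h5)).2 (H _ (fun k hk => ⟨H13.jt_pos hk,
      (H13.pow_eq_zero_iff_jt h5 p).1 ((h0 u).1 h1) k hk⟩) (H13.sum_jt h5) ?_)
    by_contra! h6
    exact h2 (by simpa [sub_eq_zero] using (H13.pow_eq_zero_iff_jt h5 1).2 h6)

variable {p : ℕ} [hp : Fact p.Prime] [CharP F p] (hr : r.Prime) (hrp : r ≠ p)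
include hr hrp

omit [Fintype F] in
theorem exists_cyc_pp : ∃ x : PP F, x.k = 1 ∧ x.f ∣ cyclotomic r F := by
  obtain ⟨f, h1, h2, h3⟩ := exists_monic_irreducible_factor (cyclotomic r F) (by
    refine not_isUnit_of_natDegree_pos _ ?_
    rw [natDegree_cyclotomic]; exact Nat.totient_pos.2 hr.pos)
  exact ⟨⟨f, 1, h1, h2, one_pos⟩, rfl, h3⟩

theorem dg_of_cyc {x : PP F} (h : x.k = 1 ∧ x.f ∣ cyclotomic r F) : x.dg = orderOf (Fintype.card F : ZMod r) := by
  rw [PP.dg, h.1, natDegree_of_dvd_cyc hr hrp x.irred h.2, one_mul]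

theorem forall_pow_iff {P : End F V → Prop} {T : ℕ → ℕ → Prop}
    (hT : ∀ a N e, a ^ r = 1 → ed a = N + .replicate e (H13.upp F 1) →
      (∀ x ∈ N, x.dg = orderOf (Fintype.card F : ZMod r)) → (P a ↔ T N.card e)) :
    (∀ y, y ^ r = 1 → y ≠ 1 → P y) ↔
      ∀ b e, 0 < b → b * orderOf (Fintype.card F : ZMod r) + e = finrank F V → T b e := by
  constructor
  · intro H b e hb h1
    obtain ⟨x, hx⟩ := exists_cyc_pp (F := F) hr hrp
    obtain ⟨a, h2, h3⟩ := exists_ntr (V := V) hr hrp (M := .replicate b x)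
      (fun y hy => Multiset.eq_of_mem_replicate hy ▸ hx) (by simp; omega)
    obtain ⟨h4, k, h5, h6⟩ := ed_eq_ntr hr hrp h2
    have := (hT a _ _ h2 h5 fun y hy => dg_of_cyc hr hrp (h4 y hy)).1 (H a h2 fun e => by
      simpa [h3, hb.ne'] using congrArg Multiset.card ((ntr_eq_zero hr hrp h2).2 e))
    rw [h3, Multiset.card_replicate] at this h6
    rwa [show e = k by omega]
  · intro H a h1 h2
    obtain ⟨h4, k, h5, h6⟩ := ed_eq_ntr hr hrp h1
    exact (hT a _ _ h1 h5 fun y hy => dg_of_cyc hr hrp (h4 y hy)).2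
      (H _ _ (Multiset.card_pos.2 (mt (ntr_eq_zero hr hrp h1).1 h2)) h6)

theorem exists_le_of_one (h : orderOf (Fintype.card F : ZMod r) = 1) {a : End F V} (ha : a ^ r = 1) {M : Multiset (PP F)}
    (hM : M ≤ ed a) : tdg M = M.card := by
  obtain ⟨h4, k, h5, h6⟩ := ed_eq_ntr hr hrp ha
  rw [tdg_of_const (c := 1), mul_one]
  intro x hx
  have := Multiset.mem_of_le hM hx
  rw [h5, Multiset.mem_add] at this
  exact this.elim (fun h1 => h ▸ dg_of_cyc hr hrp (h4 x h1)) fun h1 => Multiset.eq_of_mem_replicate h1 ▸ upp_dg one_pos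

theorem ss_sub_iff {m : ℕ} (hm : 0 < m) (hmn : m ≤ finrank F V) {P : End F V → Prop}
    (hP : ∀ w : F, w ≠ 0 → ∀ a, P a → P (w • a))
    (hQ : ∀ (a : End F V) (g : F[X]), Squarefree g → aeval a g = 0 → (P a ↔ ∃ M ≤ ed a, tdg M = m))
    (hc : m ≤ finrank F V % orderOf (Fintype.card F : ZMod r) → orderOf (Fintype.card F : ZMod r) ≤ m) :
    (∀ a, LinearMap.det a = 1 → PO r a → P a) ↔
      (orderOf (Fintype.card F : ZMod r) = 1 ∧ (r ∣ m ∨ (padicValNat r (finrank F V) ≤ padicValNat r (Fintype.card F - 1) ∧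
        (r = 2 → Even (finrank F V) → Fintype.card F % 4 = 1)))) ∨
      (2 ≤ orderOf (Fintype.card F : ZMod r) ∧ orderOf (Fintype.card F : ZMod r) ≤ m ∧
        m % orderOf (Fintype.card F : ZMod r) ≤ finrank F V % orderOf (Fintype.card F : ZMod r)) := by
  have := Fact.mk hr
  have h0 := orderOf_card_pos (F := F) hrp
  have hr0 := cast_ne_zero_of_ne (F := F) hr hrp
  have h1 : ∀ a : End F V, a ^ r = 1 → (P a ↔ ∃ M ≤ ed a, tdg M = m) := fun a h =>
    hQ a _ (squarefree_X_pow_sub_C hr0 one_ne_zero) (aeval_X_pow_sub_C (by rw [h, one_smul]))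
  by_cases h : orderOf (Fintype.card F : ZMod r) = 1
  · rw [or_iff_left (by omega), and_iff_right h]
    refine forall_po_one hr (orderOf_eq_one_iff_dvd.1 h) (by omega) hP (fun y hy => (h1 y hy).2 ?_) fun z hz a k h2 h3 h4 => ?_
    · obtain ⟨M, h2, rfl⟩ := exists_le_card (N := ed y) (b := m) (by
        rwa [← exists_le_of_one hr hrp h hy le_rfl, tdg_ed])
      exact ⟨M, h2, exists_le_of_one hr hrp h hy h2⟩
    · rw [hQ a _ (kpp hr hz).irred.squarefree (aeval_X_pow_sub_C h2), h3, le_replicate_tdg (by rwa [kpp_dg, ← h4]), kpp_dg]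
  · rw [or_iff_right (by omega), forall_po_two hr (mt orderOf_eq_one_iff_dvd.2 h) hP,
      forall_pow_iff hr hrp (T := fun b e => ∃ b' ≤ b, ∃ d ≤ e, m = b' * orderOf (Fintype.card F : ZMod r) + d)]
    · generalize orderOf (Fintype.card F : ZMod r) = c at *
      generalize finrank F V = n at *
      have h2 := Nat.div_add_mod' n c
      have h3 := Nat.mod_lt n h0
      constructor
      · intro H
        have h4 : 0 < n / c := Nat.pos_of_ne_zero fun e => by
          rw [e] at h2; have := hc (by omega); omega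
        obtain ⟨b, -, d, h5, rfl⟩ := H _ _ h4 h2
        rw [Nat.mul_add_mod', Nat.mod_eq_of_lt (show d < c by omega)]
        refine ⟨by omega, ?_, h5⟩
        rcases b with _ | b
        · exact hc (by omega)
        · rw [add_mul]; omega
      · rintro ⟨-, -, h4⟩ b e - rfl
        rw [Nat.mul_add_mod'] at h4
        have h5 := Nat.div_add_mod' m c
        by_cases h6 : m / c ≤ b
        · exact ⟨_, h6, _, h4.trans (Nat.mod_le _ _), h5.symm⟩
        · have := Nat.mul_le_mul_right c (le_of_not_ge h6)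
          exact ⟨b, le_rfl, m - b * c, by omega, by omega⟩
    · intro a N e h2 h3 h4
      rw [h1 a h2, h3]
      exact ⟨fun ⟨M, h5, h6⟩ => h6 ▸ le_add_replicate h4 h5, fun ⟨b, h5, d, h6, h7⟩ => h7 ▸ exists_le_add_replicate h4 h5 h6⟩

end Cfsg.Agent.H28
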