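import Mathlib

set_option autoImplicit false

namespace Cfsg.Agent.H28

open Equiv Equiv.Perm

lemma mem_range_orderOf_alt_iff (n m : ℕ) :
    m ∈ Set.range (orderOf : alternatingGroup (Fin n) → ℕ) ↔
      ∃ M : Multiset ℕ, M.sum ≤ n ∧ (∀ a ∈ M, 2 ≤ a) ∧ Even (M.sum + M.card) ∧ M.lcm = m := by
  constructor
  · rintro ⟨⟨g, hg⟩, rfl⟩
    refine ⟨g.cycleType, ?_, fun a ha => two_le_of_mem_cycleType ha, ?_, ?_⟩
    · simpa using g.sum_cycleType_le
    · rw [mem_alternatingGroup, sign_of_cycleType] at hg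
      exact (neg_one_pow_eq_one_iff_even (by decide)).1 hg
    · rw [lcm_cycleType, Subgroup.orderOf_mk]
  · rintro ⟨M, h1, h2, h3, rfl⟩
    obtain ⟨g, rfl⟩ := (exists_with_cycleType_iff (Fin n) (m := M)).2 ⟨by simpa using h1, h2⟩
    refine ⟨⟨g, ?_⟩, ?_⟩
    · rw [mem_alternatingGroup, sign_of_cycleType]
      exact h3.neg_one_pow
    · rw [lcm_cycleType, Subgroup.orderOf_mk]

lemma prime_dvd_multiset_lcm {p : ℕ} (hp : p.Prime) (M : Multiset ℕ) (h : p ∣ M.lcm) :
    ∃ a ∈ M, p ∣ a := by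
  induction M using Multiset.induction_on with
  | empty => simp at h; exact absurd h hp.one_lt.ne'
  | cons a M ih =>
    rw [Multiset.lcm_cons] at h
    have : p ∣ a * M.lcm := h.trans (Nat.lcm_dvd_mul _ _)
    rcases (Nat.Prime.dvd_mul hp).1 this with h1 | h1
    · exact ⟨a, by simp, h1⟩
    · obtain ⟨b, hb, hb'⟩ := ih h1
      exact ⟨b, by simp [hb], hb'⟩

lemma even_sum_add_card_iff (M : Multiset ℕ) :
    Even (M.sum + M.card) ↔ Even (M.filter Even).card := by
  induction M using Multiset.induction_on with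
  | empty => simp
  | cons a M ih =>
    by_cases ha : Even a
    · rw [Multiset.filter_cons_of_pos _ ha]
      simp only [Multiset.sum_cons, Multiset.card_cons, Nat.even_add, ha, Nat.not_even_one] at ih ⊢
      tauto
    · rw [Multiset.filter_cons_of_neg _ ha]
      simp only [Multiset.sum_cons, Multiset.card_cons, Nat.even_add, ha, Nat.not_even_one] at ih ⊢
      tauto

end Cfsg.Agent.H28
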