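import Cfsg.Agent.H28.PSpAut

/-! Field automorphisms of `PSp` and `PSU`: Lang's theorem and centralisers. -/

set_option autoImplicit false

namespace Cfsg.Agent.H28

open Matrix Module
open scoped MatrixGroups

variable {F K : Type*} [Field F] [Field K]

section PGL
variable {ι : Type*} [Fintype ι] [DecidableEq ι]

/-- the projection to `PGL` -/
def πGL (ι : Type*) [Fintype ι] [DecidableEq ι] (F : Type*) [Field F] :
    GL ι F →* GL ι F ⧸ Subgroup.center (GL ι F) :=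
  QuotientGroup.mk' (Subgroup.center (GL ι F))

lemma πGL_eq_one_iff {g : GL ι F} : πGL ι F g = 1 ↔ g ∈ Subgroup.center (GL ι F) :=
  QuotientGroup.eq_one_iff _

lemma πGL_eq_iff {g h : GL ι F} :
    πGL ι F g = πGL ι F h ↔ ∃ u : Fˣ, g = GeneralLinearGroup.scalar ι u * h := by
  rw [eq_comm, πGL, QuotientGroup.mk'_eq_mk']
  constructor
  · rintro ⟨z, hz, rfl⟩
    obtain ⟨u, rfl⟩ := mem_center_GL_iff.1 hz
    exact ⟨u, (GeneralLinearGroup.scalar_commute _ _).symm⟩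
  · rintro ⟨u, rfl⟩
    exact ⟨_, scalar_mem_center u, (GeneralLinearGroup.scalar_commute _ _).symm⟩

@[simp] lemma πGL_scalar (u : Fˣ) : πGL ι F (GeneralLinearGroup.scalar ι u) = 1 :=
  (QuotientGroup.eq_one_iff _).2 (scalar_mem_center u)

lemma πGL_aut (θ : MulAut (GL ι F)) (g : GL ι F) :
    πGL ι F (θ g) = quotAut _ θ (πGL ι F g) := rfl

lemma πGL_map_eq_iff (j : K →+* F) {g h : GL ι K} :
    πGL ι F (GeneralLinearGroup.map j g) = πGL ι F (GeneralLinearGroup.map j h) ↔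
      πGL ι K g = πGL ι K h := by
  simp only [πGL, QuotientGroup.mk'_apply, QuotientGroup.eq, ← map_inv, ← map_mul,
    map_mem_center_iff]

lemma fieldGL_map {σ : F ≃+* F} {j : K →+* F} (hj : ∀ x, x ∈ Set.range j ↔ σ x = x) (g : GL ι K) :
    fieldGL ι F σ (GeneralLinearGroup.map j g) = GeneralLinearGroup.map j g := by
  ext a b
  exact (hj _).1 ⟨_, rfl⟩

lemma exists_map_of_πGL_eq {σ : F ≃+* F} {j : K →+* F} (hj : ∀ x, x ∈ Set.range j ↔ σ x = x)
    {g : GL ι F} (h : πGL ι F g = πGL ι F (fieldGL ι F σ g)) :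
    ∃ (z : Fˣ) (k : GL ι K), g = GeneralLinearGroup.scalar ι z * GeneralLinearGroup.map j k := by
  obtain ⟨u, hu⟩ := πGL_eq_iff.1 h
  obtain ⟨z, k, hk, rfl⟩ := exists_fieldGL_fixed hu
  obtain ⟨k, rfl⟩ := exists_map_eq_of_fixed j fun a b =>
    (hj _).2 (congrArg (fun x : GL ι F => (x : Matrix ι ι F) a b) hk)
  exact ⟨z, k, rfl⟩

lemma uniT_uniT {θ : F ≃+* F} (h : ∀ a, θ (θ a) = a) (g : GL ι F) :
    uniT ι θ (uniT ι θ g) = g :=
  Units.ext (by rw [coe_uniT, coe_uniT_inv, cT_cT h])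

lemma uniT_fieldGL [Finite F] (θ σ : F ≃+* F) (g : GL ι F) :
    uniT ι θ (fieldGL ι F σ g) = fieldGL ι F σ (uniT ι θ g) :=
  Units.ext (by rw [coe_uniT, ← map_inv, coe_fieldGL, map_cT, coe_fieldGL, coe_uniT])

lemma uniT_map {θ : F ≃+* F} {τ : K ≃+* K} {j : K →+* F} (h : ∀ a, θ (j a) = j (τ a))
    (g : GL ι K) :
    uniT ι θ (GeneralLinearGroup.map j g) = GeneralLinearGroup.map j (uniT ι τ g) := by
  refine Units.ext ?_
  rw [coe_uniT, ← map_inv]
  ext a b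
  exact h _

/-- Lang's theorem for `PGU` and a field automorphism of odd order -/
lemma lang_uniT [Finite F] [Finite K] {θ σ : F ≃+* F} {τ : K ≃+* K} {j : K →+* F}
    (hθ : orderOf θ = 2) (hτ : orderOf τ = 2) (h : ∀ a, θ (j a) = j (τ a))
    (hj : ∀ x, x ∈ Set.range j ↔ σ x = x) {g : GL ι F} (hg : uniT ι θ g = g)
    (hn : nrm (fieldGL ι F σ) g (orderOf σ) ∈ Subgroup.center (GL ι F)) :
    ∃ k, uniT ι θ k = k ∧ ∃ z : Fˣ,
      g * fieldGL ι F σ k = GeneralLinearGroup.scalar ι z * k := by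
  have h2 := apply_apply_of_orderOf_two hθ
  obtain ⟨k0, z0, h0⟩ := h90_PGL σ g hn
  have h1 : fieldGL ι F σ k0 = g⁻¹ * (GeneralLinearGroup.scalar ι z0 * k0) := by rw [← h0]; simp
  obtain ⟨z1, k1, h3⟩ := exists_map_of_πGL_eq hj (g := (uniT ι θ k0)⁻¹ * k0) (by
    rw [map_mul (fieldGL ι F σ), map_inv (fieldGL ι F σ), ← uniT_fieldGL, h1]
    simp [hg, uniT_scalar])
  have h4 : πGL ι F (GeneralLinearGroup.map j k1) = πGL ι F ((uniT ι θ k0)⁻¹ * k0) := by
    rw [h3]; simp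
  obtain ⟨k2, z2, h5⟩ := h90_PGL_uni hτ k1 (by
    rw [← map_mem_center_iff j, map_mul, ← uniT_map h, ← πGL_eq_one_iff, map_mul, πGL_aut, h4,
      ← πGL_aut]
    simp [uniT_uniT h2])
  have h6 := congrArg (fun x => πGL ι F (GeneralLinearGroup.map j x)) h5
  simp only [map_mul, h4, GeneralLinearGroup.map_scalar, πGL_scalar, one_mul, ← uniT_map h,
    map_inv] at h6
  obtain ⟨u, hu⟩ := πGL_eq_iff.1 (show πGL ι F (k0 * uniT ι θ (GeneralLinearGroup.map j k2)) =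
      πGL ι F (uniT ι θ (k0 * uniT ι θ (GeneralLinearGroup.map j k2))) by
    simp only [map_mul, uniT_uniT h2, ← h6]; group)
  obtain ⟨z, k, hk, e⟩ := exists_uniT_fixed hθ hu
  refine ⟨k, hk, πGL_eq_iff.1 ?_⟩
  have h7 := congrArg (πGL ι F) e
  simp only [map_mul, πGL_scalar, one_mul] at h7
  rw [map_mul, πGL_aut, ← h7, map_mul, ← πGL_aut, ← πGL_aut, uniT_map h, fieldGL_map hj, h1]
  simp [mul_assoc]

end PGL

/-! ### symplectic groups -/

section Sp
variable {m : ℕ}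

lemma exists_congr_J (M : GL (Fin m ⊕ Fin m) K) (hM : ∀ x, x ⬝ᵥ (M.1 *ᵥ x) = 0) :
    ∃ P : GL (Fin m ⊕ Fin m) K, P.1ᵀ * M.1 * P.1 = J (Fin m) K := by
  obtain ⟨m', b, h1, h2, h3⟩ := H13.exists_symplectic_basis (toBilin' M.1)
    (fun x => by rw [toBilin'_apply', hM]) fun x hx => sesq_nondeg 1 M x fun y =>
      (sesq_apply _ _ _ _).trans ((toBilin'_apply' _ _ _).symm.trans (hx y))
  obtain rfl : m' = m := by
    have := Module.finrank_eq_card_basis b
    simp at this; omega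
  have h4 : ∀ x y, toBilin' M.1 y x = -toBilin' M.1 x y := fun x y => by
    have := hM (x + y)
    simp only [mulVec_add, add_dotProduct, dotProduct_add, hM] at this
    simp only [toBilin'_apply']
    linear_combination this
  refine ⟨basisGL (b.reindex (Equiv.sumComm _ _)), ?_⟩
  ext i j
  refine (cT_basisGL_mul 1 M.1 (b.reindex (Equiv.sumComm _ _)) i j).trans
    ((sesq_apply _ _ _ _).trans ((toBilin'_apply' M.1 (b.reindex (Equiv.sumComm _ _) i)
      (b.reindex (Equiv.sumComm _ _) j)).symm.trans ?_))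
  rcases i with i | i <;> rcases j with j | j
  · simp [h3, J]
  · rw [h4]; simp [h1, J, one_apply, eq_comm]
  · simp [h1, J, one_apply]
  · simp [h2, J]

lemma lang_GSp [Finite F] (σ : F ≃+* F) (g : GL (Fin m ⊕ Fin m) F) (hg : g ∈ GSp m F)
    (hn : nrm (fieldGL _ F σ) g (orderOf σ) ∈ Subgroup.center _) :
    ∃ k ∈ GSp m F, ∃ z : Fˣ, g * fieldGL _ F σ k = GeneralLinearGroup.scalar _ z * k := by
  obtain ⟨j, hj⟩ := exists_ringHom_range_fixF σ (fixF σ) rfl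
  obtain ⟨k0, z0, h0⟩ := h90_PGL σ g hn
  obtain ⟨c, hc⟩ := mem_GSp_iff.1 (inv_mem hg)
  set J' := jSp m F (SymplecticGroup.symJ _ _) with hJ
  have h1 : πGL _ F (trGL g⁻¹ * J' * g⁻¹) = πGL _ F J' :=
    πGL_eq_iff.2 ⟨c, Units.ext (by rw [coe_scalar_mul]; exact hc)⟩
  have h2 : fieldGL _ F σ k0 = g⁻¹ * (GeneralLinearGroup.scalar _ z0 * k0) := by rw [← h0]; simp
  let M := trGL k0 * J' * k0
  have hM : M.1 = k0.1ᵀ * J (Fin m) F * k0.1 := rfl
  obtain ⟨z1, k1, h3⟩ := exists_map_of_πGL_eq hj (g := M) (by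
    have e1 : fieldGL _ F σ J' = J' := Units.ext (map_J (Fin m) σ)
    have e2 : fieldGL _ F σ (trGL k0) = trGL (fieldGL _ F σ k0) := rfl
    have e3 : trGL (GeneralLinearGroup.scalar (Fin m ⊕ Fin m) z0) =
      GeneralLinearGroup.scalar _ z0 := Units.ext (diagonal_transpose _)
    rw [map_mul (fieldGL _ F σ), map_mul (fieldGL _ F σ), e1, e2, h2, trGL_mul, trGL_mul, e3]
    simp only [M, map_mul, πGL_scalar, one_mul, mul_one] at h1 ⊢
    conv_lhs => rw [← h1]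
    simp only [mul_assoc])
  have h4 : M.1 = (z1 : F) • k1.1.map j := by rw [h3, coe_scalar_mul]; rfl
  obtain ⟨P, hP⟩ := exists_congr_J k1 fun x => j.injective (by
    have h5 := dot_mulVec_mulVec k0.1 (J (Fin m) F) (j ∘ x) (j ∘ x)
    have h6 := sh_altB.tv (k0.1 *ᵥ (j ∘ x))
    rw [altB_apply, sympForm, h5, ← hM, h4, smul_mulVec, dotProduct_smul] at h6
    obtain ⟨d, hd⟩ := h6
    rw [RingHom.map_dotProduct, map_zero]
    have h7 : j ∘ (k1.1 *ᵥ x) = k1.1.map j *ᵥ (j ∘ x) := funext fun i => j.map_mulVec _ _ i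
    rw [h7]
    simpa using hd.symm)
  refine ⟨k0 * GeneralLinearGroup.map j P, mem_GSp_iff.2 ⟨z1, ?_⟩, z0, by
    rw [map_mul, fieldGL_map hj, ← mul_assoc, h0, mul_assoc]⟩
  have h5 : (GeneralLinearGroup.map j P).1 = P.1.map j := rfl
  conv_rhs => rw [← map_J (Fin m) j, ← hP, Matrix.map_mul, Matrix.map_mul, transpose_map,
    ← smul_mul_assoc, ← mul_smul_comm, ← h4, hM]
  simp only [Units.val_mul, h5, transpose_mul, mul_assoc]

/-- the subfield subgroup of `GSp` -/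
def mapGSp (m : ℕ) (j : K →+* F) : GSp m K →* (dataSp m F).Δ :=
  ((GeneralLinearGroup.map j).comp (GSp m K).subtype).codRestrict _ fun g => by
    obtain ⟨c, hc⟩ := mem_GSp_iff.1 g.2
    exact mem_GSp_iff.2 ⟨Units.map (j : K →* F) c, fieldGL_J j hc⟩

lemma comap_centralizer_Sp [Finite F] (hm : 2 ≤ m) {σ : F ≃+* F} {j : K →+* F}
    (hj : ∀ x, x ∈ Set.range j ↔ σ x = x) :
    (Subgroup.centralizer {(dataSp m F).f σ}).comap (dataSp m F).d =
      (dataSp m F).d.ker ⊔ (mapGSp m j).range := by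
  refine le_antisymm (fun g hg => ?_) (sup_le (Subgroup.ker_le_comap _ _) ?_)
  · obtain ⟨z, k, e⟩ := exists_map_of_πGL_eq hj
      (πGL_eq_iff.2 ((triv_Sp hm).mem_comap_centralizer.1 hg))
    have hz := mem_GSp_iff.2 ⟨_, scalar_J (m := m) z⟩
    obtain ⟨c, hc⟩ := mem_GSp_iff.1 (show GeneralLinearGroup.map j k ∈ GSp m F by
      rw [← inv_mul_eq_iff_eq_mul] at e; exact e ▸ mul_mem (inv_mem hz) g.2)
    have h1 : (k.1ᵀ * J (Fin m) K * k.1).map j = (c : F) • J (Fin m) F := by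
      rw [Matrix.map_mul, Matrix.map_mul, map_J, transpose_map]; exact hc
    set d := (k.1ᵀ * J (Fin m) K * k.1) (.inr ⟨0, by omega⟩) (.inl ⟨0, by omega⟩) with hd
    have h2 : j d = c :=
      (congrFun (congrFun h1 (.inr ⟨0, by omega⟩)) (.inl ⟨0, by omega⟩)).trans (by simp [J])
    have hk : k ∈ GSp m K := mem_GSp_iff.2 ⟨Units.mk0 d (by
      rintro h0; exact c.ne_zero (by rw [← h2, h0, map_zero])), Matrix.map_injective j.injective (by
        simp only [h1, ← h2, ← map_J (Fin m) j]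
        ext; exact (map_mul j _ _).symm)⟩
    rw [show g = ⟨_, hz⟩ * mapGSp m j ⟨k, hk⟩ from Subtype.ext e]
    exact Subgroup.mul_mem_sup ((dataSp m F).d_of_center (scalar_mem_center z)) ⟨_, rfl⟩
  · rintro _ ⟨k, rfl⟩
    exact (triv_Sp hm).mem_comap_centralizer.2 ⟨1, by
      rw [map_one, one_mul]; exact (fieldGL_map hj _).symm⟩

lemma map_range_mapGSp (hm : 1 ≤ m) (j : K →+* F) :
    (mapGSp m j).range.map (multSp hm) = (Units.map (j : K →* F)).range := by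
  have : ∀ k : (dataSp m K).Δ, multSp hm (mapGSp m j k) = Units.map (j : K →* F) (multSp hm k) :=
    fun k => multSp_eq hm (fieldGL_J j (multSp_spec hm k))
  ext u
  constructor
  · rintro ⟨_, ⟨k, rfl⟩, rfl⟩; exact ⟨_, (this k).symm⟩
  · rintro ⟨c, rfl⟩
    obtain ⟨k, rfl⟩ := multSp_surjective hm c
    exact ⟨_, ⟨k, rfl⟩, this k⟩

lemma gcd_two_geom {a r : ℕ} (ha : 2 ≤ a) (hr : r ≠ 0) :
    Nat.gcd (Nat.gcd 2 (a ^ r - 1)) ((a ^ r - 1) / (a - 1)) =
      Nat.gcd (Nat.gcd 2 (a ^ r - 1)) r := by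
  have h1 : 1 ≤ a ^ r := Nat.one_le_pow _ _ (by omega)
  rcases Nat.even_or_odd a with h | h
  · have : Nat.gcd 2 (a ^ r - 1) = 1 :=
      (Nat.coprime_two_left).2 (Nat.Even.sub_odd h1 (h.pow_of_ne_zero hr) odd_one)
    simp [this]
  · rw [Nat.gcd_eq_left (Nat.Odd.sub_odd h.pow odd_one).two_dvd, ← Nat.geomSum_eq ha,
      Nat.gcd_rec, Nat.gcd_rec 2 r, Finset.sum_nat_mod]
    simp [Nat.pow_mod, Nat.odd_iff.1 h]

end Sp

/-! ### unitary groups -/

section U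
variable {n q q₀ : ℕ} [Fintype F] [Fintype K]

lemma pow_pow_odd (hK : Fintype.card K = q₀ ^ 2) {r : ℕ} (hr : Odd r) (a : K) :
    a ^ q₀ ^ r = a ^ q₀ := by
  obtain ⟨s, rfl⟩ := hr
  rw [pow_succ, pow_mul, pow_mul, ← hK, FiniteField.pow_card_pow]

/-- the subfield subgroup of `GU` -/
def mapGU (n : ℕ) (hF : Fintype.card F = q ^ 2) (hK : Fintype.card K = q₀ ^ 2) (j : K →+* F)
    (h : ∀ a : K, a ^ q = a ^ q₀) : GU n K q₀ →* (dataSU n hF).Δ :=
  ((GeneralLinearGroup.map j).comp (GU n K q₀).subtype).codRestrict _ fun g => by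
    obtain ⟨θ, hθ, -⟩ := exists_frob_two hF
    obtain ⟨τ, hτ, -⟩ := exists_frob_two hK
    refine (mem_GU_iff_uniT hθ).2 ((uniT_map (τ := τ) (fun a => ?_) _).trans
      (congrArg _ ((mem_GU_iff_uniT hτ).1 g.2)))
    rw [hθ, hτ, ← map_pow, h]

lemma lang_GU (hF : Fintype.card F = q ^ 2) (hK : Fintype.card K = q₀ ^ 2) {j : K →+* F}
    (h : ∀ a : K, a ^ q = a ^ q₀) {σ : F ≃+* F} (hj : ∀ x, x ∈ Set.range j ↔ σ x = x)
    (g : GL (Fin n) F) (hg : g ∈ GU n F q)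
    (hn : nrm (fieldGL _ F σ) g (orderOf σ) ∈ Subgroup.center _) :
    ∃ k ∈ GU n F q, ∃ z : Fˣ, g * fieldGL _ F σ k = GeneralLinearGroup.scalar _ z * k := by
  obtain ⟨θ, hθ, h1⟩ := exists_frob_two hF
  obtain ⟨τ, hτ, h2⟩ := exists_frob_two hK
  obtain ⟨k, hk, e⟩ := lang_uniT h1 h2 (fun a => by rw [hθ, hτ, ← map_pow, h]) hj
    ((mem_GU_iff_uniT hθ).1 hg) hn
  exact ⟨k, (mem_GU_iff_uniT hθ).2 hk, e⟩

lemma comap_centralizer_SU (hF : Fintype.card F = q ^ 2) (hK : Fintype.card K = q₀ ^ 2)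
    (hn : 3 ≤ n) {j : K →+* F} (h : ∀ a : K, a ^ q = a ^ q₀) {σ : F ≃+* F}
    (hj : ∀ x, x ∈ Set.range j ↔ σ x = x) :
    (Subgroup.centralizer {(dataSU n hF).f σ}).comap (dataSU n hF).d =
      (dataSU n hF).d.ker ⊔ (mapGU n hF hK j h).range := by
  obtain ⟨θ, hθ, h1⟩ := exists_frob_two hF
  obtain ⟨τ, hτ, h2⟩ := exists_frob_two hK
  have h3 : ∀ a, θ (j a) = j (τ a) := fun a => by rw [hθ, hτ, ← map_pow, h]
  refine le_antisymm (fun g hg => ?_) (sup_le (Subgroup.ker_le_comap _ _) ?_)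
  · obtain ⟨z, k, e⟩ := exists_map_of_πGL_eq hj
      (πGL_eq_iff.2 ((triv_SU hF hn).mem_comap_centralizer.1 hg))
    have h4 : πGL _ F (GeneralLinearGroup.map j k) = πGL _ F g := by rw [e]; simp
    obtain ⟨u, hu⟩ := πGL_eq_iff.1 ((πGL_map_eq_iff j (g := k) (h := uniT _ τ k)).1 (by
      rw [← uniT_map h3, πGL_aut, h4, ← πGL_aut, (mem_GU_iff_uniT hθ).1 g.2]))
    obtain ⟨w, k, hk, rfl⟩ := exists_uniT_fixed h2 hu
    set k' := mapGU n hF hK j h ⟨k, (mem_GU_iff_uniT hτ).2 hk⟩ with hk'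
    rw [← mul_inv_cancel_right g k'⁻¹, inv_inv]
    refine Subgroup.mul_mem_sup ((dataSU n hF).d_of_center ?_) ⟨_, rfl⟩
    rw [← πGL_eq_one_iff]
    change πGL _ F (g.1 * (GeneralLinearGroup.map j k)⁻¹) = 1
    rw [map_mul, ← h4]
    simp [GeneralLinearGroup.map_scalar]
  · rintro _ ⟨k, rfl⟩
    exact (triv_SU hF hn).mem_comap_centralizer.2 ⟨1, by
      rw [map_one, one_mul]; exact (fieldGL_map hj _).symm⟩

lemma index_map_range_mapGU (hF : Fintype.card F = q ^ 2) (hK : Fintype.card K = q₀ ^ 2)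
    (hn : 1 ≤ n) (j : K →+* F) (h : ∀ a : K, a ^ q = a ^ q₀) :
    ((mapGU n hF hK j h).range.map (detGU hF n)).index * (q₀ + 1) = q + 1 := by
  let jN : (powMonoidHom (q₀ + 1) : Kˣ →* Kˣ).ker →* (powMonoidHom (q + 1) : Fˣ →* Fˣ).ker :=
    ((Units.map (j : K →* F)).comp (Subgroup.subtype _)).codRestrict _ fun u => Units.ext (by
      have := congrArg Units.val (MonoidHom.mem_ker.1 u.2)
      rw [powMonoidHom_apply, Units.val_pow_eq_pow_val, pow_succ, ← h, ← pow_succ] at this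
      simpa using congrArg j this)
  have h1 : ∀ k : (dataSU n hK).Δ, detGU hF n (mapGU n hF hK j h k) = jN (detGU hK n k) :=
    fun k => Subtype.ext (GeneralLinearGroup.map_det j k.1)
  have h2 : (mapGU n hF hK j h).range.map (detGU hF n) = jN.range := by
    ext u
    constructor
    · rintro ⟨_, ⟨k, rfl⟩, rfl⟩; exact ⟨_, (h1 k).symm⟩
    · rintro ⟨c, rfl⟩
      obtain ⟨k, rfl⟩ := detGU_surjective hK hn c
      exact ⟨_, ⟨k, rfl⟩, h1 k⟩
  have := jN.range.card_mul_index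
  rwa [card_normOne hF, ← Nat.card_congr (MonoidHom.ofInjective (f := jN) fun a b e => Subtype.ext
    (Units.map_injective j.injective (congrArg Subtype.val e))).toEquiv, card_normOne hK,
    mul_comm, ← h2] at this

end U

end Cfsg.Agent.H28
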