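import Cfsg.Agent.H28.PrimeEl

/-! Invariant subspaces and elementary divisors. -/

set_option autoImplicit false

namespace Cfsg.Agent.H28

open Polynomial Module

variable {F V W : Type*} [Field F] [AddCommGroup V] [Module F V] [AddCommGroup W] [Module F W]

/-- invariant subspace -/
def Iv (a : End F V) (U : Submodule F V) : Prop := ∀ x ∈ U, a x ∈ U

theorem iv_iff {a : End F V} {U : Submodule F V} : U.map a ≤ U ↔ Iv a U := Submodule.map_le_iff_le_comap

theorem Iv.sup {a : End F V} {U U' : Submodule F V} (h : Iv a U) (h' : Iv a U') : Iv a (U ⊔ U') :=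
  iv_iff.1 (by rw [Submodule.map_sup]; exact sup_le_sup (iv_iff.2 h) (iv_iff.2 h'))

theorem Iv.inf {a : End F V} {U U' : Submodule F V} (h : Iv a U) (h' : Iv a U') : Iv a (U ⊓ U') :=
  fun x hx => ⟨h x hx.1, h' x hx.2⟩

theorem iv_bot (a : End F V) : Iv a ⊥ := fun x hx => by simp [(Submodule.mem_bot F).1 hx]

theorem iv_top (a : End F V) : Iv a ⊤ := fun _ _ => trivial

theorem Iv.smul {a : End F V} {U : Submodule F V} (h : Iv a U) (c : F) : Iv (c • a) U :=
  fun x hx => U.smul_mem c (h x hx)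

theorem iv_smul_iff {a : End F V} {U : Submodule F V} {c : F} (hc : c ≠ 0) : Iv (c • a) U ↔ Iv a U :=
  ⟨fun h => by simpa [smul_smul, hc] using h.smul c⁻¹, fun h => h.smul c⟩

theorem Iv.pow {a : End F V} {U : Submodule F V} (h : Iv a U) (k : ℕ) : Iv (a ^ k) U :=
  fun _ hx => End.pow_apply_mem_of_forall_mem k h _ hx

theorem Iv.aeval {a : End F V} {U : Submodule F V} (h : Iv a U) (g : F[X]) : Iv (Polynomial.aeval a g) U := fun x hx => by
  rw [aeval_eq_sum_range, LinearMap.sum_apply]
  exact U.sum_mem fun i _ => (h.pow i).smul _ x hx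

theorem Iv.finsetSup {ι : Type*} {a : End F V} {D : ι → Submodule F V} {T : Finset ι} (h : ∀ i ∈ T, Iv a (D i)) :
    Iv a (T.sup D) := Finset.sup_induction (iv_bot a) (fun _ h _ h' => h.sup h') h

theorem map_smul_eq {a : End F V} {U : Submodule F V} {c : F} (hc : c ≠ 0) : U.map (c • a) = U.map a :=
  Submodule.map_smul _ _ _ hc

theorem sim_restrict_range {a : End F V} {b : End F W} (j : W →ₗ[F] V) (hj : Function.Injective j)
    (h : ∀ w, j (b w) = a (j w)) : ∃ h' : Iv a (LinearMap.range j), Sim b (a.restrict h') :=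
  ⟨by rintro _ ⟨w, rfl⟩; exact ⟨_, h w⟩, LinearEquiv.ofInjective j hj, fun w => Subtype.ext (h w)⟩

/-- the degree of an elementary divisor -/
noncomputable abbrev PP.dg (x : PP F) : ℕ := x.k * x.f.natDegree

/-- the total degree -/
noncomputable def tdg (M : Multiset (PP F)) : ℕ := (M.map PP.dg).sum

@[simp] theorem tdg_add (M N : Multiset (PP F)) : tdg (M + N) = tdg M + tdg N := by simp [tdg]

@[simp] theorem tdg_zero : tdg (0 : Multiset (PP F)) = 0 := rfl

@[simp] theorem tdg_nsmul (M : Multiset (PP F)) (k : ℕ) : tdg (k • M) = k * tdg M := by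
  simp [tdg, Multiset.map_nsmul, Multiset.sum_nsmul]

@[simp] theorem tdg_singleton (x : PP F) : tdg {x} = x.dg := by simp [tdg]

@[simp] theorem tdg_replicate (x : PP F) (k : ℕ) : tdg (.replicate k x) = k * x.dg := by simp [tdg]

@[simp] theorem tdg_cons (x : PP F) (M : Multiset (PP F)) : tdg (x ::ₘ M) = x.dg + tdg M := by simp [tdg]

theorem PP.dg_pos (x : PP F) : 0 < x.dg := Nat.mul_pos x.pos x.natDegree_f_pos

theorem tdg_eq_zero {M : Multiset (PP F)} (h : tdg M = 0) : M = 0 := by
  induction M using Multiset.induction_on with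
  | empty => rfl
  | cons x M _ => have := x.dg_pos; rw [tdg_cons] at h; omega

theorem tdg_sum {ι : Type*} (T : Finset ι) (M : ι → Multiset (PP F)) : tdg (∑ i ∈ T, M i) = ∑ i ∈ T, tdg (M i) := by
  classical
  induction T using Finset.induction_on with
  | empty => rfl
  | insert i T hi ih => rw [Finset.sum_insert hi, Finset.sum_insert hi, tdg_add, ih]

theorem tdg_of_const {M : Multiset (PP F)} {c : ℕ} (h : ∀ x ∈ M, x.dg = c) : tdg M = M.card * c := by
  rw [tdg, Multiset.map_congr rfl h]; simp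

variable [FiniteDimensional F V] [FiniteDimensional F W]

theorem tdg_ed (a : End F V) : tdg (ed a) = finrank F V := (finrank_eq_sum_ed a).symm

open Classical in
/-- the elementary divisors on an invariant subspace -/
noncomputable def edOn (a : End F V) (U : Submodule F V) : Multiset (PP F) :=
  if h : Iv a U then ed (a.restrict h) else 0

variable {a : End F V} {U U' : Submodule F V}

theorem edOn_eq (h : Iv a U) : edOn a U = ed (a.restrict h) := dif_pos h

theorem tdg_edOn (h : Iv a U) : tdg (edOn a U) = finrank F U := by rw [edOn_eq h, tdg_ed]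

theorem edOn_range {b : End F W} (j : W →ₗ[F] V) (hj : Function.Injective j) (h : ∀ w, j (b w) = a (j w)) :
    Iv a (LinearMap.range j) ∧ edOn a (LinearMap.range j) = ed b :=
  let ⟨h1, h2⟩ := sim_restrict_range j hj h
  ⟨h1, by rw [edOn_eq h1, h2.ed_eq]⟩

theorem edOn_top (a : End F V) : edOn a ⊤ = ed a := by
  simpa using (edOn_range (a := a) (b := a) LinearMap.id (fun _ _ h => h) fun _ => rfl).2

theorem edOn_bot (a : End F V) : edOn a ⊥ = 0 := tdg_eq_zero (by rw [tdg_edOn (iv_bot a), finrank_bot])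

theorem edOn_sup (h : Iv a U) (h' : Iv a U') (hd : Disjoint U U') : edOn a (U ⊔ U') = edOn a U + edOn a U' := by
  have := (edOn_range (a := a) (b := (a.restrict h).prodMap (a.restrict h')) (U.subtype.coprod U'.subtype)
    (by rw [← LinearMap.ker_eq_bot, LinearMap.ker_coprod_of_disjoint_range _ _ (by simpa), Submodule.ker_subtype,
      Submodule.ker_subtype, Submodule.prod_bot])
    fun w => (map_add a _ _).symm).2
  rwa [LinearMap.range_coprod, Submodule.range_subtype, Submodule.range_subtype, ed_prodMap, ← edOn_eq, ← edOn_eq] at this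

theorem ed_eq_add (h : Iv a U) (h' : Iv a U') (hd : IsCompl U U') : ed a = edOn a U + edOn a U' := by
  rw [← edOn_sup h h' hd.disjoint, hd.sup_eq_top, edOn_top]

theorem edOn_finsetSup {ι : Type*} {D : ι → Submodule F V} (hD : iSupIndep D) {T : Finset ι}
    (h : ∀ i ∈ T, Iv a (D i)) : edOn a (T.sup D) = ∑ i ∈ T, edOn a (D i) := by
  classical
  induction T using Finset.induction_on with
  | empty => simp [edOn_bot]
  | insert i T hi ih =>
    have h1 := fun j hj => h j (Finset.mem_insert_of_mem hj)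
    rw [Finset.sup_insert, Finset.sum_insert hi, edOn_sup (h i (Finset.mem_insert_self _ _)) (Iv.finsetSup h1)
      ((hD i).mono_right (Finset.sup_le fun j hj => le_iSup₂_of_le j (by rintro rfl; exact hi hj) le_rfl)), ih h1]

theorem edOn_map {b : End F W} (e : W ≃ₗ[F] V) (h : ∀ w, e (b w) = a (e w)) {U : Submodule F W} (hU : Iv b U) :
    Iv a (U.map (e : W →ₗ[F] V)) ∧ edOn a (U.map (e : W →ₗ[F] V)) = edOn b U := by
  have := edOn_range (a := a) (b := b.restrict hU) ((e : W →ₗ[F] V) ∘ₗ U.subtype)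
    (e.injective.comp U.injective_subtype) fun w => h w
  rwa [LinearMap.range_comp, Submodule.range_subtype, ← edOn_eq] at this

omit [FiniteDimensional F V] [FiniteDimensional F W] in
theorem iSupIndep_single {ι : Type*} [DecidableEq ι] (φ : ι → Type*) [∀ i, AddCommGroup (φ i)] [∀ i, Module F (φ i)] :
    iSupIndep fun i => LinearMap.range (LinearMap.single F φ i) := fun i => by
  refine Disjoint.mono_right (c := LinearMap.ker (LinearMap.proj i)) (iSup₂_le fun j hj => ?_) ?_
  · rintro _ ⟨v, rfl⟩; simp [Ne.symm hj]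
  · rw [Submodule.disjoint_def]
    rintro _ ⟨v, rfl⟩ h
    simp only [LinearMap.mem_ker, LinearMap.coe_proj, LinearMap.coe_single, Function.eval, Pi.single_eq_same] at h
    simp [h]

theorem exists_decomp {ι : Type*} [Fintype ι] (ν : ι → Multiset (PP F)) (h : ed a = ∑ i, ν i) :
    ∃ D : ι → Submodule F V, iSupIndep D ∧ iSup D = ⊤ ∧ ∀ i, Iv a (D i) ∧ edOn a (D i) = ν i := by
  classical
  obtain ⟨e, he⟩ : Sim (piEnd fun i => model (ν i)) a := sim_iff_ed.2 (by rw [ed_piEnd, h]; simp only [ed_model])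
  refine ⟨fun i => LinearMap.range (e.toLinearMap ∘ₗ
    LinearMap.single F (fun i => ∀ x : ν i, AdjoinRoot x.1.poly) i), ?_, ?_, fun i => ?_⟩
  · simp only [LinearMap.range_comp]
    exact (iSupIndep_single (fun i => ∀ x : ν i, AdjoinRoot x.1.poly)).map_orderIso (Submodule.orderIsoMapComap e)
  · simp only [LinearMap.range_comp, ← Submodule.map_iSup, LinearMap.iSup_range_single, Submodule.map_top,
      LinearEquiv.range]
  · have := edOn_range (a := a) (b := model (ν i)) (e.toLinearMap ∘ₗ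
      LinearMap.single F (fun i => ∀ x : ν i, AdjoinRoot x.1.poly) i)
      (e.injective.comp (Pi.single_injective (M := fun i => ∀ x : ν i, AdjoinRoot x.1.poly) i)) fun w => by
        simp only [LinearMap.comp_apply, LinearEquiv.coe_coe, ← he]
        congr 1
        ext j : 1
        by_cases hj : j = i
        · subst hj; simp
        · simp [hj]
    rwa [ed_model] at this

theorem exists_isCompl_of_ed {M N : Multiset (PP F)} (h : ed a = M + N) :
    ∃ U U', IsCompl U U' ∧ Iv a U ∧ Iv a U' ∧ edOn a U = M ∧ edOn a U' = N := by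
  obtain ⟨e, he⟩ : Sim ((model M).prodMap (model N)) a := sim_iff_ed.2 (by rw [ed_prodMap, h, ed_model, ed_model])
  have h1 := edOn_range (a := a) (b := model M) (e.toLinearMap ∘ₗ LinearMap.inl F _ _)
    (e.injective.comp LinearMap.inl_injective) fun w => by
      simp only [LinearMap.comp_apply, LinearEquiv.coe_coe, ← he, LinearMap.inl_apply, LinearMap.prodMap_apply, map_zero]
  have h2 := edOn_range (a := a) (b := model N) (e.toLinearMap ∘ₗ LinearMap.inr F _ _)
    (e.injective.comp LinearMap.inr_injective) fun w => by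
      simp only [LinearMap.comp_apply, LinearEquiv.coe_coe, ← he, LinearMap.inr_apply, LinearMap.prodMap_apply, map_zero]
  rw [ed_model] at h1 h2
  refine ⟨_, _, ?_, h1.1, h2.1, h1.2, h2.2⟩
  simp only [LinearMap.range_comp]
  exact (Submodule.orderIsoMapComap e).isCompl LinearMap.isCompl_range_inl_inr

theorem exists_compl_iff (m : ℕ) : (∃ U U' : Submodule F V, IsCompl U U' ∧ finrank F U = m ∧ Iv a U ∧ Iv a U') ↔
    ∃ M ≤ ed a, tdg M = m := by
  constructor
  · rintro ⟨U, U', h1, rfl, h2, h3⟩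
    exact ⟨edOn a U, by rw [ed_eq_add h2 h3 h1]; exact le_self_add, tdg_edOn h2⟩
  · rintro ⟨M, h1, rfl⟩
    obtain ⟨N, h1⟩ := Multiset.le_iff_exists_add.1 h1
    obtain ⟨U, U', h2, h3, h4, rfl, -⟩ := exists_isCompl_of_ed h1
    exact ⟨U, U', h2, (tdg_edOn h3).symm, h3, h4⟩

omit [FiniteDimensional F V] in
theorem Iv.exists_compl {g : F[X]} (hg : Squarefree g) (h0 : Polynomial.aeval a g = 0) (h : Iv a U) :
    ∃ U', Iv a U' ∧ IsCompl U U' :=
  End.isSemisimple_iff.1 (End.isSemisimple_of_squarefree_aeval_eq_zero hg h0) U h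

theorem edOn_le_of_ss {g : F[X]} (hg : Squarefree g) (h0 : aeval a g = 0) (h : Iv a U) (h' : Iv a U') (hle : U ≤ U') :
    edOn a U ≤ edOn a U' := by
  obtain ⟨C, h1, h2⟩ := Iv.exists_compl hg h0 h
  have : U' = U ⊔ (C ⊓ U') := by rw [← sup_inf_assoc_of_le _ hle, h2.sup_eq_top, top_inf_eq]
  rw [this, edOn_sup h (h1.inf h') (h2.disjoint.mono_right inf_le_left)]
  exact le_self_add

theorem exists_iv_iff {g : F[X]} (hg : Squarefree g) (h0 : aeval a g = 0) (m : ℕ) :
    (∃ U : Submodule F V, finrank F U = m ∧ Iv a U) ↔ ∃ M ≤ ed a, tdg M = m := by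
  rw [← exists_compl_iff]
  exact ⟨fun ⟨U, h1, h2⟩ => let ⟨U', h3, h4⟩ := Iv.exists_compl hg h0 h2; ⟨U, U', h4, h1, h2, h3⟩,
    fun ⟨U, _, _, h1, h2, _⟩ => ⟨U, h1, h2⟩⟩

theorem exists_flag_iff {g : F[X]} (hg : Squarefree g) (h0 : aeval a g = 0) (m k : ℕ) :
    (∃ U U' : Submodule F V, U ≤ U' ∧ finrank F U = m ∧ finrank F U' = k ∧ Iv a U ∧ Iv a U') ↔
      ∃ M N, M ≤ N ∧ N ≤ ed a ∧ tdg M = m ∧ tdg N = k := by
  constructor
  · rintro ⟨U, U', h1, rfl, rfl, h2, h3⟩
    exact ⟨_, _, edOn_le_of_ss hg h0 h2 h3 h1, edOn_top a ▸ edOn_le_of_ss hg h0 h3 (iv_top a) le_top, tdg_edOn h2,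
      tdg_edOn h3⟩
  · rintro ⟨M, N, h1, h2, rfl, rfl⟩
    obtain ⟨M', rfl⟩ := Multiset.le_iff_exists_add.1 h1
    obtain ⟨N', h2⟩ := Multiset.le_iff_exists_add.1 h2
    obtain ⟨D, h3, -, h4⟩ := exists_decomp (a := a) ![M, M', N'] (by simp [h2, Fin.sum_univ_three])
    have := edOn_sup (h4 0).1 (h4 1).1 (h3.pairwiseDisjoint (by simp))
    rw [(h4 0).2, (h4 1).2] at this
    exact ⟨D 0, D 0 ⊔ D 1, le_sup_left, by rw [← tdg_edOn (h4 0).1, (h4 0).2]; rfl,
      by rw [← tdg_edOn ((h4 0).1.sup (h4 1).1), this]; rfl, (h4 0).1, (h4 0).1.sup (h4 1).1⟩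

end Cfsg.Agent.H28
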