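import Cfsg.Agent.H28.Elu1

/-! Sylow arguments for transitive actions on subspaces; elements with a scalar prime power. -/

set_option autoImplicit false

namespace Cfsg.Agent.H28

open Polynomial Module
open scoped Pointwise

theorem card_eq_index_of_trans {G X : Type*} [Group G] [MulAction G X] {P : X → Prop} {x : X} (hx : P x)
    (hP : ∀ g : G, P (g • x)) (ht : ∀ y, P y → ∃ g : G, g • x = y) :
    Nat.card {y // P y} = (MulAction.stabilizer G x).index := by
  rw [MulAction.index_stabilizer, ← Nat.card_coe_set_eq]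
  exact Nat.card_congr (Equiv.subtypeEquivRight fun y => ⟨ht y, by rintro ⟨g, rfl⟩; exact hP g⟩)

theorem not_dvd_card_of_fixed {G X : Type*} [Group G] [Finite G] [MulAction G X] {P : X → Prop} {r : ℕ} [Fact r.Prime]
    (hP : ∀ (g : G) x, P x → P (g • x)) (ht : ∀ x y, P x → P y → ∃ g : G, g • x = y)
    (h : ∀ R : Subgroup G, IsPGroup r R → ∃ x, P x ∧ ∀ g ∈ R, g • x = x) : ¬ r ∣ Nat.card {y // P y} := by
  obtain ⟨R⟩ : Nonempty (Sylow r G) := inferInstance
  obtain ⟨x, hx, h⟩ := h R R.isPGroup'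
  rw [card_eq_index_of_trans hx (fun g => hP g x hx) fun y => ht x y hx]
  exact fun h1 => R.not_dvd_index (h1.trans (Subgroup.index_dvd_of_le h))

theorem card_modEq_fixed {P M : Type*} [Group P] [Finite M] {r : ℕ} [Fact r.Prime] (hP : IsPGroup r P)
    (ρ : P →* Function.End M) (S : M → Prop) (hS : ∀ g v, S v → S (ρ g v)) :
    Nat.card {v // S v} ≡ Nat.card {v // S v ∧ ∀ g, ρ g v = v} [MOD r] := by
  let _ : MulAction P {v // S v} :=
    { smul g v := ⟨ρ g v, hS g v v.2⟩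
      one_smul v := Subtype.ext (by change ρ 1 v = v; rw [map_one]; rfl)
      mul_smul g h v := Subtype.ext (by change ρ (g * h) v = ρ g (ρ h v); rw [map_mul]; rfl) }
  rw [show Nat.card {v // S v ∧ ∀ g, ρ g v = v} = Nat.card (MulAction.fixedPoints P {v // S v}) from
    Nat.card_congr ⟨fun v => ⟨⟨v.1, v.2.1⟩, fun g => Subtype.ext (v.2.2 g)⟩,
      fun v => ⟨v.1.1, v.1.2, fun g => congrArg Subtype.val (v.2 g)⟩, fun _ => rfl, fun _ => rfl⟩]
  exact hP.card_modEq_card_fixedPoints _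

variable {F V W : Type*} [Field F] [AddCommGroup V] [Module F V] [AddCommGroup W] [Module F W]

theorem smul_sub_eq (g : V ≃ₗ[F] V) (U : Submodule F V) : g • U = U.map (g : V →ₗ[F] V) := rfl

/-- the common fixed space -/
def fixR {P : Type*} (ρ : P → End F V) : Submodule F V := ⨅ g, LinearMap.ker (ρ g - 1)

theorem mem_fixR {P : Type*} {ρ : P → End F V} {v : V} : v ∈ fixR ρ ↔ ∀ g, ρ g v = v := by
  simp [fixR, sub_eq_zero]

/-- endomorphisms as functions -/
def toFE (F V : Type*) [Field F] [AddCommGroup V] [Module F V] : End F V →* Function.End V :=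
  ⟨⟨fun f => (f : V → V), rfl⟩, fun _ _ => rfl⟩

variable [FiniteDimensional F V] [FiniteDimensional F W]

theorem finrank_map_of_inj {a : V →ₗ[F] W} (ha : Function.Injective a) (U : Submodule F V) :
    finrank F (U.map a) = finrank F U := (Submodule.equivMapOfInjective a ha U).finrank_eq.symm

theorem Iv.map_eq {a : End F V} (ha : Function.Injective a) {U : Submodule F V} (h : Iv a U) : U.map a = U :=
  Submodule.eq_of_le_of_finrank_eq (iv_iff.2 h) (finrank_map_of_inj ha U)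

theorem exists_map_family {ι : Type*} [Fintype ι] {D : ι → Submodule F V} {D' : ι → Submodule F W} (h1 : iSupIndep D)
    (h2 : iSup D = ⊤) (h3 : iSupIndep D') (h4 : iSup D' = ⊤) (φ : ∀ i, D i ≃ₗ[F] D' i) :
    ∃ g : V ≃ₗ[F] W, (∀ i (v : D i), g v = φ i v) ∧ ∀ i, (D i).map (g : V →ₗ[F] W) = D' i := by
  classical
  let e := LinearEquiv.ofBijective (DirectSum.coeLinearMap D) (DirectSum.isInternal_submodule_of_iSupIndep_of_iSup_eq_top h1 h2)
  let e' := LinearEquiv.ofBijective (DirectSum.coeLinearMap D')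
    (DirectSum.isInternal_submodule_of_iSupIndep_of_iSup_eq_top h3 h4)
  have h : ∀ i (v : D i), (e.symm.trans ((DFinsupp.mapRange.linearEquiv φ).trans e')) v = φ i v := fun i v => by
    have : e.symm v = DirectSum.of _ i v := e.symm_apply_eq.2 (DirectSum.coeLinearMap_of D i v).symm
    rw [LinearEquiv.trans_apply, this, LinearEquiv.trans_apply, ← DirectSum.coeLinearMap_of D' i]
    exact congrArg e' (DFinsupp.mapRange_single (hf := fun i => map_zero (φ i)))
  refine ⟨_, h, fun i => Submodule.eq_of_le_of_finrank_eq ?_ ?_⟩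
  · rintro _ ⟨v, hv, rfl⟩
    exact (h i ⟨v, hv⟩).symm ▸ (φ i _).2
  · rw [LinearEquiv.finrank_map_eq, (φ i).finrank_eq]

theorem exists_map_compl {U U' : Submodule F V} {T T' : Submodule F W} (h1 : IsCompl U U') (h2 : IsCompl T T')
    (φ : U ≃ₗ[F] T) (ψ : U' ≃ₗ[F] T') :
    ∃ g : V ≃ₗ[F] W, (∀ v : U, g v = φ v) ∧ (∀ v : U', g v = ψ v) ∧ U.map (g : V →ₗ[F] W) = T ∧
      U'.map (g : V →ₗ[F] W) = T' := by
  let g := (U.prodEquivOfIsCompl U' h1).symm.trans ((φ.prodCongr ψ).trans (T.prodEquivOfIsCompl T' h2))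
  have h3 : ∀ v : U, g v = φ v := fun v => by simp [g]
  have h4 : ∀ v : U', g v = ψ v := fun v => by simp [g]
  refine ⟨g, h3, h4, Submodule.eq_of_le_of_finrank_eq ?_ ?_, Submodule.eq_of_le_of_finrank_eq ?_ ?_⟩
  · rintro _ ⟨v, hv, rfl⟩
    exact (h3 ⟨v, hv⟩).symm ▸ (φ _).2
  · rw [LinearEquiv.finrank_map_eq, φ.finrank_eq]
  · rintro _ ⟨v, hv, rfl⟩
    exact (h4 ⟨v, hv⟩).symm ▸ (ψ _).2
  · rw [LinearEquiv.finrank_map_eq, ψ.finrank_eq]

theorem exists_extend_equiv {U T : Submodule F V} (φ : U ≃ₗ[F] T) :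
    ∃ g : V ≃ₗ[F] V, (∀ v : U, g v = φ v) ∧ U.map (g : V →ₗ[F] V) = T := by
  obtain ⟨U', h1⟩ := U.exists_isCompl
  obtain ⟨T', h2⟩ := T.exists_isCompl
  have := Submodule.finrank_add_eq_of_isCompl h1
  have := Submodule.finrank_add_eq_of_isCompl h2
  have := φ.finrank_eq
  obtain ⟨g, h3, -, h4, -⟩ := exists_map_compl h1 h2 φ (LinearEquiv.ofFinrankEq U' T' (by omega))
  exact ⟨g, h3, h4⟩

theorem exists_map_flag {U U' T T' : Submodule F V} (h1 : U ≤ U') (h2 : T ≤ T') (h3 : finrank F U = finrank F T)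
    (h4 : finrank F U' = finrank F T') :
    ∃ g : V ≃ₗ[F] V, U.map (g : V →ₗ[F] V) = T ∧ U'.map (g : V →ₗ[F] V) = T' := by
  let φ := LinearEquiv.ofFinrankEq U' T' h4
  obtain ⟨ψ, -, h5⟩ := exists_extend_equiv (LinearEquiv.ofFinrankEq ((U.comap U'.subtype).map φ.toLinearMap)
    (T.comap T'.subtype) (by rw [LinearEquiv.finrank_map_eq, (Submodule.comapSubtypeEquivOfLe h1).finrank_eq,
      (Submodule.comapSubtypeEquivOfLe h2).finrank_eq, h3]))
  obtain ⟨g, h6, h7⟩ := exists_extend_equiv (φ.trans ψ)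
  refine ⟨g, Submodule.eq_of_le_of_finrank_eq ?_ (by rw [LinearEquiv.finrank_map_eq, h3]), h7⟩
  rintro _ ⟨v, hv, rfl⟩
  have : ψ (φ ⟨v, h1 hv⟩) ∈ T.comap T'.subtype := h5 ▸ ⟨_, ⟨_, hv, rfl⟩, rfl⟩
  exact (h6 ⟨v, h1 hv⟩).symm ▸ this

theorem exists_le_finrank {U : Submodule F V} {m : ℕ} (h : m ≤ finrank F U) :
    ∃ T : Submodule F V, T ≤ U ∧ finrank F T = m := by
  obtain ⟨v, hv⟩ := exists_linearIndependent_of_le_finrank h
  exact ⟨_, Submodule.map_subtype_le U (.span F (.range v)), by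
    rw [Submodule.finrank_map_subtype_eq, finrank_span_eq_card hv, Fintype.card_fin]⟩

section Fin
variable [Fintype F] {P : Type*} [Group P] {r : ℕ} [hr : Fact r.Prime]

instance finite_linearEquiv : Finite (V ≃ₗ[F] V) :=
  have := Module.finite_of_finite F (M := V)
  Finite.of_injective _ (DFunLike.coe_injective (F := V ≃ₗ[F] V))

theorem pow_finrank_modEq (hP : IsPGroup r P) (ρ : P →* End F V) {U : Submodule F V} (hU : ∀ g, Iv (ρ g) U) :
    Fintype.card F ^ finrank F U ≡ Fintype.card F ^ finrank F ↥(U ⊓ fixR ρ) [MOD r] := by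
  have := Module.finite_of_finite F (M := V)
  have h := card_modEq_fixed hP ((toFE F V).comp ρ) (· ∈ U) fun g v hv => hU g v hv
  rw [← Nat.card_eq_fintype_card, ← Module.natCard_eq_pow_finrank, ← Module.natCard_eq_pow_finrank]
  rwa [show Nat.card {v // v ∈ U ∧ ∀ g, ((toFE F V).comp ρ) g v = v} = Nat.card ↥(U ⊓ fixR ρ) from
    Nat.card_congr (Equiv.subtypeEquivRight fun v => (and_congr_right' (mem_fixR (ρ := ρ))).symm)] at h

theorem orderOf_dvd_sub (hq : ¬ r ∣ Fintype.card F) (hP : IsPGroup r P) (ρ : P →* End F V) {U : Submodule F V}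
    (hU : ∀ g, Iv (ρ g) U) : ∃ k, finrank F U = finrank F ↥(U ⊓ fixR ρ) + orderOf (Fintype.card F : ZMod r) * k := by
  have h := (ZMod.natCast_eq_natCast_iff _ _ _).2 (pow_finrank_modEq hP ρ hU)
  obtain ⟨d, hd⟩ := Nat.exists_eq_add_of_le (Submodule.finrank_mono (inf_le_left : U ⊓ fixR ρ ≤ U))
  rw [hd, Nat.cast_pow, Nat.cast_pow, pow_add, mul_right_eq_self₀] at h
  obtain ⟨k, rfl⟩ := orderOf_dvd_of_pow_eq_one (h.resolve_right
    (pow_ne_zero _ (mt (ZMod.natCast_eq_zero_iff _ _).1 hq)))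
  exact ⟨k, hd⟩

theorem mod_le_finrank_fixR (hq : ¬ r ∣ Fintype.card F) (hP : IsPGroup r P) (ρ : P →* End F V) :
    finrank F V % orderOf (Fintype.card F : ZMod r) ≤ finrank F (fixR ρ) := by
  obtain ⟨k, hk⟩ := orderOf_dvd_sub hq hP ρ (U := ⊤) fun _ => iv_top _
  rw [finrank_top, top_inf_eq] at hk
  rw [hk, Nat.add_mul_mod_self_left]
  exact Nat.mod_le _ _

theorem exists_fixed_mod [CharP F r] (hP : IsPGroup r P) (ρ : P →* End F V) {U U' : Submodule F V}
    (hU : ∀ g, Iv (ρ g) U) (hU' : ∀ g, Iv (ρ g) U') (h : ¬ U' ≤ U) : ∃ v ∈ U', v ∉ U ∧ ∀ g, ρ g v - v ∈ U := by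
  let ρ' : P →* End F (V ⧸ U) :=
    ⟨⟨fun g => U.mapQ U (ρ g) (hU g), by ext; simp⟩, fun g h => by ext; simp [Submodule.mapQ_apply]; rfl⟩
  have h1 := pow_finrank_modEq hP ρ' (U := U'.map U.mkQ) (by rintro g _ ⟨v, hv, rfl⟩; exact ⟨_, hU' g v hv, rfl⟩)
  have h2 : finrank F (U'.map U.mkQ) ≠ 0 := fun h2 => h (by
    rwa [Submodule.finrank_eq_zero, ← le_bot_iff, Submodule.map_le_iff_le_comap, Submodule.comap_bot,
      Submodule.ker_mkQ] at h2)
  obtain ⟨k, -, hk⟩ := FiniteField.card F r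
  have h3 : r ∣ Fintype.card F := hk ▸ dvd_pow_self r k.ne_zero
  have h4 : (U'.map U.mkQ ⊓ fixR ρ') ≠ ⊥ := fun h4 => by
    rw [h4, finrank_bot, pow_zero] at h1
    exact hr.out.not_dvd_one ((h1.dvd_iff dvd_rfl).1 (h3.trans (dvd_pow_self _ h2)))
  obtain ⟨_, ⟨⟨v, hv, rfl⟩, h5⟩, h6⟩ := (Submodule.ne_bot_iff _).1 h4
  exact ⟨v, hv, by simpa using h6, fun g => (Submodule.Quotient.eq U).1 (mem_fixR.1 h5 g)⟩

omit [FiniteDimensional F V] [Fintype F] [Group P] in
theorem iv_sup_span {ρ : P → End F V} {U : Submodule F V} (hU : ∀ g, Iv (ρ g) U) {v : V} (h : ∀ g, ρ g v - v ∈ U) (g : P) :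
    Iv (ρ g) (U ⊔ F ∙ v) := iv_iff.1 (by
  rw [Submodule.map_sup, Submodule.map_span, Set.image_singleton]
  refine sup_le ((iv_iff.2 (hU g)).trans le_sup_left) ((Submodule.span_singleton_le_iff_mem _ _).2 ?_)
  rw [← sub_add_cancel (ρ g v) v]
  exact Submodule.add_mem_sup (h g) (Submodule.mem_span_singleton_self v))

theorem exists_iv_between [CharP F r] (hP : IsPGroup r P) (ρ : P →* End F V) {U U' : Submodule F V}
    (hU : ∀ g, Iv (ρ g) U) (hU' : ∀ g, Iv (ρ g) U') (h : U ≤ U') {k : ℕ} (hk : finrank F U + k ≤ finrank F U') :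
    ∃ T : Submodule F V, U ≤ T ∧ T ≤ U' ∧ finrank F T = finrank F U + k ∧ ∀ g, Iv (ρ g) T := by
  induction k with
  | zero => exact ⟨U, le_rfl, h, rfl, hU⟩
  | succ k ih =>
    obtain ⟨T, h1, h2, h3, h4⟩ := ih (by omega)
    obtain ⟨v, h5, h6, h7⟩ := exists_fixed_mod hP ρ h4 hU' fun h => by have := Submodule.finrank_mono h; omega
    exact ⟨T ⊔ F ∙ v, le_sup_of_le_left h1, sup_le h2 ((Submodule.span_singleton_le_iff_mem _ _).2 h5),
      by rw [Submodule.finrank_sup_span_singleton h6, h3, add_assoc], iv_sup_span h4 h7⟩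

end Fin

section Cls

/-- `a` induces an element of order `r` of the projective group -/
def PO (r : ℕ) (a : End F V) : Prop := (∃ z : F, a ^ r = z • 1) ∧ ∀ z : F, a ≠ z • 1

omit [FiniteDimensional F V] in
theorem po_cases {r : ℕ} (hr : r ≠ 0) {a : End F V} (ha : Function.Injective a) (h : PO r a) :
    (∃ w : F, w ≠ 0 ∧ ∃ y : End F V, a = w • y ∧ y ^ r = 1 ∧ y ≠ 1) ∨ ∃ z : F, (∀ b, b ^ r ≠ z) ∧ a ^ r = z • 1 := by
  obtain ⟨⟨z, hz⟩, h⟩ := h
  by_cases h1 : ∃ b, b ^ r = z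
  · obtain ⟨w, rfl⟩ := h1
    have hw : w ≠ 0 := by
      rintro rfl
      refine h 0 (LinearMap.ext fun v => ?_)
      have : (a ^ r) v = (a ^ r) 0 := by simp [hz, hr]
      rw [End.coe_pow] at this
      simp [ha.iterate r this]
    exact .inl ⟨w, hw, w⁻¹ • a, by simp [smul_smul, hw], by simp [_root_.smul_pow, hz, smul_smul, hw],
      fun e => h w (by simp [← e, smul_smul, hw])⟩
  · exact .inr ⟨z, by simpa using h1, hz⟩

/-- the irreducible polynomial `X ^ r - z` -/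
noncomputable def kpp {r : ℕ} (hr : r.Prime) {z : F} (hz : ∀ b, b ^ r ≠ z) : PP F :=
  ⟨X ^ r - C z, 1, monic_X_pow_sub_C z hr.ne_zero, X_pow_sub_C_irreducible_of_prime hr hz, one_pos⟩

theorem kpp_dg {r : ℕ} (hr : r.Prime) {z : F} (hz : ∀ b, b ^ r ≠ z) : (kpp hr hz).dg = r := by
  simp [kpp, PP.dg]

theorem pow_eq_smul_iff_ed (a : End F V) (r : ℕ) (z : F) : a ^ r = z • 1 ↔ ∀ x ∈ ed a, x.poly ∣ X ^ r - C z := by
  rw [← aeval_eq_zero_iff_ed]; simp [sub_eq_zero, Algebra.algebraMap_eq_smul_one]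

theorem pow_eq_iff_kpp {r : ℕ} (hr : r.Prime) {z : F} (hz : ∀ b, b ^ r ≠ z) (a : End F V) :
    a ^ r = z • 1 ↔ ∀ x ∈ ed a, x = kpp hr hz := by
  rw [pow_eq_smul_iff_ed]
  refine forall₂_congr fun x _ => ⟨fun h => ?_, fun h => by simp [h, kpp, PP.poly]⟩
  have h0 := (kpp hr hz).irred
  refine PP.ext (eq_of_monic_of_associated x.monic (kpp hr hz).monic
    ((x.irred.dvd_irreducible_iff_associated h0).1 (x.f_dvd_poly.trans h))) (by_contra fun hk =>
    x.irred.not_isUnit (h0.squarefree _ ((?_ : _ ∣ _).trans h)))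
  have := x.pos
  rw [← pow_two]; exact pow_dvd_pow _ (by change x.k ≠ 1 at hk; omega)

theorem ed_of_nonpow {r : ℕ} (hr : r.Prime) {z : F} (hz : ∀ b, b ^ r ≠ z) {a : End F V} (h : a ^ r = z • 1) :
    ∃ k, ed a = .replicate k (kpp hr hz) ∧ finrank F V = k * r ∧ LinearMap.det a = ((-1) ^ (r + 1) * z) ^ k := by
  have h1 := Multiset.eq_replicate_card.2 ((pow_eq_iff_kpp hr hz a).1 h)
  have h2 : finrank F V = (ed a).card * r := by rw [← tdg_ed a, h1]; simp [kpp_dg]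
  refine ⟨_, h1, h2, ?_⟩
  rw [LinearMap.det_eq_sign_charpoly_coeff, charpoly_eq_prod_ed, h2]
  generalize (ed a).card = k at h1
  simp [h1, kpp, PP.poly, coeff_zero_eq_eval_zero, hr.ne_zero, mul_comm k, pow_mul, ← mul_pow, pow_succ]

theorem exists_nonpow_end {r k : ℕ} (hr : r.Prime) {z : F} (hz : ∀ b, b ^ r ≠ z) (h : finrank F V = k * r) (hk : k ≠ 0) :
    ∃ a : End F V, a ^ r = z • 1 ∧ PO r a ∧ ed a = .replicate k (kpp hr hz) ∧
      LinearMap.det a = ((-1) ^ (r + 1) * z) ^ k := by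
  obtain ⟨a, ha⟩ := exists_ed_eq (V := V) (.replicate k (kpp hr hz)) (by simpa [kpp] using h)
  have h1 := (pow_eq_iff_kpp hr hz a).2 fun x hx => Multiset.eq_of_mem_replicate (ha ▸ hx)
  obtain ⟨l, -, h2, h3⟩ := ed_of_nonpow hr hz h1
  obtain rfl : k = l := Nat.eq_of_mul_eq_mul_right hr.pos (h.symm.trans h2)
  have : Nontrivial V := Module.nontrivial_of_finrank_pos (R := F) (h ▸ Nat.mul_pos (Nat.pos_of_ne_zero hk) hr.pos)
  refine ⟨a, h1, ⟨⟨z, h1⟩, fun w e => hz w ?_⟩, ha, h3⟩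
  rw [e, _root_.smul_pow, one_pow] at h1
  exact smul_left_injective F one_ne_zero h1

theorem le_replicate_tdg {x : PP F} {k m : ℕ} (hm : m ≤ k * x.dg) :
    (∃ M ≤ Multiset.replicate k x, tdg M = m) ↔ x.dg ∣ m := by
  constructor
  · rintro ⟨M, h, rfl⟩
    obtain ⟨l, -, rfl⟩ := Multiset.le_replicate_iff.1 h
    simp
  · rintro ⟨l, rfl⟩
    exact ⟨.replicate l x, (Multiset.replicate_le_replicate x).2
      (Nat.le_of_mul_le_mul_left (by rwa [mul_comm _ k]) x.dg_pos), by simp [mul_comm]⟩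

theorem exists_le_card {α : Type*} {N : Multiset α} {b : ℕ} (hb : b ≤ N.card) : ∃ M ≤ N, M.card = b := by
  induction N using Quotient.inductionOn with
  | h l => exact ⟨l.take b, (List.take_sublist _ _).subperm, by simpa using hb⟩

theorem exists_le_of_le_map {α β : Type*} {f : α → β} {μ : Multiset α} {M : Multiset β} (h : M ≤ μ.map f) :
    ∃ ν ≤ μ, ν.map f = M := by
  induction M using Multiset.induction_on generalizing μ with
  | empty => exact ⟨0, zero_le, rfl⟩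
  | cons y M ih =>
    obtain ⟨x, hx, rfl⟩ := Multiset.mem_map.1 (Multiset.mem_of_le h (Multiset.mem_cons_self _ _))
    obtain ⟨μ, rfl⟩ := Multiset.exists_cons_of_mem hx
    rw [Multiset.map_cons, Multiset.cons_le_cons_iff] at h
    obtain ⟨ν, h1, rfl⟩ := ih h
    exact ⟨x ::ₘ ν, Multiset.cons_le_cons _ h1, Multiset.map_cons _ _ _⟩

theorem upp_dg {k : ℕ} (hk : 0 < k) : (H13.upp F k).dg = k := by
  simp [PP.dg, H13.upp, deg_X_sub_one, Nat.sub_add_cancel hk]

theorem tdg_map_upp {μ : Multiset ℕ} (h : ∀ k ∈ μ, 0 < k) : tdg (μ.map (H13.upp F)) = μ.sum := by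
  rw [tdg, Multiset.map_map]
  exact congrArg _ ((Multiset.map_congr rfl fun k hk => upp_dg (h k hk)).trans (Multiset.map_id _))

theorem le_map_upp {μ : Multiset ℕ} (h : ∀ k ∈ μ, 0 < k) (m : ℕ) :
    (∃ M ≤ μ.map (H13.upp F), tdg M = m) ↔ ∃ ν ≤ μ, ν.sum = m := by
  constructor
  · rintro ⟨M, h1, rfl⟩
    obtain ⟨ν, h2, rfl⟩ := exists_le_of_le_map h1
    exact ⟨ν, h2, (tdg_map_upp fun k hk => h k (Multiset.mem_of_le h2 hk)).symm⟩
  · rintro ⟨ν, h1, rfl⟩
    exact ⟨_, Multiset.map_le_map h1, tdg_map_upp fun k hk => h k (Multiset.mem_of_le h1 hk)⟩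

/-- sub-multisets of `N + e • [1]` where all members of `N` have degree `c` -/
theorem le_add_replicate {N M : Multiset (PP F)} {e c : ℕ} (hN : ∀ x ∈ N, x.dg = c)
    (h : M ≤ N + .replicate e (H13.upp F 1)) : ∃ b ≤ N.card, ∃ d ≤ e, tdg M = b * c + d := by
  obtain ⟨M₁, M₂, rfl, h1, h2⟩ : ∃ M₁ M₂, M = M₁ + M₂ ∧ M₁ ≤ N ∧ M₂ ≤ .replicate e (H13.upp F 1) :=
    ⟨M ∩ N, M - N, by rw [add_comm, Multiset.sub_add_inter], Multiset.inter_le_right,
      Multiset.sub_le_iff_le_add'.2 h⟩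
  obtain ⟨d, h3, rfl⟩ := Multiset.le_replicate_iff.1 h2
  exact ⟨_, Multiset.card_le_card h1, d, h3, by
    rw [tdg_add, tdg_of_const fun x hx => hN x (Multiset.mem_of_le h1 hx)]; simp [upp_dg]⟩

theorem exists_le_add_replicate {N : Multiset (PP F)} {e c b d : ℕ} (hN : ∀ x ∈ N, x.dg = c) (hb : b ≤ N.card)
    (hd : d ≤ e) : ∃ M ≤ N + .replicate e (H13.upp F 1), tdg M = b * c + d := by
  obtain ⟨M, h1, rfl⟩ := exists_le_card hb
  exact ⟨M + .replicate d _, add_le_add h1 ((Multiset.replicate_le_replicate _).2 hd), by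
    rw [tdg_add, tdg_of_const fun x hx => hN x (Multiset.mem_of_le h1 hx)]; simp [upp_dg]⟩

variable [Fintype F]

theorem exists_pow_eq_of_not_dvd {r : ℕ} (hr : r.Prime) (h : ¬ r ∣ Fintype.card F - 1) (z : F) : ∃ b, b ^ r = z := by
  classical
  by_cases hz : z = 0
  · exact ⟨0, by simp [hz, hr.ne_zero]⟩
  obtain ⟨b, hb⟩ := (powCoprime (G := Fˣ) (n := r) (by
    rw [Nat.card_units, Nat.card_eq_fintype_card]; exact ((Nat.Prime.coprime_iff_not_dvd hr).2 h).symm)).surjective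
    (Units.mk0 z hz)
  exact ⟨b, congrArg Units.val hb⟩

theorem orderOf_eq_one_iff_dvd {r : ℕ} : orderOf (Fintype.card F : ZMod r) = 1 ↔ r ∣ Fintype.card F - 1 := by
  rw [orderOf_eq_one_iff, ← Nat.cast_one, eq_comm, ZMod.natCast_eq_natCast_iff,
    Nat.modEq_iff_dvd' Fintype.card_pos]

theorem exists_pow_eq_iff {r : ℕ} (h : r ∣ Fintype.card F - 1) {z : F} (hz : z ≠ 0) :
    (∃ b, b ^ r = z) ↔ z ^ ((Fintype.card F - 1) / r) = 1 := by
  classical
  obtain ⟨e, he⟩ := h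
  have h0 : 0 < r * e := by have := Fintype.one_lt_card (α := F); omega
  rw [he, Nat.mul_div_cancel_left _ (Nat.pos_of_mul_pos_right h0)]
  constructor
  · rintro ⟨b, rfl⟩
    rw [← pow_mul, ← he, FiniteField.pow_card_sub_one_eq_one b (by rintro rfl; exact hz (zero_pow (by rintro rfl; simp at h0)))]
  · intro h1
    obtain ⟨g, hg⟩ := IsCyclic.exists_monoid_generator (α := Fˣ)
    obtain ⟨j, hj⟩ := hg (Units.mk0 z hz)
    have h2 : orderOf g ∣ j * e := orderOf_dvd_of_pow_eq_one (Units.ext (by simpa [pow_mul, hj]))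
    rw [orderOf_eq_card_of_forall_mem_powers hg, Nat.card_units, Nat.card_eq_fintype_card, he] at h2
    obtain ⟨l, rfl⟩ := Nat.dvd_of_mul_dvd_mul_right (Nat.pos_of_mul_pos_left h0) h2
    exact ⟨g ^ l, by simpa [← pow_mul, mul_comm] using congrArg Units.val hj⟩

theorem exists_nonpow_pow_iff {r k : ℕ} (hr : r.Prime) (h : r ∣ Fintype.card F - 1) (hk : k ≠ 0) :
    (∃ z : F, (∀ b, b ^ r ≠ z) ∧ z ^ k = 1) ↔ padicValNat r (Fintype.card F - 1) ≤ padicValNat r k := by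
  classical
  have := Fact.mk hr
  have h0 : Fintype.card F - 1 ≠ 0 := by have := Fintype.one_lt_card (α := F); omega
  constructor
  · rintro ⟨z, h1, h2⟩
    have hz : z ≠ 0 := fun e => h1 0 (by simp [e, hr.ne_zero])
    obtain ⟨e, he⟩ := orderOf_dvd_of_pow_eq_one (FiniteField.pow_card_sub_one_eq_one z hz)
    have h3 : ¬ r ∣ e := by
      rintro ⟨e, rfl⟩
      obtain ⟨b, hb⟩ := (exists_pow_eq_iff h hz).2 (by
        rw [he, mul_left_comm, Nat.mul_div_cancel_left _ hr.pos, pow_mul, pow_orderOf_eq_one, one_pow])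
      exact h1 b hb
    rw [he] at h0
    rw [he, padicValNat.mul (left_ne_zero_of_mul h0) (right_ne_zero_of_mul h0), padicValNat.eq_zero_of_not_dvd h3,
      add_zero, ← padicValNat_dvd_iff_le hk]
    exact pow_padicValNat_dvd.trans (orderOf_dvd_of_pow_eq_one h2)
  · intro h1
    obtain ⟨g, hg⟩ := IsCyclic.exists_ofOrder_eq_natCard (α := Fˣ)
    rw [Nat.card_units, Nat.card_eq_fintype_card] at hg
    obtain ⟨e, he⟩ := pow_padicValNat_dvd (p := r) (n := Fintype.card F - 1)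
    obtain ⟨l, hl⟩ := (padicValNat_dvd_iff_le hk).2 h1
    refine ⟨(g ^ e : Fˣ), fun b hb => ?_, ?_⟩
    · have h2 := (exists_pow_eq_iff h (Units.ne_zero _)).1 ⟨b, hb⟩
      rw [← Units.val_pow_eq_pow_val, Units.val_eq_one, ← pow_mul, ← orderOf_dvd_iff_pow_eq_one, hg] at h2
      obtain ⟨d, hd⟩ := h
      rw [hd, Nat.mul_div_cancel_left _ hr.pos] at h2
      have h3 := Nat.dvd_of_mul_dvd_mul_right (Nat.pos_of_ne_zero (by rintro rfl; exact h0 hd)) h2
      refine pow_succ_padicValNat_not_dvd (p := r) h0 ?_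
      conv_rhs => rw [he]
      exact pow_succ r _ ▸ Nat.mul_dvd_mul_left _ h3
    · rw [← Units.val_pow_eq_pow_val, Units.val_eq_one, ← pow_mul, ← orderOf_dvd_iff_pow_eq_one, hg, hl]
      conv_lhs => rw [he]
      exact ⟨l, by ring⟩

theorem exists_nonpow_det_iff {r n : ℕ} (hr : r.Prime) (h : r ∣ Fintype.card F - 1) (hn : n ≠ 0) :
    (∃ (z : F) (k : ℕ), (∀ b, b ^ r ≠ z) ∧ n = k * r ∧ ((-1) ^ (r + 1) * z) ^ k = 1) ↔
      ¬ (padicValNat r n ≤ padicValNat r (Fintype.card F - 1) ∧ (r = 2 → Even n → Fintype.card F % 4 = 1)) := by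
  have := Fact.mk hr
  have h0 : Fintype.card F - 1 ≠ 0 := by have := Fintype.one_lt_card (α := F); omega
  have h1 := one_le_padicValNat_of_dvd h0 h
  by_cases h2 : r = 2 ∧ Fintype.card F % 4 = 3
  · obtain ⟨rfl, h2⟩ := h2
    constructor
    · rintro ⟨z, k, -, rfl, -⟩ ⟨-, h3⟩
      have := h3 rfl (by simp); omega
    · intro h3
      obtain ⟨k, rfl⟩ : 2 ∣ n := by
        by_contra h4
        exact h3 ⟨by rw [padicValNat.eq_zero_of_not_dvd h4]; omega, fun _ h5 => absurd h5.two_dvd h4⟩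
      exact ⟨-1, k, fun b hb => FiniteField.isSquare_neg_one_iff.1 ⟨b, by rw [← hb, sq]⟩ h2, mul_comm _ _, by norm_num⟩
  · obtain ⟨c, hc⟩ : ∃ c : F, c ^ r = (-1) ^ (r + 1) := by
      rcases hr.eq_two_or_odd' with rfl | h3
      · obtain ⟨c, hc⟩ := FiniteField.isSquare_neg_one_iff.2 fun h => h2 ⟨rfl, h⟩
        exact ⟨c, by rw [sq, ← hc]; norm_num⟩
      · exact ⟨1, by rw [h3.add_one.neg_one_pow, one_pow]⟩
    have h3 : ∀ z : F, (∀ b, b ^ r ≠ z) → ∀ b, b ^ r ≠ (-1) ^ (r + 1) * z := fun z hz b hb =>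
      hz (c * b) (by rw [mul_pow, hc, hb, ← mul_assoc, ← mul_pow]; simp)
    have h4 : r = 2 → Even n → Fintype.card F % 4 = 1 := by rintro rfl -; omega
    have h5 : ∀ k, n = k * r → padicValNat r n = padicValNat r k + 1 := by
      rintro k rfl
      rw [padicValNat.mul (left_ne_zero_of_mul hn) hr.ne_zero, padicValNat_self]
    rw [and_iff_left h4]
    constructor
    · rintro ⟨z, k, h6, h7, h8⟩
      have := (exists_nonpow_pow_iff hr h (k := k) (by rintro rfl; exact hn (by simpa using h7))).1 ⟨_, h3 z h6, h8⟩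
      have := h5 k h7
      omega
    · intro h6
      obtain ⟨k, hk⟩ : r ∣ n := dvd_of_one_le_padicValNat (by omega)
      rw [mul_comm] at hk
      have := h5 k hk
      obtain ⟨z, h7, h8⟩ := (exists_nonpow_pow_iff hr h (k := k) (by rintro rfl; exact hn (by simpa using hk))).2
        (by omega)
      exact ⟨_, k, h3 z h7, hk, by rwa [← mul_assoc, ← mul_pow, neg_mul_neg, one_mul, one_pow, one_mul]⟩

end Cls

section Mat
variable {n : Type*} [Fintype n] [DecidableEq n]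

theorem toLin'_pow_eq_smul (A : Matrix n n F) (r : ℕ) (z : F) :
    (Matrix.toLin' A : End F (n → F)) ^ r = z • 1 ↔ A ^ r = z • 1 := by
  rw [← Matrix.toLin'_pow, ← Matrix.toLin'.injective.eq_iff, map_smul, Matrix.toLin'_one]; rfl

theorem po_toLin' (A : Matrix n n F) (r : ℕ) :
    PO r (Matrix.toLin' A) ↔ (∃ z : F, A ^ r = z • 1) ∧ ∀ z : F, A ≠ z • 1 := by
  have := fun z => toLin'_pow_eq_smul A 1 z
  simp only [pow_one] at this
  simp only [PO, toLin'_pow_eq_smul, ne_eq, this]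

theorem forall_SL_iff {r : ℕ} {P : End F (n → F) → Prop} :
    (∀ x : Matrix.SpecialLinearGroup n F,
      (∃ c : F, ((x ^ r : Matrix.SpecialLinearGroup n F) : Matrix n n F) = c • (1 : Matrix n n F)) →
      (∀ c : F, (x : Matrix n n F) ≠ c • (1 : Matrix n n F)) → P (Matrix.toLin' (x : Matrix n n F))) ↔
    ∀ a : End F (n → F), LinearMap.det a = 1 → PO r a → P a := by
  constructor
  · intro h a h1 h2
    obtain ⟨A, rfl⟩ := Matrix.toLin'.surjective a
    rw [po_toLin'] at h2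
    exact h ⟨A, by rwa [LinearMap.det_toLin'] at h1⟩ h2.1 h2.2
  · exact fun h x h1 h2 => h _ (by rw [LinearMap.det_toLin', x.2]) ((po_toLin' _ _).2 ⟨h1, h2⟩)

omit [Fintype n] [DecidableEq n] in
theorem inj_of_det {a : End F V} (h : LinearMap.det a ≠ 0) : Function.Injective a :=
  ((End.isUnit_iff a).1 ((LinearMap.isUnit_iff_isUnit_det a).2 h.isUnit)).1

end Mat

end Cfsg.Agent.H28
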