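import Cfsg.Agent.H28.PSUAut

/-! The automorphism group of `PSp_{2m}(q)`. -/

set_option autoImplicit false

namespace Cfsg.Agent.H28

open Matrix Module
open scoped MatrixGroups

variable {F : Type*} [Field F] {m : ℕ}

/-- the embedding of `Sp` in `GL` -/
def jSp (m : ℕ) (F : Type*) [Field F] : symplecticGroup (Fin m) F →* GL (Fin m ⊕ Fin m) F :=
  (symplecticGroup (Fin m) F).subtype.toHomUnits

@[simp] lemma coe_jSp (s : symplecticGroup (Fin m) F) :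
    (jSp m F s : Matrix (Fin m ⊕ Fin m) (Fin m ⊕ Fin m) F) = s := rfl

lemma jSp_injective : Function.Injective (jSp m F) := fun _ _ h =>
  Subtype.ext (congrArg Units.val h)

lemma mem_range_jSp {g : GL (Fin m ⊕ Fin m) F} : g ∈ (jSp m F).range ↔
    (g : Matrix (Fin m ⊕ Fin m) (Fin m ⊕ Fin m) F)ᵀ * J (Fin m) F * g = J (Fin m) F := by
  rw [← SymplecticGroup.mem_iff']
  exact ⟨fun ⟨s, hs⟩ => hs ▸ s.2, fun h => ⟨⟨_, h⟩, Units.ext rfl⟩⟩

lemma dot_mulVec_mulVec {ι : Type*} [Fintype ι] (A M : Matrix ι ι F) (u v : ι → F) :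
    (A *ᵥ u) ⬝ᵥ (M *ᵥ (A *ᵥ v)) = u ⬝ᵥ ((Aᵀ * M * A) *ᵥ v) := by
  rw [← mulVec_mulVec, ← mulVec_mulVec, dotProduct_mulVec u, vecMul_transpose]

lemma forall_sympForm_iff {A : Matrix (Fin m ⊕ Fin m) (Fin m ⊕ Fin m) F} {c : F} :
    (∀ u v, sympForm m F (A *ᵥ u) (A *ᵥ v) = c * sympForm m F u v) ↔
      Aᵀ * J (Fin m) F * A = c • J (Fin m) F := by
  simp only [sympForm, dot_mulVec_mulVec]
  exact ⟨fun h => matrix_eq_of_dot 1 fun u v => (h u v).trans (by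
    rw [smul_mulVec, dotProduct_smul]; rfl), fun h u v => by
    rw [h, smul_mulVec, dotProduct_smul, smul_eq_mul]⟩

lemma mem_GSp_iff {g : GL (Fin m ⊕ Fin m) F} : g ∈ GSp m F ↔ ∃ c : Fˣ,
    (g : Matrix (Fin m ⊕ Fin m) (Fin m ⊕ Fin m) F)ᵀ * J (Fin m) F * g = (c : F) • J (Fin m) F :=
  exists_congr fun _ => forall_sympForm_iff

lemma fieldGL_J {K : Type*} [Field K] (j : F →+* K) {A : Matrix (Fin m ⊕ Fin m) (Fin m ⊕ Fin m) F}
    {c : F} (h : Aᵀ * J (Fin m) F * A = c • J (Fin m) F) :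
    (A.map j)ᵀ * J (Fin m) K * A.map j = j c • J (Fin m) K := by
  rw [← map_J (Fin m) j, ← transpose_map, ← Matrix.map_mul, ← Matrix.map_mul, h]
  ext; exact map_mul j _ _

lemma inv_J {g : GL (Fin m ⊕ Fin m) F} {c : F} (hc : c ≠ 0)
    (h : (g : Matrix (Fin m ⊕ Fin m) (Fin m ⊕ Fin m) F)ᵀ * J (Fin m) F * g = c • J (Fin m) F) :
    ((g⁻¹ : GL _ F) : Matrix (Fin m ⊕ Fin m) (Fin m ⊕ Fin m) F)ᵀ * J (Fin m) F * (g⁻¹ : GL _ F) =
      c⁻¹ • J (Fin m) F := by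
  rw [eq_inv_smul_iff₀ hc, ← smul_mul_assoc, ← mul_smul_comm, ← h, ← mul_assoc, ← mul_assoc,
    ← transpose_mul, Units.mul_inv, mul_assoc, Units.mul_inv, transpose_one, one_mul, mul_one]

lemma mul_J {A B : Matrix (Fin m ⊕ Fin m) (Fin m ⊕ Fin m) F} {c d : F}
    (h : Aᵀ * J (Fin m) F * A = c • J (Fin m) F) (h' : Bᵀ * J (Fin m) F * B = d • J (Fin m) F) :
    (A * B)ᵀ * J (Fin m) F * (A * B) = (c * d) • J (Fin m) F := by
  rw [transpose_mul, mul_smul, ← h', ← smul_mul_assoc, ← mul_smul_comm, ← h]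
  simp only [mul_assoc]

lemma scalar_J (u : Fˣ) :
    (GeneralLinearGroup.scalar (Fin m ⊕ Fin m) u).1ᵀ * J (Fin m) F *
      (GeneralLinearGroup.scalar (Fin m ⊕ Fin m) u).1 = ((u ^ 2 : Fˣ) : F) • J (Fin m) F := by
  simp [← smul_one_eq_diagonal, smul_smul, pow_two]

/-- the data for `PSp` -/
def dataSp (m : ℕ) (F : Type*) [Field F] :
    MatData (symplecticGroup (Fin m) F) (Fin m ⊕ Fin m) F where
  j := jSp m F
  inj := jSp_injective
  Δ := GSp m F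
  le s := mem_GSp_iff.2 ⟨1, by simpa using mem_range_jSp.1 ⟨s, rfl⟩⟩
  conj_mem g hg s := mem_range_jSp.2 (by
    obtain ⟨c, hc⟩ := mem_GSp_iff.1 hg
    simpa using mul_J (mul_J hc ((mem_range_jSp.1 ⟨s, rfl⟩).trans (one_smul F _).symm))
      (inv_J c.ne_zero hc))
  field_mem σ s := mem_range_jSp.2 (by
    simpa using fieldGL_J (σ : F →+* F) ((mem_range_jSp.1 ⟨s, rfl⟩).trans (one_smul F _).symm))
  field_memΔ σ g hg := by
    obtain ⟨c, hc⟩ := mem_GSp_iff.1 hg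
    exact mem_GSp_iff.2 ⟨unitsAut F σ c, fieldGL_J (σ : F →+* F) hc⟩

/-- the standard alternating form -/
abbrev altB (m : ℕ) (F : Type*) [Field F] := Matrix.toBilin' (J (Fin m) F)

lemma altB_apply (x y : Fin m ⊕ Fin m → F) : altB m F x y = sympForm m F x y :=
  toBilin'_apply' _ _ _

lemma sympForm_eq (x y : Fin m ⊕ Fin m → F) : sympForm m F x y =
    (x ∘ Sum.inr) ⬝ᵥ (y ∘ Sum.inl) - (x ∘ Sum.inl) ⬝ᵥ (y ∘ Sum.inr) := by
  simp [sympForm, J, fromBlocks_mulVec, dotProduct, neg_mulVec, sub_eq_add_neg, add_comm]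

lemma sh_altB : SH (altB m F) where
  invol _ := rfl
  skew x y := by
    simp only [altB_apply, sympForm_eq, RingHom.id_apply, dotProduct_comm (y ∘ _)]; ring
  nd x hx := by
    ext (i | i)
    · simpa [altB_apply, sympForm_eq, dotProduct, Pi.single_apply] using hx (Pi.single (.inr i) 1)
    · simpa [altB_apply, sympForm_eq, dotProduct, Pi.single_apply] using hx (Pi.single (.inl i) 1)
  tv x := ⟨0, by simp [altB_apply, sympForm_eq, dotProduct_comm]⟩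

lemma range_jSp_iff (g : GL (Fin m ⊕ Fin m) F) : g ∈ (jSp m F).range ↔
    (∀ x y, altB m F ((g : Matrix _ _ F) *ᵥ x) ((g : Matrix _ _ F) *ᵥ y) = altB m F x y) ∧
      (g : Matrix (Fin m ⊕ Fin m) (Fin m ⊕ Fin m) F).det = 1 := by
  have := forall_sympForm_iff (A := g.1) (c := 1)
  simp only [one_mul, one_smul] at this
  simp only [altB_apply, this, mem_range_jSp]
  exact ⟨fun h => ⟨h, SymplecticGroup.det_eq_one (SymplecticGroup.mem_iff'.2 h)⟩, fun h => h.1⟩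

lemma sympForm_comp {K : Type*} [Field K] (j : F →+* K) (x y : Fin m ⊕ Fin m → F) :
    sympForm m K (j ∘ x) (j ∘ y) = j (sympForm m F x y) := by
  simp [sympForm_eq, dotProduct, map_sum]

lemma semiSim_altB_iff {g : GL (Fin m ⊕ Fin m) F} {σ : F ≃+* F} {κ : F} :
    (∀ x y, altB m F (semiGL g σ x) (semiGL g σ y) = κ * σ (altB m F x y)) ↔
      (g : Matrix (Fin m ⊕ Fin m) (Fin m ⊕ Fin m) F)ᵀ * J (Fin m) F * g = κ • J (Fin m) F := by
  have e := sympForm_comp (m := m) (σ : F →+* F)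
  simp only [RingEquiv.coe_toRingHom] at e
  simp only [altB_apply, semiGL_apply, ← forall_sympForm_iff, ← e]
  refine ⟨fun h u v => ?_, fun h u v => h _ _⟩
  obtain ⟨u, rfl⟩ := (semiGL 1 σ).surjective u
  obtain ⟨v, rfl⟩ := (semiGL 1 σ).surjective v
  simpa only [semiGL_apply, Units.val_one, one_mulVec] using h u v

lemma hyp_altB (i : Fin m) : Hyp (altB m F) (Pi.single (.inr i) 1) (Pi.single (.inl i) 1) := by
  constructor <;> simp [J]

lemma single_mem_Wp {i k : Fin m} (h : i ≠ k) : (Pi.single (.inl k) 1 : Fin m ⊕ Fin m → F) ∈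
    Wp (altB m F) (Pi.single (.inr i) 1) (Pi.single (.inl i) 1) := by
  constructor <;> simp [J, h]

theorem triv_Sp [Finite F] (hm : 2 ≤ m) : (dataSp m F).Triv := by
  intro g σ h
  obtain ⟨c, hc⟩ := mem_GSp_iff.1 g.2
  exact sh_altB.triv_mat _ jSp_injective range_jSp_iff (hyp_altB ⟨0, by omega⟩)
    (single_mem_Wp (k := ⟨1, hm⟩) (by simp)) (by simp) (κ := c)
    ⟨semiGL_smul _ _, rfl, c.ne_zero, semiSim_altB_iff.2 hc⟩ ((dataSp m F).eq_df_iff.1 h.symm)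

theorem surj_Sp [Finite F] (hm : 2 ≤ m) (h4 : m = 2 → (2 : F) ≠ 0) : (dataSp m F).Surj := by
  intro α
  obtain ⟨g, σ, κ, hS, h⟩ := sh_altB.aut_mat _ jSp_injective range_jSp_iff (by
      rcases hm.eq_or_lt with rfl | h
      · exact Or.inl ⟨1, by simpa [one_add_one_eq_two] using h4 rfl⟩
      · exact Or.inr (by simp; omega)) (hyp_altB ⟨0, by omega⟩)
    (Or.inl ⟨_, single_mem_Wp (k := ⟨1, hm⟩) (by simp), by simp, (hyp_altB _).ff⟩) α
  exact ⟨⟨g, mem_GSp_iff.2 ⟨Units.mk0 κ hS.ne, semiSim_altB_iff.1 hS.map⟩⟩, σ,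
    (dataSp m F).eq_df_iff.2 h⟩

lemma isInducedBySemilinearPSp_iff {g : (dataSp m F).Δ} {σ : F ≃+* F} {β : MulAut (PSp m F)} :
    IsInducedBySemilinearPSp g σ β ↔ β = (dataSp m F).d g * (dataSp m F).f σ := by
  rw [MatData.eq_df_iff]
  simp only [Units.ext_iff]; rfl

lemma isInnerDiagonalAutPSp_iff {β : MulAut (PSp m F)} :
    IsInnerDiagonalAutPSp β ↔ β ∈ (dataSp m F).d.range := by
  constructor
  · rintro ⟨g, hg, h⟩
    exact ⟨⟨g, hg⟩, by
      rw [(isInducedBySemilinearPSp_iff (g := ⟨g, hg⟩)).1 h, ← RingAut.one_eq_refl, map_one,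
        mul_one]⟩
  · rintro ⟨g, rfl⟩
    exact ⟨g, g.2, isInducedBySemilinearPSp_iff.2 (by
      rw [← RingAut.one_eq_refl, map_one, mul_one])⟩

lemma isStdFieldAutPSp_iff {σ : F ≃+* F} {β : MulAut (PSp m F)} :
    IsStdFieldAutPSp σ β ↔ β = (dataSp m F).f σ := by
  rw [MatData.eq_f_iff]
  simp only [Units.ext_iff]; rfl

lemma inndiagPSp_eq : inndiagPSp m F = (dataSp m F).d.range :=
  autSubgroupOf_eq _ fun _ => isInnerDiagonalAutPSp_iff

lemma smul_J_inj (hm : 1 ≤ m) {c d : F} (h : c • J (Fin m) F = d • J (Fin m) F) : c = d := by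
  simpa [J] using congrFun (congrFun h (.inr ⟨0, hm⟩)) (.inl ⟨0, hm⟩)

/-- the multiplier of a symplectic similitude -/
noncomputable def multSp (hm : 1 ≤ m) : (dataSp m F).Δ →* Fˣ :=
  MonoidHom.mk' (fun g => (mem_GSp_iff.1 g.2).choose) fun a b => Units.ext (smul_J_inj hm
    ((mem_GSp_iff.1 (a * b).2).choose_spec.symm.trans
      (mul_J (mem_GSp_iff.1 a.2).choose_spec (mem_GSp_iff.1 b.2).choose_spec)))

lemma multSp_spec (hm : 1 ≤ m) (g : (dataSp m F).Δ) :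
    (g.1 : Matrix (Fin m ⊕ Fin m) (Fin m ⊕ Fin m) F)ᵀ * J (Fin m) F * g.1 =
      (multSp hm g : F) • J (Fin m) F := (mem_GSp_iff.1 g.2).choose_spec

lemma multSp_eq (hm : 1 ≤ m) {g : (dataSp m F).Δ} {c : Fˣ}
    (h : (g.1 : Matrix (Fin m ⊕ Fin m) (Fin m ⊕ Fin m) F)ᵀ * J (Fin m) F * g.1 =
      (c : F) • J (Fin m) F) : multSp hm g = c :=
  Units.ext (smul_J_inj hm ((multSp_spec hm g).symm.trans h))

lemma exists_mult_eq (c : Fˣ) : ∃ g : GL (Fin m ⊕ Fin m) F,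
    (g : Matrix (Fin m ⊕ Fin m) (Fin m ⊕ Fin m) F)ᵀ * J (Fin m) F * g = (c : F) • J (Fin m) F :=
  ⟨⟨fromBlocks ((c : F) • 1) 0 0 1, fromBlocks (((c⁻¹ : Fˣ) : F) • 1) 0 0 1,
    by simp [fromBlocks_multiply, smul_smul], by simp [fromBlocks_multiply, smul_smul]⟩, by
    simp [J, fromBlocks_multiply, fromBlocks_transpose, fromBlocks_smul]⟩

lemma multSp_surjective (hm : 1 ≤ m) : Function.Surjective (multSp (F := F) hm) := fun c => by
  obtain ⟨g, hg⟩ := exists_mult_eq (m := m) c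
  exact ⟨⟨g, mem_GSp_iff.2 ⟨c, hg⟩⟩, multSp_eq hm hg⟩

lemma ker_multSp (hm : 1 ≤ m) : (multSp hm).ker = (dataSp m F).j.range.subgroupOf _ := by
  ext g
  rw [MonoidHom.mem_ker, Subgroup.mem_subgroupOf]
  exact ⟨fun h => mem_range_jSp.2 (by simpa [h] using multSp_spec hm g),
    fun h => multSp_eq hm (by simpa using mem_range_jSp.1 h)⟩

lemma map_ker_Sp [Finite F] (hm : 2 ≤ m) :
    (dataSp m F).d.ker.map (multSp (by omega)) = (powMonoidHom 2).range := by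
  rw [(triv_Sp hm).ker_d]
  ext u
  constructor
  · rintro ⟨⟨g, hg⟩, h, rfl⟩
    obtain ⟨z, rfl⟩ := mem_center_GL_iff.1 h
    exact ⟨z, (multSp_eq (g := ⟨_, hg⟩) _ (scalar_J z)).symm⟩
  · rintro ⟨z, rfl⟩
    have := mem_GSp_iff.2 ⟨_, scalar_J (m := m) z⟩
    exact ⟨⟨_, this⟩, scalar_mem_center _, multSp_eq (g := ⟨_, this⟩) _ (scalar_J z)⟩

lemma index_map_ker_Sp [Finite F] (hm : 2 ≤ m) :
    ((dataSp m F).d.ker.map (multSp (by omega))).index = Nat.gcd 2 (Nat.card F - 1) := by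
  rw [map_ker_Sp hm, IsCyclic.index_powMonoidHom_range, Nat.card_units, Nat.gcd_comm]

lemma range_d_Sp_char_two [Finite F] (hm : 2 ≤ m) (h2 : (2 : F) = 0) :
    (dataSp m F).d.range = Inn (PSp m F) := by
  rw [(dataSp m F).inn_eq, ← ker_multSp (by omega)]
  refine le_antisymm ?_ (Subgroup.map_le_range _ _)
  rintro _ ⟨g, rfl⟩
  obtain ⟨x, hx⟩ := H13.exists_sq_eq_of_two_eq_zero h2 (multSp (by omega) g : F)
  obtain ⟨k, h1, h3⟩ : multSp (by omega) g ∈ (dataSp m F).d.ker.map (multSp (by omega)) := by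
    rw [map_ker_Sp hm]
    exact ⟨Units.mk0 x (by rintro rfl; exact Units.ne_zero _ (hx.symm.trans (by simp))), Units.ext hx⟩
  exact ⟨k⁻¹ * g, by simp [h3], by simp [MonoidHom.mem_ker.1 h1]⟩

instance normal_range_d_Sp [Finite F] [h : Fact (2 ≤ m)] : (dataSp m F).d.range.Normal := by
  by_cases h2 : (2 : F) = 0
  · rw [range_d_Sp_char_two h.out h2]; infer_instance
  · exact (triv_Sp h.out).normal (surj_Sp h.out fun _ => h2)

end Cfsg.Agent.H28
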