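import Cfsg.Agent.H28.PSUAut
import Cfsg.Agent.H28.PSLAut

/-! Unit vectors of the standard Hermitian form and block subgroups of `SU`. -/

set_option autoImplicit false
set_option linter.unusedSectionVars false

namespace Cfsg.Agent.H28.Ph

open Matrix Finset
open scoped MatrixGroups Classical

variable {F : Type*} [Field F] [Fintype F] {q n : ℕ} {θ : F ≃+* F}

/-- standing assumptions -/
structure Cx (q : ℕ) (θ : F ≃+* F) : Prop where
  card : Fintype.card F = q ^ 2
  pow : ∀ a, θ a = a ^ q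
  four : 4 ≤ q

/-- norm -/
def nm (θ : F ≃+* F) (a : F) : F := a * θ a

/-- the form -/
def hf (θ : F ≃+* F) (u v : Fin n → F) : F := ∑ i, u i * θ (v i)

/-- basis vectors -/
abbrev ee (F : Type*) [Field F] (k : Fin n) : Fin n → F := Pi.single k 1

/-- the matrix of an element -/
abbrev mt (g : SU n F q) : Matrix (Fin n) (Fin n) F := g.1.1

theorem smul_eq (g : SU n F q) (v : Fin n → F) : g • v = mt g *ᵥ v := rfl

theorem hf_add_left (u u' v : Fin n → F) : hf θ (u + u') v = hf θ u v + hf θ u' v := by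
  simp [hf, add_mul, sum_add_distrib]
theorem hf_add_right (u v v' : Fin n → F) : hf θ u (v + v') = hf θ u v + hf θ u v' := by
  simp [hf, mul_add, sum_add_distrib]
theorem hf_sub_left (u u' v : Fin n → F) : hf θ (u - u') v = hf θ u v - hf θ u' v := by
  simp [hf, sub_mul, sum_sub_distrib]
theorem hf_sub_right (u v v' : Fin n → F) : hf θ u (v - v') = hf θ u v - hf θ u v' := by
  simp [hf, mul_sub, sum_sub_distrib]
theorem hf_smul_left (c : F) (u v : Fin n → F) : hf θ (c • u) v = c * hf θ u v := by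
  simp [hf, mul_sum, mul_assoc]
theorem hf_smul_right (c : F) (u v : Fin n → F) : hf θ u (c • v) = θ c * hf θ u v := by
  simp [hf, mul_sum, mul_left_comm]
theorem hf_ee_right (u : Fin n → F) (k : Fin n) : hf θ u (ee F k) = u k := by
  simp [hf, Pi.single_apply, apply_ite θ]
theorem hf_ee_left (u : Fin n → F) (k : Fin n) : hf θ (ee F k) u = θ (u k) := by
  simp [hf, Pi.single_apply]
theorem hf_ee (k : Fin n) : hf θ (ee F k) (ee F k) = 1 := by simp [hf_ee_right]
@[simp] theorem hf_zero_left (u : Fin n → F) : hf θ 0 u = 0 := by simp [hf]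
@[simp] theorem hf_zero_right (u : Fin n → F) : hf θ u 0 = 0 := by simp [hf]
@[simp] theorem nm_zero : nm θ 0 = 0 := by simp [nm]
theorem nm_mul (a b : F) : nm θ (a * b) = nm θ a * nm θ b := by simp only [nm, map_mul]; ring
theorem nm_eq_zero {a : F} : nm θ a = 0 ↔ a = 0 := by simp [nm]

namespace Cx
variable (c : Cx q θ)
include c

theorem ord : orderOf θ = 2 := orderOf_eq_two_of_pow c.card c.pow
theorem inv (a : F) : θ (θ a) = a := apply_apply_of_orderOf_two c.ord a
theorem nm_fix (a : F) : θ (nm θ a) = nm θ a := by simp [nm, c.inv, mul_comm]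
theorem nm_conj (a : F) : nm θ (θ a) = nm θ a := by simp [nm, c.inv, mul_comm]
theorem nm_pow (a : F) : nm θ a = a ^ (q + 1) := by rw [nm, c.pow, pow_succ']
theorem symm (u v : Fin n → F) : θ (hf θ u v) = hf θ v u := by simp [hf, map_sum, c.inv, mul_comm]
theorem nm_symm (u v : Fin n → F) : nm θ (hf θ u v) = nm θ (hf θ v u) := by rw [← c.symm u v, c.nm_conj]
theorem perp {u v : Fin n → F} (h : hf θ u v = 0) : hf θ v u = 0 := by rw [← c.symm, h, map_zero]

theorem exists_nm {s : F} (hs : θ s = s) : ∃ a, nm θ a = s := by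
  by_cases h0 : s = 0
  · exact ⟨0, by simp [h0]⟩
  obtain ⟨a, ha⟩ := exists_nrm_units θ (c := Units.mk0 s h0) hs
  rw [c.ord, nrm_two] at ha
  exact ⟨a, congrArg Units.val ha⟩

theorem exists_tr {s : F} (hs : θ s = s) : ∃ a, a + θ a = s :=
  H13.exists_add_conj_eq (ne_id_of_orderOf_two c.ord) c.inv hs

theorem herm (u v : Fin n → F) : hermForm n F q u v = hf θ u v := by simp [hermForm, hf, c.pow]

theorem map (g : SU n F q) (u v : Fin n → F) : hf θ (g • u) (g • v) = hf θ u v := by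
  rw [← c.herm, ← c.herm]; exact g.2 u v

theorem map_left (g : SU n F q) (u v : Fin n → F) : hf θ (g • u) v = hf θ u (g⁻¹ • v) := by
  rw [← c.map g u, smul_inv_smul]

theorem map_right (g : SU n F q) (u v : Fin n → F) : hf θ u (g • v) = hf θ (g⁻¹ • u) v := by
  rw [← c.map g (g⁻¹ • u), smul_inv_smul]

theorem card_nm_le (s : F) : #{a : F | nm θ a = s} ≤ q + 1 := by
  have := Polynomial.card_nthRoots (q + 1) s
  refine le_trans (card_le_card fun a ha => ?_) ((Multiset.toFinset_card_le _).trans this)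
  rw [Multiset.mem_toFinset, Polynomial.mem_nthRoots (by omega), ← c.nm_pow]
  simpa using ha

theorem le_card_nm {s : F} (hs : θ s = s) (h0 : s ≠ 0) : q + 1 ≤ #{a : F | nm θ a = s} := by
  obtain ⟨a, ha⟩ := c.exists_nm hs
  have ha0 : a ≠ 0 := by rintro rfl; exact h0 (by simpa using ha.symm)
  rw [← card_normOne c.card, ← Nat.card_eq_finsetCard]
  refine Nat.card_le_card_of_injective (fun u => ⟨a * u.1, ?_⟩) fun u v h => ?_
  · have : (u.1 : F) ^ (q + 1) = 1 := by simpa using congrArg Units.val u.2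
    simp [nm_mul, ha, c.nm_pow u.1, this]
  · exact Subtype.ext (Units.ext (mul_left_cancel₀ ha0 (congrArg Subtype.val h)))

theorem exists_nm_one : ∃ a : F, nm θ a = 1 ∧ a ≠ 1 ∧ a ≠ -1 := by
  have h := c.le_card_nm (map_one θ) one_ne_zero
  have h2 : #({1, -1} : Finset F) < #{a : F | nm θ a = 1} :=
    (card_le_two).trans_lt (by have := c.four; omega)
  obtain ⟨a, ha, hb⟩ := exists_mem_notMem_of_card_lt_card h2
  simp only [mem_insert, mem_singleton, not_or] at hb
  exact ⟨a, by simpa using ha, hb⟩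

theorem exists_two : ∃ s t : F, θ s = s ∧ θ t = t ∧ s ≠ 0 ∧ s ≠ 1 ∧ t ≠ 0 ∧ t ≠ 1 ∧ s ≠ t := by
  have h := card_fixF_pow θ
  rw [c.ord, Nat.card_eq_fintype_card (α := F), c.card] at h
  have h1 : Nat.card (fixF θ) = q := Nat.pow_left_injective (by norm_num) h
  have h2 : #{a : F | θ a = a} = q := by
    rw [← h1, ← Nat.card_eq_finsetCard]
    exact Nat.card_congr (Equiv.subtypeEquivRight fun a => by simp [mem_fixF])
  have h3 : 1 < #(({a : F | θ a = a} : Finset F) \ {0, 1}) := by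
    have := le_card_sdiff ({0, 1} : Finset F) ({a : F | θ a = a} : Finset F)
    have := card_le_two (a := (0 : F)) (b := 1)
    have := c.four
    omega
  obtain ⟨s, hs, t, ht, hst⟩ := one_lt_card.1 h3
  simp only [mem_sdiff, mem_filter, mem_univ, true_and, mem_insert, mem_singleton, not_or] at hs ht
  exact ⟨s, t, hs.1, ht.1, hs.2.1, hs.2.2, ht.2.1, ht.2.2, hst⟩

theorem mem_SU {A : SL(n, F)} : A ∈ SU n F q ↔ ∀ u v, hf θ (A.1 *ᵥ u) (A.1 *ᵥ v) = hf θ u v := by
  simp only [← c.herm]; rfl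

theorem nm_det {A : Matrix (Fin n) (Fin n) F} (h : ∀ u v, hf θ (A *ᵥ u) (A *ᵥ v) = hf θ u v) :
    nm θ A.det = 1 := by
  have := (preserves_herm_iff c.pow A).1 (by simpa only [c.herm] using h)
  have := congrArg det this
  rwa [det_mul, det_cT, det_one, mul_comm] at this

end Cx

/-- vectors supported on `S` -/
def Sup (S : Finset (Fin n)) (v : Fin n → F) : Prop := ∀ k, k ∉ S → v k = 0

variable (F q) in
/-- block subgroups -/
def Blk (S : Finset (Fin n)) : Subgroup (SU n F q) where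
  carrier := {g | ∀ k, k ∉ S → g • ee F k = ee F k}
  mul_mem' ha hb k hk := by rw [mul_smul, hb k hk, ha k hk]
  one_mem' k _ := one_smul _ _
  inv_mem' ha k hk := by rw [inv_smul_eq_iff, ha k hk]

variable {S T : Finset (Fin n)} {g : SU n F q} {u v w : Fin n → F} {i j k : Fin n}

theorem mem_Blk : g ∈ Blk F q S ↔ ∀ k, k ∉ S → g • ee F k = ee F k := Iff.rfl

theorem Blk_mono (h : S ⊆ T) : Blk F q S ≤ Blk F q T := fun _ hg k hk => hg k fun h' => hk (h h')

theorem mem_Blk_erase (hg : g ∈ Blk F q S) (h : g • ee F i = ee F i) : g ∈ Blk F q (S.erase i) := fun k hk => by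
  by_cases e : k = i
  · rw [e, h]
  · exact hg k fun h' => hk (mem_erase.2 ⟨e, h'⟩)

theorem Blk_fix (hg : g ∈ Blk F q (S.erase i)) : g • ee F i = ee F i := hg i (notMem_erase _ _)

theorem Sup.mono (h : Sup S v) (h' : S ⊆ T) : Sup T v := fun k hk => h k fun e => hk (h' e)

theorem Sup.erase (h : Sup S v) (h' : v i = 0) : Sup (S.erase i) v := fun k hk => by
  by_cases e : k = i
  · rw [e, h']
  · exact h k fun h' => hk (mem_erase.2 ⟨e, h'⟩)

theorem sup_ee (h : i ∈ S) : Sup S (ee F i) := fun k hk => Pi.single_eq_of_ne (by rintro rfl; exact hk h) _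

theorem Sup.add (h : Sup S u) (h' : Sup S v) : Sup S (u + v) := fun k hk => by simp [h k hk, h' k hk]
theorem Sup.sub (h : Sup S u) (h' : Sup S v) : Sup S (u - v) := fun k hk => by simp [h k hk, h' k hk]
theorem Sup.smul (h : Sup S u) (a : F) : Sup S (a • u) := fun k hk => by simp [h k hk]

theorem Cx.sup (c : Cx q θ) (hg : g ∈ Blk F q S) (h : Sup S v) : Sup S (g • v) := fun k hk => by
  rw [← hf_ee_right (θ := θ) (g • v) k, ← hg k hk, c.map, hf_ee_right, h k hk]

theorem fix_of_disj (hg : g ∈ Blk F q S) (h : ∀ k ∈ S, v k = 0) : g • v = v := by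
  have e : v = ∑ k, v k • ee F k := by
    ext k; simp [Finset.sum_apply, Pi.single_apply]
  rw [e, smul_sum]
  refine sum_congr rfl fun k _ => ?_
  by_cases hk : k ∈ S
  · simp [h k hk]
  · rw [smul_comm, hg k hk]

theorem su_ext {g g' : SU n F q} (h : ∀ k : Fin n, g • ee F k = g' • ee F k) : g = g' := by
  refine Subtype.ext (Subtype.ext (Matrix.ext fun i k => ?_))
  have := congrFun (h k) i
  simpa [smul_eq] using this

theorem Cx.comm (c : Cx q θ) {g' : SU n F q} (hg : g ∈ Blk F q S) (hg' : g' ∈ Blk F q T) (h : Disjoint S T) :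
    g * g' = g' * g := su_ext fun k => by
  rw [mul_smul, mul_smul]
  by_cases h1 : k ∈ S
  · have h2 : k ∉ T := disjoint_left.1 h h1
    rw [hg' k h2, fix_of_disj hg' fun l hl => c.sup hg (sup_ee h1) l (disjoint_right.1 h hl)]
  · rw [hg k h1]
    by_cases h2 : k ∈ T
    · rw [fix_of_disj hg fun l hl => c.sup hg' (sup_ee h2) l (disjoint_left.1 h hl)]
    · rw [hg' k h2, hg k h1]

/-- a diagonal matrix with one nontrivial entry -/
def dg (j : Fin n) (a : F) : Matrix (Fin n) (Fin n) F := diagonal (Function.update 1 j a)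

theorem det_dg (j : Fin n) (a : F) : (dg j a).det = a := by
  simp [dg, Finset.prod_update_of_mem]

theorem dg_ee (h : k ≠ j) (a : F) : dg j a *ᵥ ee F k = ee F k := by
  ext l; by_cases e : l = k <;> simp [dg, mulVec_diagonal, Function.update_apply, e, h]

theorem dg_ee_self (a : F) : dg j a *ᵥ ee F j = a • ee F j := by
  ext l; by_cases e : l = j <;> simp [dg, mulVec_diagonal, Function.update_apply, e]

theorem hf_dg {a : F} (ha : nm θ a = 1) (u v : Fin n → F) : hf θ (dg j a *ᵥ u) (dg j a *ᵥ v) = hf θ u v := by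
  refine sum_congr rfl fun l _ => ?_
  by_cases e : l = j
  · simp only [dg, mulVec_diagonal, e, Function.update_self, map_mul]
    unfold nm at ha
    linear_combination u j * θ (v j) * ha
  · simp [dg, mulVec_diagonal, e]

namespace Cx
variable (c : Cx q θ)
include c

theorem exists_fix_det {A : Matrix (Fin n) (Fin n) F} (h : ∀ u v, hf θ (A *ᵥ u) (A *ᵥ v) = hf θ u v) (hj : j ∈ S)
    (hA : ∀ k, k ∉ S → A *ᵥ ee F k = ee F k) :
    ∃ g ∈ Blk F q S, ∀ k, k ≠ j → g • ee F k = A *ᵥ ee F k := by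
  have hd := c.nm_det h
  have h1 : ∀ k, k ≠ j → (A * dg j (θ A.det)) *ᵥ ee F k = A *ᵥ ee F k := fun k hk => by
    rw [← mulVec_mulVec, dg_ee hk]
  refine ⟨⟨⟨A * dg j (θ A.det), by rw [det_mul, det_dg]; exact hd⟩, c.mem_SU.2 fun u v => ?_⟩,
    fun k hk => (h1 k (by rintro rfl; exact hk hj)).trans (hA k hk), h1⟩
  rw [← mulVec_mulVec, ← mulVec_mulVec, h, hf_dg (by rw [c.nm_conj, hd])]

theorem exists_refl (hu : hf θ u u = 1) (hw : hf θ w w = 1) (h : hf θ u w ≠ 1) (su : Sup S u) (sw : Sup S w) :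
    ∃ A : Matrix (Fin n) (Fin n) F, (∀ x y, hf θ (A *ᵥ x) (A *ᵥ y) = hf θ x y) ∧ A *ᵥ u = w ∧
      ∀ k, k ∉ S → A *ᵥ ee F k = ee F k := by
  have h0 : 1 - hf θ u w ≠ 0 := sub_ne_zero.2 h.symm
  have h0' : 1 - hf θ w u ≠ 0 := fun e => h0 (by rw [← c.symm w u, ← sub_eq_zero.1 e]; simp)
  have hA : ∀ x, (1 - (1 - hf θ u w)⁻¹ • vecMulVec (u - w) (θ ∘ (u - w))) *ᵥ x =
      x - ((1 - hf θ u w)⁻¹ * hf θ x (u - w)) • (u - w) := fun x => by
    rw [sub_mulVec, one_mulVec, smul_mulVec, vecMulVec_mulVec, mul_smul, op_smul_eq_smul]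
    simp [hf, dotProduct, mul_comm]
  refine ⟨1 - (1 - hf θ u w)⁻¹ • vecMulVec (u - w) (θ ∘ (u - w)), fun x y => ?_, ?_, fun k hk => ?_⟩
  · rw [hA, hA]
    simp only [hf_sub_left, hf_sub_right, hf_smul_left, hf_smul_right, map_mul, map_inv₀, map_sub, map_one, c.symm,
      hu, hw]
    field_simp
    ring
  · rw [hA, hf_sub_right, hu, inv_mul_cancel₀ h0]; simp
  · rw [hA, hf_ee_left, (su.sub sw) k hk]; simp

theorem trans1 (hi : i ∈ S) (hj : j ∈ S) (hij : i ≠ j) (hw : hf θ w w = 1) (sw : Sup S w) :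
    ∃ g ∈ Blk F q S, g • ee F i = w := by
  have key : ∃ A : Matrix (Fin n) (Fin n) F, (∀ x y, hf θ (A *ᵥ x) (A *ᵥ y) = hf θ x y) ∧ A *ᵥ ee F i = w ∧
      ∀ k, k ∉ S → A *ᵥ ee F k = ee F k := by
    by_cases h : hf θ (ee F i) w = 1
    · obtain ⟨a, ha, ha1, -⟩ := c.exists_nm_one
      obtain ⟨A, h1, h2, h3⟩ := c.exists_refl (u := a • ee F i) (w := w)
        (by rw [hf_smul_left, hf_smul_right, hf_ee, mul_one]; exact ha) hw (by rw [hf_smul_left, h, mul_one]; exact ha1)
        ((sup_ee hi).smul a) sw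
      refine ⟨A * dg i a, fun x y => ?_, ?_, fun k hk => ?_⟩
      · rw [← mulVec_mulVec, ← mulVec_mulVec, h1, hf_dg ha]
      · rw [← mulVec_mulVec, dg_ee_self, h2]
      · rw [← mulVec_mulVec, dg_ee (by rintro rfl; exact hk hi), h3 k hk]
    · exact c.exists_refl (hf_ee i) hw h (sup_ee hi) sw
  obtain ⟨A, h1, h2, h3⟩ := key
  obtain ⟨g, hg, h4⟩ := c.exists_fix_det h1 hj h3
  exact ⟨g, hg, (h4 i hij).trans h2⟩

theorem exists_diag (hij : i ≠ j) {a : F} (ha : nm θ a = 1) : ∃ g ∈ Blk F q {i, j}, g • ee F i = a • ee F i := by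
  obtain ⟨g, hg, h⟩ := c.exists_fix_det (S := {i, j}) (j := j) (hf_dg (j := i) ha) (by simp)
    fun k hk => dg_ee (by rintro rfl; simp at hk) a
  exact ⟨g, hg, (h i hij).trans (dg_ee_self a)⟩

end Cx

end Cfsg.Agent.H28.Ph
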