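import Cfsg.Agent.H28.Phan1

/-! The graph on unit vectors: common neighbours and decomposition of triangles. -/

set_option autoImplicit false
set_option linter.unusedSectionVars false

namespace Cfsg.Agent.H28.Ph

open Matrix Finset
open scoped MatrixGroups Classical

variable {F : Type*} [Field F] [Fintype F] {q n : ℕ} {θ : F ≃+* F}
  {S T : Finset (Fin n)} {g : SU n F q} {u v w r u₁ u₂ u₃ t : Fin n → F} {i j k z b d p : Fin n}

/-- unit vectors supported on `S` -/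
def Un (θ : F ≃+* F) (S : Finset (Fin n)) (v : Fin n → F) : Prop := hf θ v v = 1 ∧ Sup S v

/-- adjacency -/
def Ad (θ : F ≃+* F) (u w : Fin n → F) : Prop := nm θ (hf θ u w) ≠ 1

/-- triples in a nondegenerate hyperplane -/
def Good (θ : F ≃+* F) (S : Finset (Fin n)) (u v w : Fin n → F) : Prop :=
  ∃ s, Un θ S s ∧ hf θ u s = 0 ∧ hf θ v s = 0 ∧ hf θ w s = 0

theorem Good.swap (h : Good θ S u v w) : Good θ S v u w := by
  obtain ⟨s, h1, h2, h3, h4⟩ := h; exact ⟨s, h1, h3, h2, h4⟩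
theorem Good.rot (h : Good θ S u v w) : Good θ S u w v := by
  obtain ⟨s, h1, h2, h3, h4⟩ := h; exact ⟨s, h1, h2, h4, h3⟩

theorem un_ee (h : i ∈ S) : Un θ S (ee F i) := ⟨hf_ee i, sup_ee h⟩

theorem Un.mono (h : Un θ S v) (h' : S ⊆ T) : Un θ T v := ⟨h.1, h.2.mono h'⟩

theorem ad_of_perp (h : hf θ u w = 0) : Ad θ u w := by rw [Ad, h, nm_zero]; exact zero_ne_one

theorem hf_disj (hu : Sup S u) (hv : Sup T v) (h : Disjoint S T) : hf θ u v = 0 :=
  sum_eq_zero fun l _ => by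
    by_cases hl : l ∈ S
    · rw [hv l (disjoint_left.1 h hl)]; simp
    · rw [hu l hl]; simp

namespace Cx
variable (c : Cx q θ)
include c

theorem ad_symm (h : Ad θ u w) : Ad θ w u := by rwa [Ad, c.nm_symm]

theorem un_smul (hg : g ∈ Blk F q S) (h : Un θ S v) : Un θ S (g • v) := ⟨(c.map g v v).trans h.1, c.sup hg h.2⟩

theorem ad_smul (g : SU n F q) (h : Ad θ u w) : Ad θ (g • u) (g • w) := by rwa [Ad, c.map]

theorem card_sol {A B C D : F} (h : A ≠ 0 ∨ C ≠ 0) : #{y : F | A * nm θ y + B * θ y + C * y + D = 0} ≤ q + 1 := by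
  have h4 := c.four
  set P : Polynomial F := Polynomial.C A * Polynomial.X ^ (q + 1) + Polynomial.C B * Polynomial.X ^ q +
    Polynomial.C C * Polynomial.X + Polynomial.C D with hP
  have h0 : P ≠ 0 := fun e => by
    have e1 := congrArg (Polynomial.coeff · (q + 1)) e
    have e2 := congrArg (Polynomial.coeff · 1) e
    simp [hP, Polynomial.coeff_X_pow, Polynomial.coeff_X, Polynomial.coeff_C, show q ≠ 0 by omega,
      show 1 ≠ q by omega] at e1 e2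
    tauto
  have hd : P.natDegree ≤ q + 1 := by rw [hP]; compute_degree
  refine le_trans (card_le_card fun y hy => ?_) ((Multiset.toFinset_card_le _).trans ((P.card_roots').trans hd))
  rw [Multiset.mem_toFinset, Polynomial.mem_roots h0]
  simpa [hP, c.nm_pow, c.pow] using hy

theorem card_line {a a' m : F} (ha : a ≠ 0) (hm : m ≠ 0) :
    #{x : F × F | nm θ x.1 + nm θ x.2 = 1 ∧ a * x.1 + a' * x.2 = m} ≤ q + 1 := by
  refine le_trans (card_le_card_of_injOn Prod.snd (fun x hx => ?_) fun x hx y hy h => ?_)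
    (c.card_sol (A := nm θ a' + nm θ a) (B := -(m * θ a')) (C := -(a' * θ m)) (D := nm θ m - nm θ a) ?_)
  · simp only [coe_filter, mem_univ, true_and, Set.mem_ofPred_eq] at hx ⊢
    obtain ⟨h1, rfl⟩ := hx
    simp only [nm, map_add, map_mul] at h1 ⊢
    linear_combination a * θ a * h1
  · simp only [coe_filter, mem_univ, true_and, Set.mem_ofPred_eq] at hx hy
    exact Prod.ext (mul_left_cancel₀ ha (by rw [h] at hx; linear_combination hx.2 - hy.2)) h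
  · by_cases h : a' = 0
    · exact Or.inl (by simpa [h, nm_eq_zero] using ha)
    · exact Or.inr (by simp [h, hm])

theorem card_bad (a a' : F) :
    #{x : F × F | nm θ x.1 + nm θ x.2 = 1 ∧ nm θ (a * x.1 + a' * x.2) = 1} ≤ (q + 1) * (q + 1) := by
  refine le_trans (card_le_mul_card_image_of_maps_to (f := fun x : F × F => a * x.1 + a' * x.2)
    (t := {m : F | nm θ m = 1}) (fun x hx => by simpa using (mem_filter.1 hx).2.2) (q + 1) fun m hm => ?_)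
    (Nat.mul_le_mul_left _ (c.card_nm_le 1))
  have hm0 : m ≠ 0 := by rintro rfl; simp at hm
  by_cases ha : a = 0
  · by_cases ha' : a' = 0
    · rw [filter_false_of_mem fun x _ => by simpa [ha, ha'] using hm0.symm]; simp
    · refine le_trans (card_le_card_of_injOn Prod.swap (fun x hx => ?_) Prod.swap_injective.injOn)
        (c.card_line (a' := a) ha' hm0)
      simp only [coe_filter, mem_filter, mem_univ, true_and, Set.mem_ofPred_eq, Prod.fst_swap, Prod.snd_swap] at hx ⊢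
      exact ⟨by rw [add_comm]; exact hx.1.1, by rw [add_comm]; exact hx.2⟩
  · refine le_trans (card_le_card fun x hx => ?_) (c.card_line (a' := a') ha hm0)
    simp only [mem_filter, mem_univ, true_and] at hx ⊢
    exact ⟨hx.1.1, hx.2⟩

theorem avoid (a a' b b' : F) : ∃ x y : F, nm θ x + nm θ y = 1 ∧ nm θ (a * x + a' * y) ≠ 1 ∧
    nm θ (b * x + b' * y) ≠ 1 := by
  have h1 : #{x : F | nm θ x ≠ 1} * (q + 1) ≤ #{x : F × F | nm θ x.1 + nm θ x.2 = 1} := by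
    rw [card_filter (fun x : F × F => nm θ x.1 + nm θ x.2 = 1), Fintype.sum_prod_type, ← smul_eq_mul, ← sum_const]
    refine le_trans (sum_le_sum fun x hx => ?_) (sum_le_sum_of_subset (subset_univ _))
    rw [← card_filter]
    refine (c.le_card_nm (s := 1 - nm θ x) (by simp [c.nm_fix]) (sub_ne_zero.2 (mem_filter.1 hx).2.symm)).trans
      (card_le_card fun y hy => ?_)
    simp only [mem_filter, mem_univ, true_and] at hy ⊢
    rw [hy]; ring
  have h2 := card_filter_add_card_filter_not (s := (univ : Finset F)) (fun x => nm θ x = 1)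
  rw [card_univ, c.card] at h2
  have h3 := c.card_nm_le 1
  have h4 := c.four
  have h5 := card_union_le ({x : F × F | nm θ x.1 + nm θ x.2 = 1 ∧ nm θ (a * x.1 + a' * x.2) = 1} : Finset (F × F))
    {x : F × F | nm θ x.1 + nm θ x.2 = 1 ∧ nm θ (b * x.1 + b' * x.2) = 1}
  have h6 := c.card_bad a a'
  have h7 := c.card_bad b b'
  have h8 : 2 * (q + 1) < #{x : F | nm θ x ≠ 1} := by
    change _ < #{x : F | ¬ nm θ x = 1}
    nlinarith
  obtain ⟨x, hx, hx'⟩ := exists_mem_notMem_of_card_lt_card (h5.trans_lt (lt_of_lt_of_le (by nlinarith) h1))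
  simp only [mem_filter, mem_univ, true_and, mem_union, not_or, not_and] at hx hx'
  exact ⟨x.1, x.2, hx, hx'.1 hx, hx'.2 hx⟩

theorem plane (hij : i ≠ j) (a a' : Fin n → F) : ∃ t, Un θ {i, j} t ∧ Ad θ a t ∧ Ad θ a' t := by
  obtain ⟨x, y, h1, h2, h3⟩ := c.avoid (a i) (a j) (a' i) (a' j)
  have e : ∀ a : Fin n → F, hf θ a (θ x • ee F i + θ y • ee F j) = a i * x + a j * y := fun a => by
    rw [hf_add_right, hf_smul_right, hf_smul_right, hf_ee_right, hf_ee_right, c.inv, c.inv]; ring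
  refine ⟨θ x • ee F i + θ y • ee F j, ⟨?_, ((sup_ee (by simp)).smul _).add ((sup_ee (by simp)).smul _)⟩,
    by rwa [Ad, e], by rwa [Ad, e]⟩
  rw [e, ← h1]
  simp [nm, hij, hij.symm, mul_comm]

theorem dec (hd : d ∈ T) (hb : b ∈ T) (h1 : d ≠ p) (h2 : b ≠ p) (h3 : d ≠ b) (hw : Un θ T w)
    (ha : Ad θ w (ee F p)) : ∃ a ∈ Blk F q (T.erase p), ∃ l ∈ Blk F q {d, p}, Ad θ (l • ee F p) (ee F p) ∧
      a • l • ee F p = w := by
  rw [Ad, hf_ee_right] at ha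
  obtain ⟨η, hη⟩ := c.exists_nm (s := 1 - nm θ (w p)) (by simp [c.nm_fix])
  have h0 : η ≠ 0 := by rintro rfl; exact ha (by rw [nm_zero] at hη; linear_combination hη)
  have hy : Sup (T.erase p) (w - w p • ee F p) := fun k hk => by
    by_cases e : k = p
    · simp [e]
    · simp [e, hw.2 k fun h => hk (mem_erase.2 ⟨e, h⟩)]
  obtain ⟨a, ha1, ha2⟩ := c.trans1 (S := T.erase p) (w := η⁻¹ • (w - w p • ee F p)) (mem_erase.2 ⟨h1, hd⟩)
    (mem_erase.2 ⟨h2, hb⟩) h3 (by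
      have : θ η ≠ 0 := by simpa using h0
      simp only [hf_smul_left, hf_smul_right, hf_sub_left, hf_sub_right, hw.1, hf_ee_right, hf_ee_left, map_inv₀,
        Pi.single_eq_same, Pi.sub_apply, Pi.smul_apply, smul_eq_mul]
      unfold nm at hη
      field_simp
      linear_combination -hη) (hy.smul _)
  obtain ⟨l, hl1, hl2⟩ := c.trans1 (S := {d, p}) (i := p) (j := d) (w := w p • ee F p + η • ee F d) (by simp) (by simp)
    h1.symm (by
      simp only [hf_smul_left, hf_smul_right, hf_add_left, hf_add_right, hf_ee_right, Pi.single_eq_same,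
        Pi.single_eq_of_ne h1, Pi.single_eq_of_ne h1.symm, Pi.add_apply, Pi.smul_apply, smul_eq_mul]
      unfold nm at hη
      linear_combination hη) (((sup_ee (by simp)).smul _).add ((sup_ee (by simp)).smul _))
  refine ⟨a, ha1, l, hl1, ?_, ?_⟩
  · rw [Ad, hl2, hf_ee_right]; simpa [h1.symm] using ha
  · rw [hl2, smul_add, smul_comm a, smul_comm a, ha2, Blk_fix ha1, smul_smul, mul_inv_cancel₀ h0]; simp

theorem step (hp : p ∈ T) (hd : d ∈ T) (hb : b ∈ T) (h1 : d ≠ p) (h2 : b ≠ p) (h3 : d ≠ b) (hg : g ∈ Blk F q T)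
    (ha : Ad θ (g • ee F p) (ee F p)) : ∃ a ∈ Blk F q (T.erase p), ∃ l ∈ Blk F q {d, p}, ∃ a' ∈ Blk F q (T.erase p),
      Ad θ (l • ee F p) (ee F p) ∧ g = a * l * a' := by
  obtain ⟨a, ha1, l, hl, h4, h5⟩ := c.dec hd hb h1 h2 h3 (c.un_smul hg (un_ee hp)) ha
  refine ⟨a, ha1, l, hl, (a * l)⁻¹ * g, mem_Blk_erase (mul_mem (inv_mem (mul_mem (Blk_mono (erase_subset _ _) ha1)
    (Blk_mono (by simp [insert_subset_iff, hp, hd]) hl))) hg) ?_, h4, by group⟩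
  rw [mul_smul, inv_smul_eq_iff, mul_smul, h5]

theorem nb3 (hp : p ∈ T) (hd : d ∈ T) (hb : b ∈ T) (h1 : d ≠ p) (h2 : b ≠ p) (h3 : d ≠ b) (hu : Un θ T u)
    (a a' : Fin n → F) : ∃ t, Un θ T t ∧ hf θ u t = 0 ∧ Ad θ a t ∧ Ad θ a' t := by
  obtain ⟨g, hg, rfl⟩ := c.trans1 hp hd h1.symm hu.1 hu.2
  obtain ⟨t, t1, t2, t3⟩ := c.plane h3 (g⁻¹ • a) (g⁻¹ • a')
  refine ⟨g • t, c.un_smul hg (t1.mono (by simp [insert_subset_iff, hd, hb])), ?_, by rwa [Ad, c.map_right],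
    by rwa [Ad, c.map_right]⟩
  rw [c.map, hf_ee_left, t1.2 p (by simp [h1.symm, h2.symm]), map_zero]

theorem two_step (hp : p ∈ T) (hd : d ∈ T) (hb : b ∈ T) (h1 : d ≠ p) (h2 : b ≠ p) (h3 : d ≠ b) (hg : g ∈ Blk F q T) :
    ∃ g₁ ∈ Blk F q T, ∃ g₂ ∈ Blk F q T, Ad θ (g₁ • ee F p) (ee F p) ∧ Ad θ (g₂ • ee F p) (ee F p) ∧ g = g₁ * g₂ := by
  obtain ⟨t, t1, t2, t3, -⟩ := c.nb3 hp hd hb h1 h2 h3 (un_ee hp) (g • ee F p) 0
  obtain ⟨g₁, hg₁, rfl⟩ := c.trans1 hp hd h1.symm t1.1 t1.2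
  refine ⟨g₁, hg₁, g₁⁻¹ * g, mul_mem (inv_mem hg₁) hg, ad_of_perp (c.perp t2), ?_, by group⟩
  rwa [Ad, mul_smul, ← c.map_right]

theorem gen (hp : p ∈ T) (hd : d ∈ T) (hb : b ∈ T) (h1 : d ≠ p) (h2 : b ≠ p) (h3 : d ≠ b) :
    Blk F q T ≤ Blk F q (T.erase p) ⊔ Blk F q {d, p} := fun g hg => by
  have key : ∀ g ∈ Blk F q T, Ad θ (g • ee F p) (ee F p) → g ∈ Blk F q (T.erase p) ⊔ Blk F q {d, p} := fun g hg ha => by
    obtain ⟨a, ha0, l, hl, a', ha', -, rfl⟩ := c.step hp hd hb h1 h2 h3 hg ha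
    exact mul_mem (mul_mem (Subgroup.mem_sup_left ha0) (Subgroup.mem_sup_right hl)) (Subgroup.mem_sup_left ha')
  obtain ⟨g₁, h₁, g₂, h₂, a₁, a₂, rfl⟩ := c.two_step hp hd hb h1 h2 h3 hg
  exact mul_mem (key _ h₁ a₁) (key _ h₂ a₂)

theorem exists_perp (hi : i ∈ T) (hj : j ∈ T) (hij : i ≠ j) (hr : Sup T r) (h : r = 0 ∨ hf θ r r ≠ 0) :
    ∃ s, Un θ T s ∧ hf θ r s = 0 := by
  rcases h with rfl | h
  · exact ⟨_, un_ee hi, by simp⟩
  obtain ⟨η, hη⟩ := c.exists_nm (c.symm r r)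
  have h0 : η ≠ 0 := by rintro rfl; exact h (by simpa using hη.symm)
  obtain ⟨g, hg, h1⟩ := c.trans1 (w := η⁻¹ • r) hi hj hij (by
    have : θ η ≠ 0 := by simpa using h0
    rw [hf_smul_left, hf_smul_right, ← hη, map_inv₀, nm]; field_simp) (hr.smul _)
  refine ⟨g • ee F j, c.un_smul hg (un_ee hj), ?_⟩
  rw [(inv_smul_eq_iff₀ h0).1 h1.symm, hf_smul_left, c.map, hf_ee_right]
  simp [hij.symm]

theorem exists_sing (hr : Sup T r) (h0 : r ≠ 0) (h : hf θ r r = 0) {τ : F} (h1 : θ τ = τ) (h2 : τ ≠ 0) :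
    ∃ t, Un θ T t ∧ nm θ (hf θ r t) = τ := by
  obtain ⟨k, hk⟩ := Function.ne_iff.1 h0
  have hk' : r k ≠ 0 := hk
  have hkT : k ∈ T := by by_contra e; exact hk' (hr k e)
  obtain ⟨η, hη⟩ := c.exists_nm h1
  have h3 : η ≠ 0 := by rintro rfl; exact h2 (by simpa using hη.symm)
  obtain ⟨ξ, hξ⟩ := c.exists_tr (s := 1 - nm θ (η / r k)) (by simp [c.nm_fix])
  have h4 : θ (r k) ≠ 0 := by simpa using hk'
  have h5 : θ η ≠ 0 := by simpa using h3
  refine ⟨(ξ / η) • r + θ (η / r k) • ee F k, ⟨?_, (hr.smul _).add ((sup_ee hkT).smul _)⟩, ?_⟩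
  · simp only [hf_add_left, hf_add_right, hf_smul_left, hf_smul_right, h, hf_ee_right, hf_ee_left, c.inv,
      Pi.single_eq_same, nm, map_div₀, Pi.add_apply, Pi.smul_apply, smul_eq_mul] at hξ ⊢
    field_simp at hξ ⊢
    linear_combination η * θ η * hξ
  · rw [hf_add_right, hf_smul_right, hf_smul_right, h, hf_ee_right, c.inv, mul_zero, zero_add, div_mul_cancel₀ _ hk', hη]

end Cx

/-- four distinct coordinates -/
structure Four (S : Finset (Fin n)) (z b d p : Fin n) : Prop where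
  hz : z ∈ S
  hb : b ∈ S
  hd : d ∈ S
  hp : p ∈ S
  zb : z ≠ b
  zd : z ≠ d
  zp : z ≠ p
  bd : b ≠ d
  bp : b ≠ p
  dp : d ≠ p

namespace Cx
variable (c : Cx q θ) (f : Four S z b d p)
include c f

theorem frame (h1 : Un θ S u₁) (h2 : Un θ S u₂) (ha : Ad θ u₁ u₂) :
    ∃ g ∈ Blk F q S, g • ee F p = u₁ ∧ Sup {d, p} (g⁻¹ • u₂) := by
  obtain ⟨g, hg, rfl⟩ := c.trans1 f.hp f.hd f.dp.symm h1.1 h1.2
  obtain ⟨a, ha1, l, hl, -, h5⟩ := c.dec f.hd f.hb f.dp f.bp f.bd.symm (c.un_smul (inv_mem hg) h2)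
    (by rw [Ad, ← c.map_right]; exact c.ad_symm ha)
  refine ⟨g * a, mul_mem hg (Blk_mono (erase_subset _ _) ha1), by rw [mul_smul, Blk_fix ha1], ?_⟩
  rw [_root_.mul_inv_rev, mul_smul, ← h5, inv_smul_smul]
  exact c.sup hl (sup_ee (by simp))

theorem nb4 (h1 : Un θ S u₁) (h2 : Un θ S u₂) (ha : Ad θ u₁ u₂) (a a' : Fin n → F) :
    ∃ t, Un θ S t ∧ Ad θ u₁ t ∧ Ad θ u₂ t ∧ Ad θ a t ∧ Ad θ a' t := by
  obtain ⟨g, hg, rfl, h3⟩ := c.frame f h1 h2 ha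
  obtain ⟨t, t1, t2, t3⟩ := c.plane f.zb (g⁻¹ • a) (g⁻¹ • a')
  have hD : Disjoint ({d, p} : Finset (Fin n)) {z, b} := by simp [f.zd, f.zp, f.bd, f.bp]
  refine ⟨g • t, c.un_smul hg (t1.mono (by simp [insert_subset_iff, f.hz, f.hb])), ad_of_perp ?_, ad_of_perp ?_,
    by rwa [Ad, c.map_right], by rwa [Ad, c.map_right]⟩
  · rw [c.map]; exact hf_disj (sup_ee (by simp)) t1.2 hD
  · rw [c.map_right]; exact hf_disj h3 t1.2 hD

theorem resid (h1 : Un θ S u₁) (h2 : Un θ S u₂) (ha : Ad θ u₁ u₂) (h3 : Un θ S u₃) :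
    ∃ r, Sup ((S.erase p).erase d) r ∧
      (hf θ u₁ u₂ = 0 → hf θ r r = 1 - nm θ (hf θ u₃ u₁) - nm θ (hf θ u₃ u₂)) ∧
      ∀ s, Un θ ((S.erase p).erase d) s → ∃ t, Un θ S t ∧ hf θ u₁ t = 0 ∧ hf θ u₂ t = 0 ∧ hf θ u₃ t = hf θ r s := by
  obtain ⟨g, hg, rfl, h4⟩ := c.frame f h1 h2 ha
  obtain ⟨w, rfl⟩ : ∃ w, u₃ = g • w := ⟨g⁻¹ • u₃, by simp⟩
  obtain ⟨y, rfl⟩ : ∃ y, u₂ = g • y := ⟨g⁻¹ • u₂, by simp⟩
  rw [inv_smul_smul] at h4
  have hw : Un θ S w := by simpa using c.un_smul (inv_mem hg) h3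
  have hD : Disjoint ({d, p} : Finset (Fin n)) ((S.erase p).erase d) := by simp
  refine ⟨w - w d • ee F d - w p • ee F p, fun k hk => ?_, fun h0 => ?_, fun s hs => ⟨g • s, c.un_smul hg
    (hs.mono ((erase_subset _ _).trans (erase_subset _ _))), ?_, ?_, ?_⟩⟩
  · by_cases e1 : k = d
    · simp [e1, f.dp]
    by_cases e2 : k = p
    · simp [e2, f.dp.symm]
    · simp [e1, e2, hw.2 k fun h => hk (by simp [e1, e2, h])]
  · rw [c.map, hf_ee_left, map_eq_zero] at h0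
    have hy : y = y d • ee F d := by
      ext k
      by_cases e1 : k = d
      · simp [e1]
      by_cases e2 : k = p
      · simp [e2, f.dp.symm, h0]
      · simp [e1, h4 k (by simp [e1, e2])]
    have h5 := h2.1
    rw [c.map, hy, hf_smul_left, hf_smul_right, hf_ee] at h5
    rw [c.map, c.map, hy]
    simp only [hf_sub_left, hf_sub_right, hf_smul_left, hf_smul_right, hf_ee_right, hf_ee_left, hw.1, nm, map_mul, c.inv,
      Pi.single_eq_same, Pi.single_eq_of_ne f.dp, Pi.single_eq_of_ne f.dp.symm, Pi.sub_apply, Pi.smul_apply,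
      smul_eq_mul]
    linear_combination w d * θ (w d) * h5
  · rw [c.map]; exact hf_disj (sup_ee (by simp)) hs.2 hD
  · rw [c.map]; exact hf_disj h4 hs.2 hD
  · rw [c.map, hf_sub_left, hf_sub_left, hf_smul_left, hf_smul_left, hf_disj (sup_ee (by simp)) hs.2 hD,
      hf_disj (sup_ee (by simp)) hs.2 hD]
    ring

theorem good_of (h1 : Un θ S u₁) (h2 : Un θ S u₂) (h0 : hf θ u₁ u₂ = 0) (h3 : Un θ S u₃)
    (h : nm θ (hf θ u₃ u₁) + nm θ (hf θ u₃ u₂) ≠ 1) : Good θ S u₁ u₃ u₂ := by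
  obtain ⟨r, r1, r2, r3⟩ := c.resid f h1 h2 (ad_of_perp h0) h3
  obtain ⟨s, s1, s2⟩ := c.exists_perp (i := z) (j := b) (by simp [f.hz, f.zd, f.zp]) (by simp [f.hb, f.bd, f.bp]) f.zb r1
    (Or.inr (by rw [r2 h0]; intro e; exact h (by linear_combination -e)))
  obtain ⟨t, t1, t2, t3, t4⟩ := r3 s s1
  exact ⟨t, t1, t2, t4.trans s2, t3⟩

theorem side (h1 : Un θ S u₁) (h2 : Un θ S u₂) (h3 : Un θ S u₃) (ha : Ad θ u₁ u₂) (hn : ¬ Good θ S u₁ u₂ u₃)
    {τ : F} (t1 : θ τ = τ) (t2 : τ ≠ 0) (t3 : τ ≠ 1) (t4 : nm θ (hf θ u₃ u₁) + τ ≠ 1)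
    (t5 : nm θ (hf θ u₃ u₂) + τ ≠ 1) : ∃ t, Un θ S t ∧ Ad θ u₁ t ∧ Ad θ u₂ t ∧ Ad θ u₃ t ∧ Good θ S u₁ u₂ t ∧
      Good θ S u₁ u₃ t ∧ Good θ S u₂ u₃ t := by
  obtain ⟨r, r1, -, r3⟩ := c.resid f h1 h2 ha h3
  have : ¬ (r = 0 ∨ hf θ r r ≠ 0) := fun h => by
    obtain ⟨s, s1, s2⟩ := c.exists_perp (i := z) (j := b) (by simp [f.hz, f.zd, f.zp]) (by simp [f.hb, f.bd, f.bp])
      f.zb r1 h
    obtain ⟨t, t1, t2, t3, t4⟩ := r3 s s1
    exact hn ⟨t, t1, t2, t3, t4.trans s2⟩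
  rw [not_or, not_not] at this
  obtain ⟨s, s1, s2⟩ := c.exists_sing r1 this.1 this.2 t1 t2
  obtain ⟨t, k1, k2, k3, k4⟩ := r3 s s1
  rw [← k4] at s2
  exact ⟨t, k1, ad_of_perp k2, ad_of_perp k3, by rwa [Ad, s2],
    c.good_of f h1 k1 k2 h2 (by rw [k3, nm_zero, add_zero]; exact c.ad_symm ha),
    c.good_of f h1 k1 k2 h3 (by rwa [s2]), c.good_of f h2 k1 k3 h3 (by rwa [s2])⟩

theorem tri (h1 : Un θ S u₁) (h2 : Un θ S u₂) (h3 : Un θ S u₃) (a12 : Ad θ u₁ u₂) (a13 : Ad θ u₁ u₃)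
    (a23 : Ad θ u₂ u₃) : Good θ S u₁ u₂ u₃ ∨ ∃ t, Un θ S t ∧ Ad θ u₁ t ∧ Ad θ u₂ t ∧ Ad θ u₃ t ∧
      Good θ S u₁ u₂ t ∧ Good θ S u₁ u₃ t ∧ Good θ S u₂ u₃ t := by
  refine or_iff_not_imp_left.2 fun hn => ?_
  by_contra hc
  have k3 : ∀ τ : F, θ τ = τ → τ ≠ 0 → τ ≠ 1 → nm θ (hf θ u₁ u₃) + τ = 1 ∨ nm θ (hf θ u₂ u₃) + τ = 1 :=
    fun τ t1 t2 t3 => by
      by_contra! h
      exact hc (c.side f h1 h2 h3 a12 hn t1 t2 t3 (by rw [c.nm_symm]; exact h.1) (by rw [c.nm_symm]; exact h.2))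
  have k2 : ∀ τ : F, θ τ = τ → τ ≠ 0 → τ ≠ 1 → nm θ (hf θ u₁ u₂) + τ = 1 ∨ nm θ (hf θ u₂ u₃) + τ = 1 :=
    fun τ t1 t2 t3 => by
      by_contra! h
      obtain ⟨t, m1, m2, m3, m4, m5, m6, m7⟩ := c.side f h1 h3 h2 a13 (fun e => hn e.rot) t1 t2 t3
        (by rw [c.nm_symm]; exact h.1) h.2
      exact hc ⟨t, m1, m2, m4, m3, m6, m5, m7.swap⟩
  have k1 : ∀ τ : F, θ τ = τ → τ ≠ 0 → τ ≠ 1 → nm θ (hf θ u₁ u₂) + τ = 1 ∨ nm θ (hf θ u₁ u₃) + τ = 1 :=
    fun τ t1 t2 t3 => by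
      by_contra! h
      obtain ⟨t, m1, m2, m3, m4, m5, m6, m7⟩ := c.side f h2 h3 h1 a23 (fun e => hn e.rot.swap) t1 t2 t3 h.1 h.2
      exact hc ⟨t, m1, m4, m2, m3, m6.swap, m7.swap, m5⟩
  obtain ⟨s, t, s1, t1, s2, s3, t2, t3, st⟩ := c.exists_two
  have e : ∀ x : F, x + s = 1 → x + t = 1 → False := fun x a b => st (by linear_combination a - b)
  rcases k1 s s1 s2 s3 with a | a <;> rcases k1 t t1 t2 t3 with a' | a' <;>
    rcases k2 s s1 s2 s3 with b | b <;> rcases k2 t t1 t2 t3 with b' | b' <;>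
    rcases k3 s s1 s2 s3 with d | d <;> rcases k3 t t1 t2 t3 with d' | d' <;>
    first | exact e _ a a' | exact e _ b b' | exact e _ d d' | exact e _ a b' | exact e _ b a' | exact e _ a d' |
      exact e _ d a' | exact e _ b d' | exact e _ d b'

end Cx

end Cfsg.Agent.H28.Ph
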