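import Cfsg.Agent.H28.Phan2

/-! Extension of compatible homomorphisms on two hyperplane block subgroups of `SU`. -/

set_option autoImplicit false
set_option linter.unusedSectionVars false

namespace Cfsg.Agent.H28.Ph

open Matrix Finset
open scoped MatrixGroups Classical

variable {F : Type*} [Field F] [Fintype F] {q n : ℕ} {θ : F ≃+* F} {G : Type*} [Group G]
  {S T : Finset (Fin n)} {g g' l : SU n F q} {u v w : Fin n → F} {z b d p : Fin n} {α β : SU n F q → G}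
  {x y y' a : SU n F q × G}

/-- functions multiplicative on a block subgroup -/
def Hom (S : Finset (Fin n)) (α : SU n F q → G) : Prop :=
  ∀ g ∈ Blk F q S, ∀ g' ∈ Blk F q S, α (g * g') = α g * α g'

theorem Hom.one (h : Hom S α) : α 1 = 1 := by simpa using h 1 (one_mem _) 1 (one_mem _)

theorem Hom.inv (h : Hom S α) (hg : g ∈ Blk F q S) : α g⁻¹ = (α g)⁻¹ :=
  eq_inv_of_mul_eq_one_left (by rw [← h _ (inv_mem hg) _ hg, inv_mul_cancel, h.one])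

theorem Hom.mono (h : Hom T α) (h' : S ⊆ T) : Hom S α := fun g hg g' hg' => h g (Blk_mono h' hg) g' (Blk_mono h' hg')

/-- the graph -/
def Hom.gr (h : Hom S α) : Subgroup (SU n F q × G) where
  carrier := {x | x.1 ∈ Blk F q S ∧ x.2 = α x.1}
  mul_mem' ha hb := ⟨mul_mem ha.1 hb.1, by rw [Prod.snd_mul, Prod.fst_mul, h _ ha.1 _ hb.1, ha.2, hb.2]⟩
  one_mem' := ⟨one_mem _, h.one.symm⟩
  inv_mem' ha := ⟨inv_mem ha.1, by rw [Prod.snd_inv, Prod.fst_inv, h.inv ha.1, ha.2]⟩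

/-- the data of the extension problem -/
structure Dat (θ : F ≃+* F) (S : Finset (Fin n)) (z b d p : Fin n) (α β : SU n F q → G) : Prop where
  c : Cx q θ
  f : Four S z b d p
  ha : Hom (S.erase p) α
  hb : Hom (S.erase z) β
  eq : ∀ g ∈ Blk F q ((S.erase z).erase p), α g = β g
  cm : ∀ g ∈ Blk F q ((S.erase p).erase d), ∀ l ∈ Blk F q {d, p}, α g * β l = β l * α g

theorem sup_pair (h : d ≠ p) (hv : Sup {d, p} v) : v = v d • ee F d + v p • ee F p := by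
  ext k
  by_cases e1 : k = d
  · simp [e1, h]
  by_cases e2 : k = p
  · simp [e2, h.symm]
  · simp [e1, e2, hv k (by simp [e1, e2])]

namespace Dat
variable (D : Dat θ S z b d p α β)
include D

theorem LB : ({d, p} : Finset (Fin n)) ⊆ S.erase z := by
  simp [insert_subset_iff, D.f.hd, D.f.hp, D.f.zd.symm, D.f.zp.symm]

theorem mA (hg : g ∈ Blk F q ((S.erase z).erase p)) : (g, β g) ∈ D.ha.gr :=
  ⟨Blk_mono (erase_subset_erase _ (erase_subset _ _)) hg, (D.eq g hg).symm⟩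

/-- neighbours of the base point -/
def A1 (x : SU n F q × G) : Prop := ∃ a ∈ D.ha.gr, ∃ l ∈ Blk F q {d, p}, ∃ a' ∈ D.ha.gr,
  Ad θ (l • ee F p) (ee F p) ∧ x = a * (l, β l) * a'

variable {D}

theorem A1.left (h : D.A1 x) (ha : a ∈ D.ha.gr) : D.A1 (a * x) := by
  obtain ⟨a₁, h1, l, hl, a₂, h2, h3, rfl⟩ := h
  exact ⟨a * a₁, mul_mem ha h1, l, hl, a₂, h2, h3, by simp only [mul_assoc]⟩

theorem A1.right (h : D.A1 x) (ha : a ∈ D.ha.gr) : D.A1 (x * a) := by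
  obtain ⟨a₁, h1, l, hl, a₂, h2, h3, rfl⟩ := h
  exact ⟨a₁, h1, l, hl, a₂ * a, mul_mem h2 ha, h3, by simp only [mul_assoc]⟩

theorem A1.inv (h : D.A1 x) : D.A1 x⁻¹ := by
  obtain ⟨a₁, h1, l, hl, a₂, h2, h3, rfl⟩ := h
  refine ⟨a₂⁻¹, inv_mem h2, l⁻¹, inv_mem hl, a₁⁻¹, inv_mem h1, ?_, ?_⟩
  · rw [Ad, ← D.c.map_right]; exact D.c.ad_symm h3
  · rw [D.hb.inv (Blk_mono D.LB hl), _root_.mul_inv_rev, _root_.mul_inv_rev, mul_assoc]; rfl

theorem A1.mem (h : D.A1 x) : x.1 ∈ Blk F q S := by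
  obtain ⟨a₁, h1, l, hl, a₂, h2, -, rfl⟩ := h
  exact mul_mem (mul_mem (Blk_mono (erase_subset _ _) h1.1) (Blk_mono (D.LB.trans (erase_subset _ _)) hl))
    (Blk_mono (erase_subset _ _) h2.1)

theorem A1.ad (h : D.A1 x) : Ad θ (x.1 • ee F p) (ee F p) := by
  obtain ⟨a₁, h1, l, hl, a₂, h2, h3, rfl⟩ := h
  have := D.c.ad_smul a₁.1 h3
  rwa [Blk_fix h1.1, ← Blk_fix h2.1, ← mul_smul, ← mul_smul, Blk_fix h2.1] at this

variable (D)

theorem blift (hg : g ∈ Blk F q (S.erase z)) (h : Ad θ (g • ee F p) (ee F p)) : D.A1 (g, β g) := by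
  obtain ⟨a, ha, l, hl, a', ha', h1, rfl⟩ := D.c.step (mem_erase.2 ⟨D.f.zp.symm, D.f.hp⟩)
    (mem_erase.2 ⟨D.f.zd.symm, D.f.hd⟩) (mem_erase.2 ⟨D.f.zb.symm, D.f.hb⟩) D.f.dp D.f.bp D.f.bd.symm hg h
  have h2 := Blk_mono (erase_subset _ _) ha
  have h3 := Blk_mono D.LB hl
  refine ⟨_, D.mA ha, l, hl, _, D.mA ha', h1, ?_⟩
  rw [D.hb _ (mul_mem h2 h3) _ (Blk_mono (erase_subset _ _) ha'), D.hb _ h2 _ h3]
  rfl

theorem ex1 (hw : Un θ S w) (h : Ad θ w (ee F p)) : ∃ y, D.A1 y ∧ y.1 • ee F p = w := by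
  obtain ⟨a, ha, l, hl, h1, h2⟩ := D.c.dec D.f.hd D.f.hb D.f.dp D.f.bp D.f.bd.symm hw h
  exact ⟨_, ⟨(a, α a), ⟨ha, rfl⟩, l, hl, 1, one_mem _, h1, rfl⟩, by simpa [mul_smul] using h2⟩

theorem key {l₁ l₂ : SU n F q} (hg : g ∈ Blk F q (S.erase p)) (h1 : l₁ ∈ Blk F q {d, p}) (h2 : l₂ ∈ Blk F q {d, p})
    (h3 : Ad θ (l₂ • ee F p) (ee F p)) (h : l₁ • ee F p = g • l₂ • ee F p) :
    (l₁, β l₁)⁻¹ * (g, α g) * (l₂, β l₂) ∈ D.ha.gr := by
  have c := D.c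
  have e1 := sup_pair D.f.dp (c.sup h1 (sup_ee (i := p) (by simp)))
  have e2 := sup_pair D.f.dp (c.sup h2 (sup_ee (i := p) (by simp)))
  have u2 := (c.map l₂ _ _).trans (hf_ee (θ := θ) p)
  rw [Ad, hf_ee_right] at h3
  have e3 : (l₁ • ee F p) p = (l₂ • ee F p) p := by
    rw [← hf_ee_right (θ := θ) (l₁ • ee F p), h, ← Blk_fix hg, c.map, Blk_fix hg, hf_ee_right]
  generalize (l₁ • ee F p) p = ξ₁, (l₂ • ee F p) p = ξ, (l₁ • ee F p) d = η₁, (l₂ • ee F p) d = η₂ at e1 e2 e3 h3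
  subst e3
  have h0 : η₂ ≠ 0 := by
    rintro rfl
    rw [e2, zero_smul, zero_add, hf_smul_left, hf_smul_right, hf_ee, mul_one] at u2
    exact h3 u2
  have e4 : g • ee F d = (η₁ / η₂) • ee F d := by
    rw [e1, e2, smul_add, smul_comm g, smul_comm g, Blk_fix hg, add_left_inj] at h
    rw [div_eq_inv_mul, mul_smul, h, smul_smul, inv_mul_cancel₀ h0, one_smul]
  have e5 : nm θ (η₁ / η₂) = 1 := by
    have := (c.map g _ _).trans (hf_ee (θ := θ) d)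
    rwa [e4, hf_smul_left, hf_smul_right, hf_ee, mul_one] at this
  obtain ⟨t, ht, e6⟩ := c.exists_diag D.f.bd.symm e5
  have ht1 : t ∈ Blk F q ((S.erase z).erase p) :=
    Blk_mono (by simp [insert_subset_iff, D.f.hd, D.f.hb, D.f.dp, D.f.bp, D.f.zd.symm, D.f.zb.symm]) ht
  have ht2 := (D.mA ht1).1
  have ht3 := Blk_mono (erase_subset _ _) ht1
  obtain ⟨a, rfl⟩ : ∃ a, g = a * t := ⟨g * t⁻¹, by simp⟩
  have ha1 : a ∈ Blk F q (S.erase p) := by simpa using mul_mem hg (inv_mem ht2)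
  have ha : a ∈ Blk F q ((S.erase p).erase d) := mem_Blk_erase ha1 (by
    rw [mul_smul, e6, smul_comm] at e4
    exact smul_right_injective _ (fun e => by simp [e] at e5) e4)
  have k1 := Blk_mono D.LB h1
  have k2 := Blk_mono D.LB h2
  have hm : l₁⁻¹ * t * l₂ ∈ Blk F q ((S.erase z).erase p) := mem_Blk_erase (mul_mem (mul_mem (inv_mem k1) ht3) k2) (by
    rw [mul_smul, mul_smul, inv_smul_eq_iff, e1, e2, smul_add, smul_comm t, smul_comm t, e6, Blk_fix ht1, smul_smul,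
      mul_div_cancel₀ _ h0])
  convert mul_mem (show (a, α a) ∈ D.ha.gr from ⟨ha1, rfl⟩) (D.mA hm) using 1
  refine Prod.ext ?_ ?_
  · change l₁⁻¹ * (a * t) * l₂ = a * (l₁⁻¹ * t * l₂)
    rw [← mul_assoc, ← c.comm ha (inv_mem h1) (by simp)]; group
  · change (β l₁)⁻¹ * α (a * t) * β l₂ = α a * β (l₁⁻¹ * t * l₂)
    rw [D.ha _ ha1 _ ht2, D.hb _ (mul_mem (inv_mem k1) ht3) _ k2, D.hb _ (inv_mem k1) _ ht3, D.eq t ht1,
      ← D.hb.inv k1, ← mul_assoc, ← D.cm _ ha _ (inv_mem h1)]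
    group

variable {D}

theorem A1.uniq (h : D.A1 y) (h' : D.A1 y') (e : y.1 • ee F p = y'.1 • ee F p) : y⁻¹ * y' ∈ D.ha.gr := by
  obtain ⟨a₁, h1, l₁, hl₁, a₂, h2, -, rfl⟩ := h
  obtain ⟨a₃, h3, l₂, hl₂, a₄, h4, h5, rfl⟩ := h'
  have h6 := mul_mem (inv_mem h1) h3
  simp only [Prod.fst_mul, mul_smul, Blk_fix h2.1, Blk_fix h4.1] at e
  have := D.key h6.1 hl₁ hl₂ h5 (by rw [Prod.fst_mul, Prod.fst_inv, mul_smul, ← e, inv_smul_smul])
  rw [← h6.2] at this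
  convert mul_mem (mul_mem (inv_mem h2) this) h4 using 1
  simp only [Prod.mk.eta]; group

theorem A1.good (h : D.A1 y) (h' : D.A1 y') (h1 : Ad θ (y.1 • ee F p) (y'.1 • ee F p))
    (h2 : Good θ S (ee F p) (y.1 • ee F p) (y'.1 • ee F p)) : D.A1 (y⁻¹ * y') := by
  have c := D.c
  obtain ⟨s, s1, s2, s3, s4⟩ := h2
  rw [hf_ee_left, map_eq_zero] at s2
  obtain ⟨a, ha, rfl⟩ := c.trans1 (S := S.erase p) (mem_erase.2 ⟨D.f.zp, D.f.hz⟩) (mem_erase.2 ⟨D.f.dp, D.f.hd⟩) D.f.zd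
    s1.1 (s1.2.erase s2)
  have hA : (a, α a)⁻¹ ∈ D.ha.gr := inv_mem ⟨ha, rfl⟩
  have aux : ∀ y, D.A1 y → hf θ (y.1 • ee F p) (a • ee F z) = 0 → ∃ g ∈ Blk F q (S.erase z),
      g • ee F p = a⁻¹ • y.1 • ee F p ∧ (g, β g)⁻¹ * ((a, α a)⁻¹ * y) ∈ D.ha.gr := fun y hy h0 => by
    have k := hy.left hA
    have k1 := c.un_smul k.mem (un_ee D.f.hp)
    have k2 := k.ad
    have e : ((a, α a)⁻¹ * y).1 • ee F p = a⁻¹ • y.1 • ee F p := mul_smul _ _ _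
    rw [c.map_right, hf_ee_right, ← e] at h0
    obtain ⟨g, hg, e'⟩ := c.trans1 (S := S.erase z) (mem_erase.2 ⟨D.f.zp.symm, D.f.hp⟩)
      (mem_erase.2 ⟨D.f.zd.symm, D.f.hd⟩) D.f.dp.symm k1.1 (k1.2.erase h0)
    exact ⟨g, hg, e'.trans e, (D.blift hg (e' ▸ k2)).uniq k e'⟩
  obtain ⟨g, hg, e1, m1⟩ := aux y h s3
  obtain ⟨g', hg', e2, m2⟩ := aux y' h' s4
  have := D.blift (mul_mem (inv_mem hg) hg') (by
    rw [Ad, mul_smul, ← c.map_right, e1, e2, c.map]; exact c.ad_symm h1)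
  rw [D.hb _ (inv_mem hg) _ hg', D.hb.inv hg] at this
  convert (this.left (inv_mem m1)).right m2 using 1
  change _ = _ * ((g, β g)⁻¹ * (g', β g')) * _
  group

variable (D) in
/-- adjacency in the covering -/
def Aj (x y : SU n F q × G) : Prop := x.1 ∈ Blk F q S ∧ D.A1 (x⁻¹ * y)

theorem Aj.mem (h : D.Aj x y) : y.1 ∈ Blk F q S := by simpa using mul_mem h.1 h.2.mem

theorem Aj.symm (h : D.Aj x y) : D.Aj y x := ⟨h.mem, by simpa using h.2.inv⟩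

theorem Aj.ad (h : D.Aj x y) : Ad θ (x.1 • ee F p) (y.1 • ee F p) := by
  have := D.c.ad_smul x.1 h.2.ad
  rw [Prod.fst_mul, Prod.fst_inv, mul_smul, smul_inv_smul] at this
  exact D.c.ad_symm this

theorem Aj.un (h : D.Aj x y) : Un θ S (x.1 • ee F p) := D.c.un_smul h.1 (un_ee D.f.hp)

theorem Aj.mul (h : D.Aj y y') (hx : x.1 ∈ Blk F q S) : D.Aj (x * y) (x * y') :=
  ⟨mul_mem hx h.1, by simpa [mul_assoc] using h.2⟩

theorem Aj.uniq (h : D.Aj x y) (h' : D.Aj x y') (e : y.1 • ee F p = y'.1 • ee F p) : y⁻¹ * y' ∈ D.ha.gr := by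
  simpa [mul_assoc] using h.2.uniq h'.2 (by simp [mul_smul, e])

variable (D) in
theorem ex (hx : x.1 ∈ Blk F q S) (hw : Un θ S w) (h : Ad θ (x.1 • ee F p) w) : ∃ y, D.Aj x y ∧ y.1 • ee F p = w := by
  obtain ⟨y, h1, h2⟩ := D.ex1 (D.c.un_smul (inv_mem hx) hw) (by rw [Ad, ← D.c.map_right]; exact D.c.ad_symm h)
  exact ⟨x * y, ⟨hx, by simpa using h1⟩, by rw [Prod.fst_mul, mul_smul, h2, smul_inv_smul]⟩

theorem Aj.good (h : D.Aj x y) (h' : D.Aj x y') (h1 : Ad θ (y.1 • ee F p) (y'.1 • ee F p))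
    (h2 : Good θ S (x.1 • ee F p) (y.1 • ee F p) (y'.1 • ee F p)) : D.Aj y y' := by
  refine ⟨h.mem, ?_⟩
  have := h.2.good h'.2 (by simpa only [Prod.fst_mul, Prod.fst_inv, mul_smul] using D.c.ad_smul x.1⁻¹ h1) (by
    obtain ⟨s, s1, s2, s3, s4⟩ := h2
    refine ⟨x.1⁻¹ • s, D.c.un_smul (inv_mem h.1) s1, by rw [← D.c.map_left, s2], ?_, ?_⟩ <;>
      simp only [Prod.fst_mul, Prod.fst_inv, mul_smul, D.c.map, s3, s4])
  simpa [mul_assoc] using this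

theorem Aj.tri (h : D.Aj x y) (h' : D.Aj x y') (h1 : Ad θ (y.1 • ee F p) (y'.1 • ee F p)) : D.Aj y y' := by
  rcases D.c.tri D.f h.un h.symm.un h'.symm.un h.ad h'.ad h1 with h2 | ⟨t, t1, t2, t3, t4, t5, t6, t7⟩
  · exact h.good h' h1 h2
  obtain ⟨s, s1, rfl⟩ := D.ex h.1 t1 t2
  exact (h.good s1 t3 t5).symm.good (h'.good s1 t4 t6).symm h1 t7.rot.swap

variable (D) in
/-- the component of the base point -/
def R (x : SU n F q × G) : Prop := ∃ y, D.Aj 1 y ∧ D.Aj y x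

theorem R.uniq (h : D.R x) (h' : D.R y) (e : x.1 • ee F p = y.1 • ee F p) : x⁻¹ * y ∈ D.ha.gr := by
  obtain ⟨x', h1, h2⟩ := h
  obtain ⟨y', h3, h4⟩ := h'
  obtain ⟨t, t1, t2, t3, t4, t5⟩ := D.c.nb4 D.f h1.un h2.un h1.ad (x.1 • ee F p) (y'.1 • ee F p)
  obtain ⟨s, s1, rfl⟩ := D.ex h1.1 t1 t2
  exact ((h1.tri s1 t3).tri h2 (D.c.ad_symm t4)).uniq ((h3.tri s1 t5).tri h4 (e ▸ D.c.ad_symm t4)) e

theorem R.step (h : D.R x) (h' : D.Aj x y) : D.R y := by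
  obtain ⟨x', h1, h2⟩ := h
  obtain ⟨t, t1, t2, t3, t4, t5⟩ := D.c.nb4 D.f h1.un h2.un h1.ad (x.1 • ee F p) (y.1 • ee F p)
  obtain ⟨s, s1, rfl⟩ := D.ex h1.1 t1 t2
  exact ⟨s, s1, ((h1.tri s1 t3).tri h2 (D.c.ad_symm t4)).symm.tri h' (D.c.ad_symm t5)⟩

theorem R.mul (h : D.R x) (h' : D.R y) : D.R (x * y) := by
  obtain ⟨y', h3, h4⟩ := h'
  have hx : x.1 ∈ Blk F q S := by obtain ⟨_, -, h2⟩ := h; exact h2.mem
  exact (h.step (by simpa using h3.mul hx)).step (h4.mul hx)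

theorem R.right (h : D.R x) (ha : a ∈ D.ha.gr) : D.R (x * a) := by
  obtain ⟨x', h1, h2⟩ := h
  exact ⟨x', h1, h2.1, by simpa [mul_assoc] using h2.2.right ha⟩

variable (D)

theorem R_B (hg : g ∈ Blk F q (S.erase z)) : D.R (g, β g) := by
  obtain ⟨g₁, h1, g₂, h2, a1, a2, rfl⟩ := D.c.two_step (mem_erase.2 ⟨D.f.zp.symm, D.f.hp⟩)
    (mem_erase.2 ⟨D.f.zd.symm, D.f.hd⟩) (mem_erase.2 ⟨D.f.zb.symm, D.f.hb⟩) D.f.dp D.f.bp D.f.bd.symm hg
  refine ⟨(g₁, β g₁), ⟨one_mem _, by simpa using D.blift h1 a1⟩, Blk_mono (erase_subset _ _) h1, ?_⟩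
  rw [D.hb _ h1 _ h2]
  simpa using D.blift h2 a2

theorem R_A (hg : g ∈ Blk F q (S.erase p)) : D.R (g, α g) := by
  have := (D.R_B (one_mem _)).right (show (g, α g) ∈ D.ha.gr from ⟨hg, rfl⟩)
  simpa [D.hb.one] using this

theorem R_ex (hg : g ∈ Blk F q S) : ∃ y, D.R (g, y) := by
  have h := D.c.gen D.f.hp D.f.hd D.f.hb D.f.dp D.f.bp D.f.bd.symm hg
  rw [Subgroup.sup_eq_closure] at h
  induction h using Subgroup.closure_induction'' with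
  | one => exact ⟨_, D.R_A (one_mem _)⟩
  | mem x hx =>
    rcases hx with h | h
    exacts [⟨_, D.R_A h⟩, ⟨_, D.R_B (Blk_mono D.LB h)⟩]
  | inv_mem x hx =>
    rcases hx with h | h
    exacts [⟨_, D.R_A (inv_mem h)⟩, ⟨_, D.R_B (inv_mem (Blk_mono D.LB h))⟩]
  | mul x y hx hy ihx ihy =>
    have hle : Subgroup.closure ((Blk F q (S.erase p) : Set (SU n F q)) ∪ Blk F q {d, p}) ≤ Blk F q S := by
      rw [← Subgroup.sup_eq_closure]
      exact sup_le (Blk_mono (erase_subset _ _)) (Blk_mono (D.LB.trans (erase_subset _ _)))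
    obtain ⟨a, ha⟩ := ihx (hle hx)
    obtain ⟨a', ha'⟩ := ihy (hle hy)
    exact ⟨_, ha.mul ha'⟩

theorem R_eq {s s' : G} (h : D.R (g, s)) (h' : D.R (g, s')) : s = s' := by
  have := (h.uniq h' rfl).2
  simpa [D.ha.one, inv_mul_eq_one] using this

theorem extend : ∃ f : SU n F q → G, Hom S f ∧ (∀ g ∈ Blk F q (S.erase p), f g = α g) ∧
    ∀ g ∈ Blk F q (S.erase z), f g = β g := by
  have h : ∀ g : SU n F q, ∃ y, g ∈ Blk F q S → D.R (g, y) := fun g => by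
    by_cases hg : g ∈ Blk F q S
    · obtain ⟨y, hy⟩ := D.R_ex hg; exact ⟨y, fun _ => hy⟩
    · exact ⟨1, fun h => absurd h hg⟩
  choose f hf using h
  exact ⟨f, fun g hg g' hg' => D.R_eq (hf _ (mul_mem hg hg')) ((hf g hg).mul (hf g' hg')),
    fun g hg => D.R_eq (hf g (Blk_mono (erase_subset _ _) hg)) (D.R_A hg),
    fun g hg => D.R_eq (hf g (Blk_mono (erase_subset _ _) hg)) (D.R_B hg)⟩

end Dat

end Cfsg.Agent.H28.Ph
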