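import Cfsg.Agent.H28.Phan3

/-! `SU_N` is the universal completion of its Phan amalgam; block embeddings. -/

set_option autoImplicit false
set_option linter.unusedSectionVars false

namespace Cfsg.Agent.H28.Ph

open Matrix Finset
open scoped MatrixGroups Classical

variable {F : Type*} [Field F] [Fintype F] {q n m : ℕ} {θ : F ≃+* F} {G : Type*} [Group G]

/-- intervals of coordinates -/
def Iv (n a k : ℕ) : Finset (Fin n) := {i | a ≤ (i : ℕ) ∧ (i : ℕ) < a + k}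

theorem mem_Iv {a k : ℕ} {i : Fin n} : i ∈ Iv n a k ↔ a ≤ (i : ℕ) ∧ (i : ℕ) < a + k := by simp [Iv]

theorem Iv_sub {a k a' k' : ℕ} (h1 : a' ≤ a) (h2 : a + k ≤ a' + k') : Iv n a k ⊆ Iv n a' k' := fun i hi => by
  rw [mem_Iv] at *; omega

theorem Cx.genI (c : Cx q θ) (K : Subgroup (SU n F q)) (a k : ℕ) (h : a + (k + 2) ≤ n)
    (hK : ∀ i, a ≤ i → i + 2 ≤ a + (k + 2) → Blk F q (Iv n i 2) ≤ K) : Blk F q (Iv n a (k + 2)) ≤ K := by
  induction k with
  | zero => exact hK a le_rfl le_rfl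
  | succ k ih =>
    refine (c.gen (p := ⟨a + k + 2, by omega⟩) (d := ⟨a + k + 1, by omega⟩) (b := ⟨a, by omega⟩)
      (by simp [mem_Iv]; omega) (by simp [mem_Iv]; omega) (by simp [mem_Iv]) (by simp) (by simp; omega)
      (by simp; omega)).trans (sup_le ((Blk_mono fun i hi => ?_).trans (ih (by omega) fun i h1 h2 => hK i h1 (by omega)))
      ((Blk_mono fun i hi => ?_).trans (hK (a + k + 1) (by omega) (by omega))))
    · simp only [mem_erase, mem_Iv, ne_eq, Fin.ext_iff] at hi ⊢; omega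
    · simp only [mem_insert, mem_singleton, mem_Iv, Fin.ext_iff] at hi ⊢; omega

theorem Cx.indI (c : Cx q θ) {a k : ℕ} (h : a + (k + 2) ≤ n) (P : SU n F q → Prop) (h1 : P 1)
    (hm : ∀ g ∈ Blk F q (Iv n a (k + 2)), ∀ g' ∈ Blk F q (Iv n a (k + 2)), P g → P g' → P (g * g'))
    (hi : ∀ g ∈ Blk F q (Iv n a (k + 2)), P g → P g⁻¹)
    (hK : ∀ i, a ≤ i → i + 2 ≤ a + (k + 2) → ∀ g ∈ Blk F q (Iv n i 2), P g) :
    ∀ g ∈ Blk F q (Iv n a (k + 2)), P g := fun _ hg =>
  (c.genI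
    { carrier := {g | g ∈ Blk F q (Iv n a (k + 2)) ∧ P g}
      mul_mem' := fun ha hb => ⟨mul_mem ha.1 hb.1, hm _ ha.1 _ hb.1 ha.2 hb.2⟩
      one_mem' := ⟨one_mem _, h1⟩
      inv_mem' := fun ha => ⟨inv_mem ha.1, hi _ ha.1 ha.2⟩ } a k h
    (fun i h1 h2 g hg => ⟨Blk_mono (Iv_sub h1 h2) hg, hK i h1 h2 g hg⟩) hg).2

theorem Cx.univ_aux (c : Cx q θ) (φ ψ : ℕ → SU n F q → G) (h1 : ∀ i, i + 3 ≤ n → Hom (Iv n i 3) (φ i))
    (h2 : ∀ i, i + 3 ≤ n → ∀ g ∈ Blk F q (Iv n i 2), φ i g = ψ i g)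
    (h3 : ∀ i, i + 3 ≤ n → ∀ g ∈ Blk F q (Iv n (i + 1) 2), φ i g = ψ (i + 1) g)
    (h4 : ∀ i j, i + 2 ≤ j → j + 2 ≤ n → ∀ g ∈ Blk F q (Iv n i 2), ∀ g' ∈ Blk F q (Iv n j 2),
      ψ i g * ψ j g' = ψ j g' * ψ i g) (k : ℕ) : ∀ a, a + (k + 3) ≤ n → ∃ f : SU n F q → G, Hom (Iv n a (k + 3)) f ∧
      ∀ i, a ≤ i → i + 2 ≤ a + (k + 3) → ∀ g ∈ Blk F q (Iv n i 2), f g = ψ i g := by
  induction k with
  | zero =>
    refine fun a ha => ⟨φ a, h1 a ha, fun i i1 i2 g hg => ?_⟩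
    obtain rfl | rfl : i = a ∨ i = a + 1 := by omega
    exacts [h2 _ ha g hg, h3 _ ha g hg]
  | succ k ih =>
    intro a ha
    obtain ⟨α, a1, a2⟩ := ih a (by omega)
    obtain ⟨β, b1, b2⟩ := ih (a + 1) (by omega)
    have e1 : (Iv n a (k + 1 + 3)).erase ⟨a + k + 3, by omega⟩ = Iv n a (k + 3) := by
      ext i; simp only [mem_erase, mem_Iv, ne_eq, Fin.ext_iff]; omega
    have e2 : (Iv n a (k + 1 + 3)).erase ⟨a, by omega⟩ = Iv n (a + 1) (k + 3) := by
      ext i; simp only [mem_erase, mem_Iv, ne_eq, Fin.ext_iff]; omega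
    have D : Dat θ (Iv n a (k + 1 + 3)) ⟨a, by omega⟩ ⟨a + k + 1, by omega⟩ ⟨a + k + 2, by omega⟩
        ⟨a + k + 3, by omega⟩ α β := by
      refine ⟨c, ⟨by simp [mem_Iv], by simp [mem_Iv]; omega, by simp [mem_Iv]; omega, by simp [mem_Iv]; omega,
        by simp; omega, by simp; omega, by simp; omega, by simp, by simp, by simp⟩, e1 ▸ a1, e2 ▸ b1,
        fun g hg => ?_, fun g hg l hl => ?_⟩
      · have s1 : Iv n (a + 1) (k + 2) ⊆ Iv n a (k + 3) := Iv_sub (by omega) (by omega)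
        have s2 : Iv n (a + 1) (k + 2) ⊆ Iv n (a + 1) (k + 3) := Iv_sub (by omega) (by omega)
        refine c.indI (a := a + 1) (k := k) (by omega) (fun g => α g = β g) (a1.one.trans b1.one.symm)
          (fun g hg g' hg' p1 p2 => ?_) (fun g hg p1 => ?_) (fun i i1 i2 g hg => ?_) g (Blk_mono (fun i hi => ?_) hg)
        · rw [a1.mono s1 g hg g' hg', b1.mono s2 g hg g' hg', p1, p2]
        · rw [(a1.mono s1).inv hg, (b1.mono s2).inv hg, p1]
        · rw [a2 i (by omega) (by omega) g hg, b2 i i1 (by omega) g hg]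
        · simp only [mem_erase, mem_Iv, ne_eq, Fin.ext_iff] at hi ⊢; omega
      · have hl' : l ∈ Blk F q (Iv n (a + k + 2) 2) := Blk_mono (fun i hi => by
          simp only [mem_insert, mem_singleton, mem_Iv, Fin.ext_iff] at hi ⊢; omega) hl
        have s1 : Iv n a (k + 2) ⊆ Iv n a (k + 3) := Iv_sub (by omega) (by omega)
        refine c.indI (a := a) (k := k) (by omega) (fun g => Commute (α g) (β l)) (by rw [a1.one]; exact Commute.one_left _)
          (fun g hg g' hg' p1 p2 => ?_) (fun g hg p1 => ?_) (fun i i1 i2 g hg => ?_) g (Blk_mono (fun i hi => ?_) hg)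
        · rw [a1.mono s1 g hg g' hg']; exact p1.mul_left p2
        · rw [(a1.mono s1).inv hg]; exact p1.inv_left
        · rw [a2 i i1 (by omega) g hg, b2 _ (by omega) (by omega) l hl']
          exact h4 i _ (by omega) (by omega) g hg l hl'
        · simp only [mem_erase, mem_Iv, ne_eq, Fin.ext_iff] at hi ⊢; omega
    obtain ⟨f, f1, f2, f3⟩ := D.extend
    rw [e1] at f2
    rw [e2] at f3
    refine ⟨f, f1, fun i i1 i2 g hg => ?_⟩
    by_cases h : i = a
    · rw [f2 g (Blk_mono (Iv_sub i1 (by omega)) hg), a2 i i1 (by omega) g hg]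
    · rw [f3 g (Blk_mono (Iv_sub (by omega) (by omega)) hg), b2 i (by omega) (by omega) g hg]

section Emb
variable (j : Fin m → Fin n)

variable (F) in
/-- the matrix of a coordinate embedding -/
def Pm : Matrix (Fin n) (Fin m) F := Matrix.of fun i a => if i = j a then 1 else 0

/-- block embedding of matrices -/
def embM (A : Matrix (Fin m) (Fin m) F) : Matrix (Fin n) (Fin n) F := 1 + Pm F j * (A - 1) * (Pm F j)ᵀ

variable {j}

theorem Pm_mul (hj : Function.Injective j) : (Pm F j)ᵀ * Pm F j = 1 := by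
  ext a b
  simp [Pm, Matrix.mul_apply, one_apply, hj.eq_iff, eq_comm]

theorem Pm_ee (a : Fin m) : Pm F j *ᵥ ee F a = ee F (j a) := by
  ext i; simp [Pm, Pi.single_apply]

theorem PmT_apply (v : Fin n → F) (a : Fin m) : ((Pm F j)ᵀ *ᵥ v) a = v (j a) := by
  simp [Pm, mulVec, dotProduct]

theorem Pm_apply (hj : Function.Injective j) (v : Fin m → F) (a : Fin m) : (Pm F j *ᵥ v) (j a) = v a := by
  rw [← PmT_apply (j := j) (Pm F j *ᵥ v) a, mulVec_mulVec, Pm_mul hj, one_mulVec]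

theorem Pm_apply' (v : Fin m → F) {k : Fin n} (hk : k ∉ univ.image j) : (Pm F j *ᵥ v) k = 0 := by
  simp only [mem_image, mem_univ, true_and, not_exists] at hk
  simp [Pm, mulVec, dotProduct, fun a => Ne.symm (hk a)]

theorem Pm_PmT (hj : Function.Injective j) {v : Fin n → F} (hv : Sup (univ.image j) v) :
    Pm F j *ᵥ ((Pm F j)ᵀ *ᵥ v) = v := by
  ext k
  by_cases hk : k ∈ univ.image j
  · obtain ⟨a, -, rfl⟩ := mem_image.1 hk
    rw [Pm_apply hj, PmT_apply]
  · rw [Pm_apply' _ hk, hv k hk]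

theorem embM_mul (hj : Function.Injective j) (A B : Matrix (Fin m) (Fin m) F) : embM j (A * B) = embM j A * embM j B := by
  have : Pm F j * (A - 1) * (Pm F j)ᵀ * (Pm F j * (B - 1) * (Pm F j)ᵀ) = Pm F j * ((A - 1) * (B - 1)) * (Pm F j)ᵀ := by
    simp only [Matrix.mul_assoc]
    rw [← Matrix.mul_assoc (Pm F j)ᵀ, Pm_mul hj, Matrix.one_mul]
  rw [embM, embM, embM, add_mul, mul_add, mul_add, this, show A * B - 1 = (B - 1) + ((A - 1) + (A - 1) * (B - 1)) by
    noncomm_ring, Matrix.mul_add, Matrix.mul_add, Matrix.add_mul, Matrix.add_mul]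
  simp only [Matrix.one_mul, Matrix.mul_one, add_assoc]

theorem embM_one : embM j (1 : Matrix (Fin m) (Fin m) F) = 1 := by simp [embM]

theorem det_embM (hj : Function.Injective j) (A : Matrix (Fin m) (Fin m) F) : (embM j A).det = A.det := by
  rw [embM, Matrix.mul_assoc, det_one_add_mul_comm, Matrix.mul_assoc, Pm_mul hj]; simp

theorem cT_embM (A : Matrix (Fin m) (Fin m) F) : cT θ (embM j A) = embM j (cT θ A) := by
  have h : (Pm F j).map θ = Pm F j := by ext i a; simp [Pm, apply_ite θ]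
  have : cT θ (Pm F j * (A - 1) * (Pm F j)ᵀ) = Pm F j * cT θ (A - 1) * (Pm F j)ᵀ := by
    have h' : (Pm F j * (A - 1) * (Pm F j)ᵀ).map θ = (Pm F j).map θ * (A - 1).map θ * ((Pm F j).map θ)ᵀ := by
      ext a b; simp [Matrix.mul_apply, map_sum]
    unfold cT
    rw [h', h, transpose_mul, transpose_mul, transpose_transpose, Matrix.mul_assoc]
  simp only [embM, cT_add, this, cT_sub, cT_one]

theorem embM_Pm (hj : Function.Injective j) (A : Matrix (Fin m) (Fin m) F) (v : Fin m → F) :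
    embM j A *ᵥ (Pm F j *ᵥ v) = Pm F j *ᵥ (A *ᵥ v) := by
  rw [embM, add_mulVec, one_mulVec, ← mulVec_mulVec, mulVec_mulVec v, Pm_mul hj, one_mulVec, ← mulVec_mulVec,
    sub_mulVec, mulVec_sub, one_mulVec, add_sub_cancel]

theorem embM_ee (A : Matrix (Fin m) (Fin m) F) {k : Fin n} (hk : k ∉ univ.image j) : embM j A *ᵥ ee F k = ee F k := by
  have : (Pm F j)ᵀ *ᵥ ee F k = 0 := by
    ext a
    rw [PmT_apply]
    exact Pi.single_eq_of_ne (by rintro rfl; simp at hk) _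
  rw [embM, add_mulVec, one_mulVec, ← mulVec_mulVec, this, mulVec_zero, add_zero]

theorem embM_inj (hj : Function.Injective j) {A B : Matrix (Fin m) (Fin m) F} (h : embM j A = embM j B) : A = B := by
  ext a b
  have := congrFun ((embM_Pm hj A (ee F b)).symm.trans (h ▸ embM_Pm hj B (ee F b))) (j a)
  simpa [Pm_apply hj] using this

/-- block embedding of special unitary groups -/
def Cx.emb (c : Cx q θ) (hj : Function.Injective j) : SU m F q →* SU n F q :=
  MonoidHom.mk' (fun g => ⟨⟨embM j (mt g), by rw [det_embM hj, g.1.2]⟩, (mem_SU_iff c.pow).2 (by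
    rw [cT_embM, ← embM_mul hj, (mem_SU_iff c.pow).1 g.2, embM_one])⟩)
    fun g g' => Subtype.ext (Subtype.ext (embM_mul hj _ _))

variable (c : Cx q θ) (hj : Function.Injective j)

theorem Cx.emb_inj : Function.Injective (c.emb hj) := fun _ _ h =>
  Subtype.ext (Subtype.ext (embM_inj hj (congrArg mt h)))

theorem Cx.emb_Pm (g : SU m F q) (v : Fin m → F) : c.emb hj g • (Pm F j *ᵥ v) = Pm F j *ᵥ (g • v) := embM_Pm hj _ v

theorem Cx.emb_ee (g : SU m F q) (a : Fin m) : c.emb hj g • ee F (j a) = Pm F j *ᵥ (g • ee F a) := by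
  rw [← Pm_ee, c.emb_Pm]

theorem Cx.emb_mem (g : SU m F q) : c.emb hj g ∈ Blk F q (univ.image j) := fun _ hk => embM_ee _ hk

theorem Cx.exists_emb {g : SU n F q} (hg : g ∈ Blk F q (univ.image j)) : ∃ s, c.emb hj s = g := by
  have h : embM j ((Pm F j)ᵀ * mt g * Pm F j) = mt g := by
    ext i k
    have : embM j ((Pm F j)ᵀ * mt g * Pm F j) *ᵥ ee F k = mt g *ᵥ ee F k := by
      by_cases hk : k ∈ univ.image j
      · obtain ⟨a, -, rfl⟩ := mem_image.1 hk
        rw [← Pm_ee, embM_Pm hj, ← mulVec_mulVec, ← mulVec_mulVec, Pm_ee]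
        exact Pm_PmT hj (c.sup hg (sup_ee hk))
      · rw [embM_ee _ hk]; exact (hg k hk).symm
    simpa using congrFun this i
  refine ⟨⟨⟨(Pm F j)ᵀ * mt g * Pm F j, by rw [← det_embM hj, h, g.1.2]⟩, (mem_SU_iff c.pow).2 (embM_inj hj ?_)⟩,
    Subtype.ext (Subtype.ext h)⟩
  rw [embM_mul hj, ← cT_embM, h, embM_one]
  exact (mem_SU_iff c.pow).1 g.2

theorem Cx.emb_emb {l : ℕ} {k : Fin l → Fin m} (hk : Function.Injective k) {j' : Fin l → Fin n}
    (hj' : Function.Injective j') (e : ∀ a, j' a = j (k a)) (g : SU l F q) :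
    c.emb hj (c.emb hk g) = c.emb hj' g := by
  have hP : Pm F j * Pm F k = Pm F j' := by
    ext i a; simp [Pm, Matrix.mul_apply, e]
  refine Subtype.ext (Subtype.ext ?_)
  change embM j (embM k (mt g)) = embM j' (mt g)
  rw [embM, embM, embM, add_sub_cancel_left, ← hP, transpose_mul]
  simp only [Matrix.mul_assoc]

/-- transport of a homomorphism to a block -/
noncomputable def Cx.tr (f : SU m F q →* G) (g : SU n F q) : G := f (Function.invFun (c.emb hj) g)

theorem Cx.tr_emb (f : SU m F q →* G) (s : SU m F q) : c.tr hj f (c.emb hj s) = f s :=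
  congrArg f (Function.leftInverse_invFun (c.emb_inj hj) s)

theorem Cx.tr_hom (f : SU m F q →* G) : Hom (univ.image j) (c.tr hj f) := fun g hg g' hg' => by
  obtain ⟨s, rfl⟩ := c.exists_emb hj hg
  obtain ⟨s', rfl⟩ := c.exists_emb hj hg'
  rw [← map_mul, c.tr_emb, c.tr_emb, c.tr_emb, map_mul]

end Emb

/-- shifted coordinates -/
def sh (m i : ℕ) (h : i + m ≤ n) (a : Fin m) : Fin n := ⟨i + a, by omega⟩

theorem sh_inj {i : ℕ} (h : i + m ≤ n) : Function.Injective (sh m i h) := fun a b e => by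
  simpa [sh, Fin.ext_iff] using e

theorem image_sh {i : ℕ} (h : i + m ≤ n) : univ.image (sh m i h) = Iv n i m := by
  ext k
  simp only [mem_image, mem_univ, true_and, mem_Iv, sh, Fin.ext_iff]
  exact ⟨by rintro ⟨a, e⟩; omega, fun hk => ⟨⟨k - i, by omega⟩, by simp; omega⟩⟩

/-- the two standard embeddings -/
abbrev Cx.E0 (c : Cx q θ) : SU 2 F q →* SU 3 F q := c.emb (sh_inj (show 0 + 2 ≤ 3 by omega))
/-- the two standard embeddings -/
abbrev Cx.E1 (c : Cx q θ) : SU 2 F q →* SU 3 F q := c.emb (sh_inj (show 1 + 2 ≤ 3 by omega))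

theorem Cx.universal (c : Cx q θ) (hn : 3 ≤ n) (Φ : ℕ → SU 3 F q →* G) (Ψ : ℕ → SU 2 F q →* G)
    (h2 : ∀ i, i + 3 ≤ n → ∀ s, Φ i (c.E0 s) = Ψ i s) (h3 : ∀ i, i + 3 ≤ n → ∀ s, Φ i (c.E1 s) = Ψ (i + 1) s)
    (h4 : ∀ i j, i + 2 ≤ j → j + 2 ≤ n → ∀ s s', Ψ i s * Ψ j s' = Ψ j s' * Ψ i s) :
    ∃ f : SU n F q →* G, ∀ i, i + 2 ≤ n → (Ψ i).range ≤ f.range := by
  obtain ⟨k, rfl⟩ := Nat.exists_eq_add_of_le' hn
  obtain ⟨f, f1, f2⟩ := c.univ_aux (n := k + 3)
    (fun i g => if h : i + 3 ≤ k + 3 then c.tr (sh_inj h) (Φ i) g else 1)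
    (fun i g => if h : i + 2 ≤ k + 3 then c.tr (sh_inj h) (Ψ i) g else 1)
    (fun i hi => by simp only [hi, dif_pos]; exact image_sh hi ▸ c.tr_hom _ _)
    (fun i hi g hg => by
      have hi' : i + 2 ≤ k + 3 := by omega
      obtain ⟨s, rfl⟩ := c.exists_emb (sh_inj hi') (by rwa [image_sh])
      rw [dif_pos hi, dif_pos hi', c.tr_emb, ← h2 i hi, ← c.emb_emb (sh_inj hi) (sh_inj (show 0 + 2 ≤ 3 by omega))
        (sh_inj hi') (fun a => by simp [sh]), c.tr_emb])
    (fun i hi g hg => by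
      have hi' : i + 1 + 2 ≤ k + 3 := by omega
      obtain ⟨s, rfl⟩ := c.exists_emb (sh_inj hi') (by rwa [image_sh])
      rw [dif_pos hi, dif_pos hi', c.tr_emb, ← h3 i hi, ← c.emb_emb (sh_inj hi) (sh_inj (show 1 + 2 ≤ 3 by omega))
        (sh_inj hi') (fun a => by simp [sh, add_assoc]), c.tr_emb])
    (fun i j hij hj g hg g' hg' => by
      have hi' : i + 2 ≤ k + 3 := by omega
      rw [dif_pos hi', dif_pos hj]
      exact h4 i j hij hj _ _) k 0 (by omega)
  have hu : ∀ g : SU (k + 3) F q, g ∈ Blk F q (Iv (k + 3) 0 (k + 3)) := fun g i hi => absurd (by simp [mem_Iv]) hi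
  refine ⟨MonoidHom.mk' f fun g g' => f1 g (hu g) g' (hu g'), fun i hi => ?_⟩
  rintro _ ⟨s, rfl⟩
  refine ⟨c.emb (sh_inj hi) s, ?_⟩
  change f _ = _
  rw [f2 i (by omega) (by omega) _ (image_sh hi ▸ c.emb_mem _ s), dif_pos hi, c.tr_emb]

end Cfsg.Agent.H28.Ph
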