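import Cfsg.Agent.H28.Phan4
import Cfsg.Agent.H28.PSLOut
import Cfsg.Agent.H12.SMore
import Cfsg.Agent.H12.Lin

/-! Automorphisms of `SU₂(q)`. -/

set_option autoImplicit false
set_option linter.unusedSectionVars false

namespace Cfsg.Agent.H28.Ph

open Matrix Finset
open scoped MatrixGroups Classical commutatorElement

variable {F : Type*} [Field F] [Fintype F] {q n m : ℕ} {θ : F ≃+* F} {G : Type*} [Group G]

theorem eq_of_mod {H : Type*} [Group H] (hG : commutator G = ⊤) {f g : G →* H}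
    (h : ∀ x, (f x)⁻¹ * g x ∈ Subgroup.center H) : f = g := by
  have hc : ∀ z ∈ Subgroup.center H, ∀ u, z * u * z⁻¹ = u := fun z hz u => by
    rw [← Subgroup.mem_center_iff.1 hz u, mul_inv_cancel_right]
  have key : ∀ a b : H, ∀ z ∈ Subgroup.center H, ∀ z' ∈ Subgroup.center H, ⁅a * z, b * z'⁆ = ⁅a, b⁆ :=
    fun a b z hz z' hz' => by
      calc _ = a * (z * (b * z') * z⁻¹) * a⁻¹ * z'⁻¹ * b⁻¹ := by rw [commutatorElement_def]; group
        _ = a * b * (z' * a⁻¹ * z'⁻¹) * b⁻¹ := by rw [hc z hz]; group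
        _ = _ := by rw [hc z' hz', commutatorElement_def]
  have : commutator G ≤ f.eqLocus g := by
    rw [commutator_def, Subgroup.commutator_le]
    intro x _ y _
    change f _ = g _
    rw [map_commutatorElement, map_commutatorElement, ← key (f x) (f y) _ (h x) _ (h y), mul_inv_cancel_left,
      mul_inv_cancel_left]
  exact MonoidHom.ext fun x => this (hG ▸ Subgroup.mem_top x)

theorem aut_SL2 {K : Type*} [Field K] [Fintype K] (h4 : 4 ≤ Fintype.card K) (δ : MulAut SL(2, K)) :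
    ∃ (g : GL (Fin 2) K) (σ : K ≃+* K), ∀ s, (δ s).1 * g.1 = g.1 * s.1.map σ := by
  let δ' : MulAut (ProjectiveSpecialLinearGroup (Fin 2) K) :=
    QuotientGroup.congr _ _ δ (Subgroup.characteristic_iff_map_eq.1 inferInstance δ)
  obtain ⟨g, σ, h⟩ : ∃ g σ, δ' = dPSL _ K g * fPSL _ K σ := by
    obtain ⟨g, σ, h | h⟩ := aut_PSL le_rfl δ'
    · exact ⟨g, σ, h⟩
    · obtain ⟨J, hJ⟩ := iPSL_mem_range_two (F := K)
      exact ⟨g * J, σ, by rw [h, mul_assoc, ← (iPSL_commute_fPSL σ).eq, map_mul, hJ, mul_assoc]⟩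
  let φ : SL(2, K) →* SL(2, K) := MonoidHom.mk' (fun s => ⟨g.1 * s.1.map σ * (g⁻¹).1, by
      rw [det_mul, det_mul, mul_right_comm, ← det_mul, Units.mul_inv, det_one, one_mul]
      exact (SpecialLinearGroup.map (σ : K →+* K) s).2⟩) fun s t => Subtype.ext (by
        change g.1 * (s.1 * t.1).map (σ : K →+* K) * _ = g.1 * s.1.map σ * (g⁻¹).1 * (g.1 * t.1.map σ * (g⁻¹).1)
        rw [Matrix.map_mul]
        simp only [Matrix.mul_assoc, Units.inv_mul_cancel_left]
        rfl)
  have := eq_of_mod (H12.commutator_SL_fin_eq_top 2 le_rfl fun _ => h4) (f := δ.toMonoidHom) (g := φ)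
    fun s => QuotientGroup.eq.1 (by
      have e : (QuotientGroup.mk (δ s) : ProjectiveSpecialLinearGroup (Fin 2) K) = δ' (QuotientGroup.mk s) := rfl
      refine e.trans ?_
      rw [h, MulAut.mul_apply, fPSL_mk σ (s' := SpecialLinearGroup.map (σ : K →+* K) s) rfl]
      exact dPSL_mk g rfl)
  refine ⟨g, σ, fun s => ?_⟩
  rw [show δ s = φ s from DFunLike.congr_fun this s]
  exact Units.inv_mul_cancel_right _ g

theorem exists_ext {K : Type*} [Field K] [Finite K] (j : K →+* F) (σ : K ≃+* K) :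
    ∃ τ : F ≃+* F, ∀ x, τ (j x) = j (σ x) := by
  obtain ⟨p, hp⟩ := CharP.exists K
  have : Fact p.Prime := ⟨CharP.char_is_prime K p⟩
  let _ := j.toAlgebra
  have : CharP F p := charP_of_injective_ringHom j.injective p
  let _ := ZMod.algebra K p
  let _ := ZMod.algebra F p
  have : IsScalarTower (ZMod p) K F := IsScalarTower.of_algebraMap_eq' (Subsingleton.elim _ _)
  exact ⟨((ringAutEquiv p σ).liftNormal F).toRingEquiv, fun x => AlgEquiv.liftNormal_commutes _ F x⟩

namespace Cx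
variable (c : Cx q θ)
include c

theorem su2 (x : SU 2 F q) : θ (mt x 0 0) = mt x 1 1 ∧ θ (mt x 0 1) = -mt x 1 0 ∧
    θ (mt x 1 0) = -mt x 0 1 ∧ θ (mt x 1 1) = mt x 0 0 := by
  have h1 : cT θ (mt x) = adjugate (mt x) := by
    rw [← Matrix.mul_one (cT θ (mt x)), ← one_smul F (1 : Matrix (Fin 2) (Fin 2) F), ← x.1.2, ← mul_adjugate,
      ← Matrix.mul_assoc, (mem_SU_iff c.pow).1 x.2, Matrix.one_mul]
  rw [adjugate_fin_two] at h1
  exact ⟨congrFun (congrFun h1 0) 0, congrFun (congrFun h1 1) 0, congrFun (congrFun h1 0) 1,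
    congrFun (congrFun h1 1) 1⟩

theorem mem2 {A : SL(2, F)} (h0 : θ (A.1 0 0) = A.1 1 1) (h1 : θ (A.1 0 1) = -A.1 1 0) : A ∈ SU 2 F q := by
  have h2 : θ (A.1 1 1) = A.1 0 0 := by rw [← h0, c.inv]
  have h3 : θ (A.1 1 0) = -A.1 0 1 := by rw [← neg_neg (A.1 1 0), ← h1, map_neg, c.inv]
  have : cT θ A.1 = adjugate A.1 := by
    rw [adjugate_fin_two]
    ext i j; fin_cases i <;> fin_cases j <;> simp [cT, h0, h1, h2, h3]
  rw [mem_SU_iff c.pow, this, adjugate_mul, A.2, one_smul]

theorem card_fix : Fintype.card (fixF θ) = q := by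
  have h := card_fixF_pow θ
  rw [c.ord, Nat.card_eq_fintype_card (α := F), c.card, Nat.card_eq_fintype_card] at h
  exact Nat.pow_left_injective (by norm_num) h

theorem perfect : commutator (SU 2 F q) = ⊤ := by
  obtain ⟨e⟩ := H12.nonempty_SU2_equiv c.card c.card_fix
  have h := H12.commutator_SL_fin_eq_top (F := fixF θ) 2 le_rfl fun _ => c.card_fix ▸ c.four
  have := map_commutator_eq _ e.symm.toMonoidHom
  rw [h, ← MonoidHom.range_eq_map, MonoidHom.range_eq_top.2 e.symm.surjective] at this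
  exact this.symm

theorem exists_conj : ∃ (P : GL (Fin 2) F) (e : SL(2, fixF θ) ≃* SU 2 F q),
    ∀ s, mt (e s) * P.1 = P.1 * s.1.map (fixF θ).subtype := by
  obtain ⟨l, hl⟩ := c.exists_nm (s := -1) (by simp)
  obtain ⟨a, ha⟩ := exists_sub_ne_zero c.ord
  have hl0 : l ≠ 0 := by rintro rfl; simp at hl
  unfold nm at hl
  let P : GL (Fin 2) F := GeneralLinearGroup.mkOfDetNeZero !![1, a; l, l * θ a] (by
    rw [det_fin_two_of]; intro h; exact mul_ne_zero hl0 ha (by linear_combination -h))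
  have hP : P.1 = !![1, a; l, l * θ a] := rfl
  have hw : !![(0 : F), 1; -1, 0] * P.1 = l • P.1.map θ := by
    rw [hP]
    ext i j; fin_cases i <;> fin_cases j <;> simp [Matrix.mul_apply, Fin.sum_univ_two, c.inv]
    · linear_combination -hl
    · linear_combination -a * hl
  have key : ∀ (X : SL(2, F)) (s : SL(2, fixF θ)), X.1 * P.1 = P.1 * s.1.map (fixF θ).subtype → X ∈ SU 2 F q :=
    fun X s h => by
      have hs : (s.1.map (fixF θ).subtype).map (θ : F →+* F) = s.1.map (fixF θ).subtype := by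
        ext i j; exact (s.1 i j).2
      have h1 := congrArg (fun M => l • M.map (θ : F →+* F)) h
      simp only [Matrix.map_mul, hs] at h1
      rw [← Matrix.mul_smul, ← Matrix.smul_mul] at h1
      erw [← hw] at h1
      rw [Matrix.mul_assoc, ← h, ← Matrix.mul_assoc, ← Matrix.mul_assoc, Units.mul_left_inj] at h1
      have h00 := congrFun (congrFun h1 0) 0
      have h01 := congrFun (congrFun h1 0) 1
      simp [Matrix.mul_apply, Fin.sum_univ_two] at h00 h01
      exact c.mem2 h01 (by linear_combination -h00)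
  let f : SL(2, fixF θ) →* SU 2 F q := MonoidHom.mk' (fun s => ⟨⟨P.1 * s.1.map (fixF θ).subtype * (P⁻¹).1, by
      rw [det_mul, det_mul, mul_right_comm, ← det_mul, Units.mul_inv, det_one, one_mul]
      exact (SpecialLinearGroup.map (fixF θ).subtype s).2⟩, key _ s (Units.inv_mul_cancel_right _ P)⟩)
    fun s t => Subtype.ext (Subtype.ext (by
        change P.1 * (s.1 * t.1).map (fixF θ).subtype * _ = P.1 * s.1.map _ * (P⁻¹).1 * (P.1 * t.1.map _ * (P⁻¹).1)
        rw [Matrix.map_mul]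
        simp only [Matrix.mul_assoc, Units.inv_mul_cancel_left]))
  have hf : ∀ s, mt (f s) * P.1 = P.1 * s.1.map (fixF θ).subtype := fun s => Units.inv_mul_cancel_right _ P
  obtain ⟨e⟩ := H12.nonempty_SU2_equiv c.card c.card_fix
  refine ⟨P, MulEquiv.ofBijective f ((Nat.bijective_iff_injective_and_card f).2 ⟨fun s t h => ?_,
    Nat.card_congr e.symm.toEquiv⟩), hf⟩
  have := hf s
  rw [h, hf, Units.mul_right_inj] at this
  exact Subtype.ext (Matrix.map_injective (fixF θ).subtype.injective this).symm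

theorem aut2 (δ : MulAut (SU 2 F q)) :
    ∃ (B : GL (Fin 2) F) (τ : F ≃+* F), ∀ x, mt (δ x) * B.1 = B.1 * (mt x).map τ := by
  obtain ⟨P, e, he⟩ := c.exists_conj
  obtain ⟨g, σ, hg⟩ := aut_SL2 (c.card_fix ▸ c.four) (e.trans (δ.trans e.symm))
  obtain ⟨τ, hτ⟩ := exists_ext (fixF θ).subtype σ
  refine ⟨P * GeneralLinearGroup.map (fixF θ).subtype g * (GeneralLinearGroup.map (τ : F →+* F) P)⁻¹, τ, fun x => ?_⟩
  obtain ⟨s, rfl⟩ := e.surjective x
  have h1 := he (e.symm (δ (e s)))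
  rw [e.apply_symm_apply] at h1
  have h2 := congrArg (fun M => M.map (fixF θ).subtype) (hg s)
  have h3 := congrArg (fun M => M.map (τ : F →+* F)) (he s)
  simp only [Matrix.map_mul] at h2 h3
  have h4 : (s.1.map (fixF θ).subtype).map (τ : F →+* F) = (s.1.map σ).map (fixF θ).subtype := by
    ext i j; exact hτ _
  rw [h4] at h3
  rw [Units.val_mul, Units.val_mul, ← Matrix.mul_assoc, Units.mul_inv_eq_iff_eq_mul, Matrix.mul_assoc _ _ (_ : GL _ F).1]
  erw [h3]
  rw [Matrix.mul_assoc _ (_ : GL _ F).1]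
  erw [Units.inv_mul_cancel_left]
  rw [← Matrix.mul_assoc, h1, Matrix.mul_assoc, Matrix.mul_assoc]
  exact congrArg _ h2

end Cx

end Cfsg.Agent.H28.Ph
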