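import Cfsg.Agent.H28.Phan5
import Cfsg.Prelude.Def_PhanSystems

/-! Noncollapsing Phan amalgams are standard. -/

set_option autoImplicit false
set_option linter.unusedSectionVars false

namespace Cfsg.Agent.H28.Ph

open Matrix Finset
open scoped MatrixGroups Classical commutatorElement

variable {F : Type*} [Field F] [Fintype F] {q n m : ℕ} {θ : F ≃+* F} {G : Type*} [Group G]

theorem su_ext' {g g' : SU n F q} (h : mt g = mt g') : g = g' := Subtype.ext (Subtype.ext h)

theorem mt_mul (g g' : SU n F q) : mt (g * g') = mt g * mt g' := rfl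

theorem diag_nm {v : Fin n → F} (hv : ∀ i, nm θ (v i) = 1) : diagonal v * diagonal (θ ∘ v) = 1 := by
  rw [diagonal_mul_diagonal, ← diagonal_one]; congr 1; funext i; exact hv i

theorem diag_nm' {v : Fin n → F} (hv : ∀ i, nm θ (v i) = 1) : diagonal (θ ∘ v) * diagonal v = 1 :=
  mul_eq_one_comm.1 (diag_nm hv)

namespace Cx
variable (c : Cx q θ)

/-- diagonal and field automorphisms -/
def tw (τ : F ≃+* F) (v : Fin n → F) (hv : ∀ i, nm θ (v i) = 1) : SU n F q →* SU n F q :=
  MonoidHom.mk' (fun g => ⟨⟨diagonal v * (mt g).map τ * diagonal (θ ∘ v), by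
      rw [det_mul, det_mul, mul_right_comm, ← det_mul, diag_nm hv, det_one, one_mul]
      exact (SpecialLinearGroup.map (τ : F →+* F) g.1).2⟩, (mem_SU_iff c.pow).2 (by
      have h1 : cT θ (diagonal v) = diagonal (θ ∘ v) := by
        rw [cT, diagonal_map (map_zero _), diagonal_transpose]; rfl
      have h2 : cT θ (diagonal (θ ∘ v)) = diagonal v := by rw [← h1, cT_cT c.inv]
      have h3 : ((mt g).map τ) = (mt g).map (τ : F →+* F) := rfl
      have h4 : ((cT θ (mt g)).map τ) = (cT θ (mt g)).map (τ : F →+* F) := rfl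
      change cT θ (diagonal v * (mt g).map τ * diagonal (θ ∘ v)) * (diagonal v * (mt g).map τ * diagonal (θ ∘ v)) = 1
      rw [cT_mul, cT_mul, h1, h2, map_cT]
      simp only [Matrix.mul_assoc]
      rw [← Matrix.mul_assoc (diagonal (θ ∘ v)), diag_nm' hv, Matrix.one_mul, ← Matrix.mul_assoc (Matrix.map _ _), h3, h4,
        ← Matrix.map_mul, (mem_SU_iff c.pow).1 g.2, Matrix.map_one _ (map_zero _) (map_one _), Matrix.one_mul,
        diag_nm hv])⟩)
    fun g g' => su_ext' (by
      change diagonal v * (mt g * mt g').map (τ : F →+* F) * _ = diagonal v * (mt g).map τ * diagonal (θ ∘ v) *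
        (diagonal v * (mt g').map τ * diagonal (θ ∘ v))
      rw [Matrix.map_mul]
      simp only [Matrix.mul_assoc]
      rw [← Matrix.mul_assoc (diagonal (θ ∘ v)), diag_nm' hv, Matrix.one_mul]
      rfl)

theorem tw_apply (τ : F ≃+* F) (v : Fin n → F) (hv : ∀ i, nm θ (v i) = 1) (g : SU n F q) (i j : Fin n) :
    mt (c.tw τ v hv g) i j = v i * τ (mt g i j) * θ (v j) := by
  change (diagonal v * (mt g).map τ * diagonal (θ ∘ v)) i j = _
  simp

theorem tw_bij (τ : F ≃+* F) (v : Fin n → F) (hv : ∀ i, nm θ (v i) = 1) : Function.Bijective (c.tw τ v hv) := by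
  refine Finite.injective_iff_bijective.1 fun g g' h => su_ext' (Matrix.ext fun i j => ?_)
  have := congrFun (congrFun (congrArg mt h) i) j
  have h0 : ∀ i, v i ≠ 0 := fun i e => by simpa [e] using hv i
  rw [c.tw_apply, c.tw_apply] at this
  simpa [h0] using this

/-- diagonal elements -/
def dd (a : F) (ha : nm θ a = 1) : SU 2 F q :=
  ⟨⟨!![a, 0; 0, θ a], by rw [det_fin_two_of, mul_zero, sub_zero]; exact ha⟩, c.mem2 rfl (by simp)⟩

/-- the Weyl element -/
def ww : SU 2 F q := ⟨⟨!![0, 1; -1, 0], by simp [det_fin_two]⟩, c.mem2 (by simp) (by simp)⟩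

theorem mt_dd (a : F) (ha : nm θ a = 1) : mt (c.dd a ha) = !![a, 0; 0, θ a] := rfl

theorem mt_ww : mt c.ww = !![0, 1; -1, 0] := rfl

theorem E0_eq (y : SU 2 F q) : mt (c.E0 y) = !![mt y 0 0, mt y 0 1, 0; mt y 1 0, mt y 1 1, 0; 0, 0, 1] := by
  change embM _ (mt y) = _
  ext i j
  fin_cases i <;> fin_cases j <;> simp [embM, Pm, sh, Matrix.mul_apply, Fin.sum_univ_two, Fin.ext_iff]

theorem E1_eq (y : SU 2 F q) : mt (c.E1 y) = !![1, 0, 0; 0, mt y 0 0, mt y 0 1; 0, mt y 1 0, mt y 1 1] := by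
  change embM _ (mt y) = _
  have : Pm F (sh 2 1 (show 1 + 2 ≤ 3 by omega)) = !![0, 0; 1, 0; 0, 1] := by
    ext i j
    fin_cases i <;> fin_cases j <;> simp only [Pm, sh, of_apply, Fin.ext_iff] <;> simp
  rw [embM, this]
  ext i j
  fin_cases i <;> fin_cases j <;>
    simp only [Matrix.add_apply, Matrix.mul_apply, Fin.sum_univ_two, transpose_apply] <;> simp

include c in
theorem nm_two {a : F} (ha : nm θ a = 1) : ∀ i, nm θ (![a, 1] i) = 1 := fun i => by
  fin_cases i <;> simp [ha]; simp [nm]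

include c in
theorem nm_three {a : F} (ha : nm θ a = 1) : ∀ i, nm θ (![a, 1, 1] i) = 1 := fun i => by
  fin_cases i <;> simp [ha] <;> simp [nm]

theorem dd_E1 {a : F} (ha : nm θ a = 1) (s : SU 2 F q) :
    c.E0 (c.dd a ha) * c.E1 s = c.E1 (c.tw 1 ![θ a, 1] (c.nm_two ((c.nm_conj a).trans ha)) s) * c.E0 (c.dd a ha) := by
  refine su_ext' ?_
  rw [mt_mul, mt_mul, c.E0_eq, c.E1_eq, c.E1_eq]
  simp only [c.tw_apply, mt_dd]
  unfold nm at ha
  ext i j
  fin_cases i <;> fin_cases j <;> simp [Matrix.mul_apply, Fin.sum_univ_three, c.inv]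
  · linear_combination -(θ a * mt s 0 0) * ha
  · linear_combination -(mt s 1 0) * ha

theorem tw_E0 (τ : F ≃+* F) {a : F} (ha : nm θ a = 1) (s : SU 2 F q) :
    c.tw τ ![a, 1, 1] (c.nm_three ha) (c.E0 s) = c.E0 (c.tw τ ![a, 1] (c.nm_two ha) s) := by
  refine su_ext' (Matrix.ext fun i j => ?_)
  rw [c.tw_apply, c.E0_eq, c.E0_eq]
  simp only [c.tw_apply]
  fin_cases i <;> fin_cases j <;> simp

theorem tw_E1 (τ : F ≃+* F) {a : F} (ha : nm θ a = 1) (s : SU 2 F q) :
    c.tw τ ![a, 1, 1] (c.nm_three ha) (c.E1 s) = c.E1 (c.tw τ ![1, 1] (c.nm_two (by simp [nm])) s) := by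
  refine su_ext' (Matrix.ext fun i j => ?_)
  rw [c.tw_apply, c.E1_eq, c.E1_eq]
  simp only [c.tw_apply]
  fin_cases i <;> fin_cases j <;> simp
  exact ha

theorem aut2_diag (δ : MulAut (SU 2 F q)) {x : SU 2 F q} (h1 : mt x 0 1 = 0) (h2 : mt x 1 0 = 0)
    (h3 : mt (δ x) 0 1 = 0) (h4 : mt (δ x) 1 0 = 0) (h5 : mt (δ x) 0 0 ≠ mt (δ x) 1 1) :
    ∃ (τ : F ≃+* F) (a : F) (ha : nm θ a = 1), ∀ s, δ s = c.tw τ ![a, 1] (c.nm_two ha) s := by
  obtain ⟨B, τ, h⟩ := c.aut2 δ
  have main : ∀ (τ : F ≃+* F) (b0 b1 : F), b0 ≠ 0 → b1 ≠ 0 →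
      (∀ s, mt (δ s) * !![b0, 0; 0, b1] = !![b0, 0; 0, b1] * (mt s).map τ) →
      ∃ (τ : F ≃+* F) (a : F) (ha : nm θ a = 1), ∀ s, δ s = c.tw τ ![a, 1] (c.nm_two ha) s := by
    intro τ b0 b1 h0 h1 h
    have e : ∀ s, mt (δ s) 0 0 * b0 = b0 * τ (mt s 0 0) ∧ mt (δ s) 0 1 * b1 = b0 * τ (mt s 0 1) ∧
        mt (δ s) 1 0 * b0 = b1 * τ (mt s 1 0) ∧ mt (δ s) 1 1 * b1 = b1 * τ (mt s 1 1) := fun s => by
      have := h s
      refine ⟨?_, ?_, ?_, ?_⟩
      · simpa [Matrix.mul_apply, Fin.sum_univ_two] using congrFun (congrFun this 0) 0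
      · simpa [Matrix.mul_apply, Fin.sum_univ_two] using congrFun (congrFun this 0) 1
      · simpa [Matrix.mul_apply, Fin.sum_univ_two] using congrFun (congrFun this 1) 0
      · simpa [Matrix.mul_apply, Fin.sum_univ_two] using congrFun (congrFun this 1) 1
    obtain ⟨-, e1, e2, -⟩ := e c.ww
    simp only [mt_ww, of_apply, cons_val', cons_val_zero, cons_val_one, cons_val_fin_one, map_one, map_neg] at e1 e2
    have e3 : b0 / b1 = mt (δ c.ww) 0 1 := by rw [div_eq_iff h1, e1, mul_one]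
    have e4 : θ (b0 / b1) = b1 / b0 := by
      rw [e3, (c.su2 _).2.1, eq_div_iff h0]; linear_combination -e2
    have ha : nm θ (b0 / b1) = 1 := by rw [nm, e4]; field_simp
    refine ⟨τ, b0 / b1, ha, fun s => su_ext' (Matrix.ext fun i j => ?_)⟩
    obtain ⟨a1, a2, a3, a4⟩ := e s
    rw [c.tw_apply]
    fin_cases i <;> fin_cases j <;> simp [-map_div₀, e4]
    · field_simp; exact mul_right_cancel₀ h0 (by linear_combination a1)
    · field_simp; linear_combination a2
    · field_simp; linear_combination a3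
    · exact mul_right_cancel₀ h1 (by linear_combination a4)
  have hB := B.det_ne_zero
  have e := h x
  have e0 := congrFun (congrFun e 0) 0
  have e1 := congrFun (congrFun e 0) 1
  have e2 := congrFun (congrFun e 1) 0
  have e3 := congrFun (congrFun e 1) 1
  simp only [Matrix.mul_apply, Fin.sum_univ_two, map_apply, h1, h2, h3, h4, map_zero] at e0 e1 e2 e3
  have d1 : (mt x).det = 1 := x.1.2
  have d2 : (mt (δ x)).det = 1 := (δ x).1.2
  rw [det_fin_two] at d1 d2 hB
  rw [h1] at d1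
  rw [h3] at d2
  have d3 := congrArg τ d1
  simp only [zero_mul, sub_zero, map_mul, map_one] at d2 d3
  by_cases hb : mt (δ x) 0 0 = τ (mt x 0 0)
  · have hb' : mt (δ x) 1 1 = τ (mt x 1 1) := by
      rw [← hb] at d3; exact mul_left_cancel₀ (left_ne_zero_of_mul_eq_one d2) (d2.trans d3.symm)
    have f1 : B.1 0 1 = 0 := by
      rw [← hb'] at e1; exact (mul_eq_zero.1 (by linear_combination e1)).resolve_left (sub_ne_zero.2 h5)
    have f2 : B.1 1 0 = 0 := by
      rw [← hb] at e2; exact (mul_eq_zero.1 (by linear_combination -e2)).resolve_left (sub_ne_zero.2 h5)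
    rw [f1, zero_mul, sub_zero] at hB
    refine main τ _ _ (left_ne_zero_of_mul hB) (right_ne_zero_of_mul hB) fun s => ?_
    have := h s
    rwa [eta_fin_two B.1, f1, f2] at this
  · have hb' : mt (δ x) 1 1 ≠ τ (mt x 1 1) := fun hb' => hb (by
      rw [← hb'] at d3; exact mul_right_cancel₀ (right_ne_zero_of_mul_eq_one d2) (d2.trans d3.symm))
    have f1 : B.1 0 0 = 0 := (mul_eq_zero.1 (by linear_combination e0)).resolve_left (sub_ne_zero.2 hb)
    have f2 : B.1 1 1 = 0 := (mul_eq_zero.1 (by linear_combination e3)).resolve_left (sub_ne_zero.2 hb')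
    rw [f1, zero_mul, zero_sub, neg_ne_zero] at hB
    refine main (τ * θ) _ (-B.1 1 0) (left_ne_zero_of_mul hB) (neg_ne_zero.2 (right_ne_zero_of_mul hB)) fun s => ?_
    have e := h s
    have e0 := congrFun (congrFun e 0) 0
    have e1 := congrFun (congrFun e 0) 1
    have e2 := congrFun (congrFun e 1) 0
    have e3 := congrFun (congrFun e 1) 1
    simp only [Matrix.mul_apply, Fin.sum_univ_two, map_apply, f1, f2] at e0 e1 e2 e3
    obtain ⟨s1, s2, s3, s4⟩ := c.su2 s
    ext i j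
    fin_cases i <;> fin_cases j <;> simp [Matrix.mul_apply, Fin.sum_univ_two, s1, s2, s3, s4]
    · linear_combination e1
    · linear_combination e0
    · linear_combination e3
    · linear_combination e2

end Cx

end Cfsg.Agent.H28.Ph
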