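import Cfsg.Agent.H28.Phan6

/-! The Phan theorem for weak Phan systems. -/

set_option autoImplicit false
set_option linter.unusedSectionVars false

namespace Cfsg.Agent.H28.Ph

open Matrix Finset
open scoped MatrixGroups Classical commutatorElement

variable {F : Type*} [Field F] [Fintype F] {q n m : ℕ} {θ : F ≃+* F} {G : Type*} [Group G]

/-- standard maps -/
structure Std (c : Cx q θ) (ψ : SU 3 F q →* G) (A B : Subgroup G) : Prop where
  ker : ∀ x, ψ x = 1 → x ∈ Subgroup.center _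
  h0 : (ψ.comp c.E0).range = A
  h1 : (ψ.comp c.E1).range = B

theorem Cx.center_fix (c : Cx q θ) {g : SU 3 F q} (hg : g ∈ Subgroup.center _) {k : Fin 3}
    (h : g • ee F k = ee F k) : g = 1 :=
  su_ext fun l => by
    obtain ⟨j, hj⟩ := exists_ne k
    obtain ⟨u, -, hu⟩ := c.trans1 (S := univ) (mem_univ k) (mem_univ j) hj.symm (hf_ee l)
      fun _ h => absurd (mem_univ _) h
    rw [← hu, one_smul, ← mul_smul, ← Subgroup.mem_center_iff.1 hg u, mul_smul, h]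

theorem Cx.mem_E0 (c : Cx q θ) {g : SU 3 F q} : g ∈ c.E0.range ↔ g • ee F (2 : Fin 3) = ee F 2 :=
  ⟨by rintro ⟨s, rfl⟩; exact c.emb_mem _ s 2 (by decide), fun h => c.exists_emb _ fun k hk => by
    obtain rfl : k = 2 := by revert k; decide
    exact h⟩

theorem Cx.mem_E1 (c : Cx q θ) {g : SU 3 F q} : g ∈ c.E1.range ↔ g • ee F (0 : Fin 3) = ee F 0 :=
  ⟨by rintro ⟨s, rfl⟩; exact c.emb_mem _ s 0 (by decide), fun h => c.exists_emb _ fun k hk => by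
    obtain rfl : k = 0 := by revert k; decide
    exact h⟩

theorem Cx.sup_E (c : Cx q θ) : c.E0.range ⊔ c.E1.range = ⊤ := by
  refine top_le_iff.1 fun g _ => c.genI (n := 3) _ 0 1 le_rfl (fun i _ hi g hg => ?_)
    fun i hi => absurd (by simp [mem_Iv]) hi
  obtain rfl | rfl : i = 0 ∨ i = 1 := by omega
  · exact Subgroup.mem_sup_left (c.mem_E0.2 (hg 2 (by simp [mem_Iv])))
  · exact Subgroup.mem_sup_right (c.mem_E1.2 (hg 0 (by simp [mem_Iv])))

theorem Cx.eq_one_of_comm (c : Cx q θ) {y : SU 2 F q} (h : c.E0 y * c.E1 c.ww = c.E1 c.ww * c.E0 y) : y = 1 := by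
  have e := congrArg mt h
  rw [mt_mul, mt_mul, c.E0_eq, c.E1_eq] at e
  have e0 := congrFun (congrFun e 0) 1
  have e1 := congrFun (congrFun e 1) 0
  have e2 := congrFun (congrFun e 1) 2
  simp [Matrix.mul_apply, Fin.sum_univ_three, c.mt_ww] at e0 e1 e2
  have d : (mt y).det = 1 := y.1.2
  rw [det_fin_two, e1, e2, mul_one, mul_zero, sub_zero] at d
  refine su_ext' ?_
  rw [eta_fin_two (mt y), d, ← e0, e1, e2]
  exact one_fin_two.symm

namespace Std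
variable {c : Cx q θ} {ψ ψ' : SU 3 F q →* G} {A B C : Subgroup G}

theorem inj0 (h : Std c ψ A B) : Function.Injective (ψ.comp c.E0) :=
  (injective_iff_map_eq_one _).2 fun s hs => c.emb_inj _
    ((c.center_fix (h.ker _ hs) (c.mem_E0.1 ⟨s, rfl⟩)).trans (map_one _).symm)

theorem inj1 (h : Std c ψ A B) : Function.Injective (ψ.comp c.E1) :=
  (injective_iff_map_eq_one _).2 fun s hs => c.emb_inj _
    ((c.center_fix (h.ker _ hs) (c.mem_E1.1 ⟨s, rfl⟩)).trans (map_one _).symm)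

theorem range (h : Std c ψ A B) : ψ.range = A ⊔ B := by
  rw [← h.h0, ← h.h1, MonoidHom.range_comp, MonoidHom.range_comp, ← Subgroup.map_sup, c.sup_E, MonoidHom.range_eq_map]

theorem cent (h : Std c ψ A B) {y : SU 2 F q} (hy : ∀ s, ψ (c.E0 y) * ψ (c.E1 s) = ψ (c.E1 s) * ψ (c.E0 y)) :
    y = 1 := by
  have := eq_of_mod c.perfect (f := c.E1) (g := (MulAut.conj (c.E0 y)).toMonoidHom.comp c.E1) fun s => h.ker _ (by
    change ψ ((c.E1 s)⁻¹ * (c.E0 y * c.E1 s * (c.E0 y)⁻¹)) = 1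
    rw [map_mul, map_mul, map_mul, hy, map_inv, map_inv]; group)
  have e : c.E1 c.ww = c.E0 y * c.E1 c.ww * (c.E0 y)⁻¹ := DFunLike.congr_fun this c.ww
  exact c.eq_one_of_comm (mul_inv_eq_iff_eq_mul.1 e.symm)

theorem step (h : Std c ψ A B) (h' : Std c ψ' B C) (hc : ∀ x ∈ A, ∀ y ∈ C, x * y = y * x) :
    ∃ φ, Std c φ B C ∧ ∀ s, φ (c.E0 s) = ψ (c.E1 s) := by
  let δ : MulAut (SU 2 F q) := (MonoidHom.ofInjective h.inj1).trans
    ((MulEquiv.subgroupCongr (h.h1.trans h'.h0.symm)).trans (MonoidHom.ofInjective h'.inj0).symm)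
  have hδ : ∀ s, ψ' (c.E0 (δ s)) = ψ (c.E1 s) := fun s =>
    MonoidHom.apply_ofInjective_symm h'.inj0 (MulEquiv.subgroupCongr (h.h1.trans h'.h0.symm)
      (MonoidHom.ofInjective h.inj1 s))
  obtain ⟨a, ha, ha1, ha2⟩ := c.exists_nm_one
  obtain ⟨x, hx⟩ := δ.surjective (c.dd a ha)
  have ht : ∀ s, ψ (c.E0 (c.dd a ha)) * ψ' (c.E1 s) = ψ' (c.E1 s) * ψ (c.E0 (c.dd a ha)) := fun s =>
    hc _ (h.h0 ▸ ⟨_, rfl⟩) _ (h'.h1 ▸ ⟨_, rfl⟩)
  have h1 := congrArg ψ (c.dd_E1 ha x)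
  rw [map_mul, map_mul, ← hδ, ← hδ, hx] at h1
  set x' := c.tw 1 ![θ a, 1] (c.nm_two ((c.nm_conj a).trans ha)) x with hx'
  have h2 : (c.dd a ha)⁻¹ * δ x' = 1 := h'.cent fun s => by
    have h3 := congrArg ψ' (c.dd_E1 ha s)
    have h4 := ht s
    have h5 := ht (c.tw 1 ![θ a, 1] (c.nm_two ((c.nm_conj a).trans ha)) s)
    rw [map_mul, map_mul] at h3
    rw [map_mul, map_mul, map_inv, map_inv, ← mul_inv_eq_iff_eq_mul.2 h1]
    generalize ψ' (c.E1 (c.tw 1 ![θ a, 1] (c.nm_two ((c.nm_conj a).trans ha)) s)) = k' at h3 h5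
    generalize ψ' (c.E1 s) = k at h3 h4 ⊢
    generalize ψ' (c.E0 (c.dd a ha)) = d at h3 ⊢
    generalize ψ (c.E0 (c.dd a ha)) = t at h4 h5 ⊢
    calc _ = d⁻¹ * t * d * (t⁻¹ * (k * t)) * t⁻¹ := by group
      _ = d⁻¹ * t * (d * k) * t⁻¹ := by rw [← h4]; group
      _ = d⁻¹ * (t * k') * d * t⁻¹ := by rw [h3]; group
      _ = d⁻¹ * (k' * d) * d⁻¹ * t * d * t⁻¹ := by rw [h5]; group
      _ = _ := by rw [← h3]; group
  rw [inv_mul_eq_one, ← hx, δ.apply_eq_iff_eq] at h2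
  have e1 := congrFun (congrFun (congrArg mt h2) 0) 1
  have e2 := congrFun (congrFun (congrArg mt h2) 1) 0
  rw [hx', c.tw_apply] at e1 e2
  simp only [cons_val_zero, cons_val_one, RingAut.one_apply, map_one, c.inv, cons_val_fin_one] at e1 e2
  have ha3 : θ a ≠ 1 := fun e => ha1 (by rw [← c.inv a, e, map_one])
  obtain ⟨τ, b, hb, h3⟩ := c.aut2_diag δ (x := x)
    ((mul_eq_zero.1 (by linear_combination -e1)).resolve_left (sub_ne_zero.2 ha3))
    ((mul_eq_zero.1 (by linear_combination -e2)).resolve_left (sub_ne_zero.2 ha1)) (hx ▸ rfl) (hx ▸ rfl) (by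
      rw [hx]
      change a ≠ θ a
      intro e
      rw [nm, ← e] at ha
      exact (mul_self_eq_one_iff.1 ha).elim ha1 ha2)
  have h4 : ∀ s, ψ' (c.tw τ ![b, 1, 1] (c.nm_three hb) (c.E0 s)) = ψ (c.E1 s) := fun s => by
    rw [c.tw_E0 τ hb, ← h3, hδ]
  refine ⟨ψ'.comp (c.tw τ ![b, 1, 1] (c.nm_three hb)), ⟨fun y hy => Subgroup.mem_center_iff.2 fun g =>
    (c.tw_bij τ _ (c.nm_three hb)).1 ?_, ?_, ?_⟩, h4⟩
  · rw [map_mul, map_mul]; exact Subgroup.mem_center_iff.1 (h'.ker _ hy) _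
  · rw [← h.h1]; congr 1; exact MonoidHom.ext h4
  · rw [← h'.h1]
    ext z
    refine ⟨by rintro ⟨s, rfl⟩; exact ⟨_, congrArg ψ' (c.tw_E1 τ hb s).symm⟩, ?_⟩
    rintro ⟨s, rfl⟩
    obtain ⟨s, rfl⟩ := (c.tw_bij τ ![1, 1] (c.nm_two (by simp [nm]))).2 s
    exact ⟨s, congrArg ψ' (c.tw_E1 τ hb s)⟩

end Std

theorem Cx.phan_nat (c : Cx q θ) (hn : 2 ≤ n) (U : ℕ → Subgroup G)
    (h1 : ∀ i j, i + 2 ≤ j → j < n → ∀ x ∈ U i, ∀ y ∈ U j, x * y = y * x)
    (h2 : ∀ i, i + 1 < n → ∃ ψ, Std c ψ (U i) (U (i + 1))) :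
    ∃ f : SU (n + 1) F q →* G, ∀ i < n, U i ≤ f.range := by
  have st : ∀ (i : ℕ) (ψ : SU 3 F q →* G), ∃ φ : SU 3 F q →* G, i + 2 < n → Std c ψ (U i) (U (i + 1)) →
      Std c φ (U (i + 1)) (U (i + 2)) ∧ ∀ s, φ (c.E0 s) = ψ (c.E1 s) := fun i ψ => by
    by_cases h : i + 2 < n ∧ Std c ψ (U i) (U (i + 1))
    · obtain ⟨ψ', h'⟩ := h2 (i + 1) h.1
      obtain ⟨φ, hφ⟩ := h.2.step h' (h1 i _ le_rfl h.1)
      exact ⟨φ, fun _ _ => hφ⟩
    · exact ⟨ψ, fun a b => absurd ⟨a, b⟩ h⟩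
  choose nx hnx using st
  obtain ⟨ψ, hψ⟩ := h2 0 (by omega)
  let Φ : ℕ → SU 3 F q →* G := Nat.rec ψ nx
  have hΦ : ∀ i, i + 1 < n → Std c (Φ i) (U i) (U (i + 1)) := fun i => by
    induction i with
    | zero => exact fun _ => hψ
    | succ i ih => exact fun h => (hnx i _ h (ih (by omega))).1
  let Ψ : ℕ → SU 2 F q →* G := fun i => Nat.casesOn i (ψ.comp c.E0) fun i => (Φ i).comp c.E1
  have hΨ : ∀ i < n, (Ψ i).range = U i := fun i hi => by
    cases i with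
    | zero => exact hψ.h0
    | succ i => exact (hΦ i hi).h1
  obtain ⟨f, hf⟩ := c.universal (n := n + 1) (by omega) Φ Ψ (fun i hi s => by
    cases i with
    | zero => rfl
    | succ i => exact (hnx i _ (by omega) (hΦ i (by omega))).2 s) (fun i _ s => rfl)
    fun i j hij hj s s' => h1 i j hij (by omega) _ (hΨ i (by omega) ▸ ⟨_, rfl⟩) _ (hΨ j (by omega) ▸ ⟨_, rfl⟩)
  exact ⟨f, fun i hi => hΨ i hi ▸ hf i (by omega)⟩

theorem Cx.phan (c : Cx q θ) (hn : 2 ≤ n) (U : Fin n → Subgroup G)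
    (h1 : ∀ i j : Fin n, (i : ℕ) + 2 ≤ j → ∀ x ∈ U i, ∀ y ∈ U j, x * y = y * x)
    (h2 : ∀ i j : Fin n, (i : ℕ) + 1 = j → ∃ ψ, Std c ψ (U i) (U j)) :
    ∃ f : SU (n + 1) F q →* G, ∀ i, U i ≤ f.range := by
  obtain ⟨f, hf⟩ := c.phan_nat hn (fun i => if h : i < n then U ⟨i, h⟩ else ⊥)
    (fun i j hij hj => by
      rw [dif_pos hj, dif_pos (show i < n by omega)]; exact h1 _ _ hij)
    (fun i hi => by
      rw [dif_pos hi, dif_pos (show i < n by omega)]; exact h2 _ _ rfl)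
  exact ⟨f, fun i => by simpa using hf i i.2⟩

theorem Cx.suBlock_eq (c : Cx q θ) (k : Fin 3) (s : Set (Fin 3)) (hs : ∀ l, l ∉ s ↔ l = k) (K : Subgroup (SU 3 F q))
    (hK : ∀ g, g ∈ K ↔ g • ee F k = ee F k) : suBlock 3 F q s = K := by
  have : ∀ g : SU 3 F q, (∀ k : Fin 3, k ∉ s → mt g k k = 1 ∧ ∀ l : Fin 3, l ≠ k → mt g k l = 0 ∧ mt g l k = 0) ↔
      g ∈ K := fun g => by
    rw [hK]
    have e : ∀ i j, (g • ee F j) i = mt g i j := fun i j => by simp [smul_eq]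
    constructor
    · intro h
      obtain ⟨h1, h2⟩ := h k ((hs k).2 rfl)
      ext l
      by_cases hl : l = k
      · rw [e, hl, h1]; simp
      · rw [e, (h2 l hl).2]; simp [hl]
    · intro h l hl
      obtain rfl := (hs l).1 hl
      refine ⟨by rw [← e, h]; simp, fun j hj => ⟨?_, by rw [← e, h]; simp [hj]⟩⟩
      rw [← e, ← hf_ee_right (θ := θ) (g • ee F j) l, ← h, c.map, hf_ee_right]; simp [hj.symm]
  rw [suBlock, show {A : SU 3 F q | _} = (K : Set (SU 3 F q)) from Set.ext this, Subgroup.closure_eq]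

theorem Cx.std_of (c : Cx q θ) {V A B : Subgroup G} (h : IsStandardUnitaryPair V A B F q) :
    ∃ ψ, Std c ψ A B ∧ V = A ⊔ B := by
  have e0 := c.suBlock_eq 2 {0, 1} (by decide) _ fun _ => c.mem_E0
  have e1 := c.suBlock_eq 0 {1, 2} (by decide) _ fun _ => c.mem_E1
  have key : ∀ ψ : SU 3 F q →* V, Function.Surjective ψ → (∀ x, ψ x = 1 → x ∈ Subgroup.center _) →
      (suBlock 3 F q {0, 1}).map (V.subtype.comp ψ) = A → (suBlock 3 F q {1, 2}).map (V.subtype.comp ψ) = B →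
      ∃ ψ, Std c ψ A B ∧ V = A ⊔ B := fun ψ h1 h2 h3 h4 => by
    have h5 : Std c (V.subtype.comp ψ) A B := ⟨fun x hx => h2 x (Subtype.ext hx),
      by rw [MonoidHom.range_comp, ← e0, h3], by rw [MonoidHom.range_comp, ← e1, h4]⟩
    refine ⟨_, h5, ?_⟩
    rw [← h5.range, MonoidHom.range_comp, MonoidHom.range_eq_top.2 h1, ← MonoidHom.range_eq_map,
      Subgroup.range_subtype]
  obtain ⟨ψ, h1, h2⟩ | ⟨ψ, h1, h2⟩ := h
  · exact key _ ψ.surjective (fun x hx => by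
      rw [(map_eq_one_iff ψ ψ.injective).1 hx]; exact one_mem _) h1 h2
  · exact key _ (ψ.surjective.comp (QuotientGroup.mk'_surjective _)) (fun x hx =>
      (QuotientGroup.eq_one_iff x).1 ((map_eq_one_iff ψ ψ.injective).1 hx)) h1 h2

theorem exists_cx (hq : 3 < q) (hF : Fintype.card F = q ^ 2) : ∃ θ : F ≃+* F, Cx q θ :=
  let ⟨θ, h, _⟩ := exists_frob_two hF
  ⟨θ, hF, h, hq⟩

end Cfsg.Agent.H28.Ph
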