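import Cfsg.Agent.H28.Phan7

/-! Subgroups of `SU₃(q)` isomorphic to `SU₂(q)`; Phan systems. -/

set_option autoImplicit false
set_option linter.unusedSectionVars false

namespace Cfsg.Agent.H28.Ph

open Matrix Finset
open scoped MatrixGroups Classical commutatorElement

variable {F : Type*} [Field F] [Fintype F] {q n m : ℕ} {θ : F ≃+* F} {G : Type*} [Group G]

theorem eq_zero_of_hf {u : Fin n → F} (h : ∀ y, hf θ u y = 0) : u = 0 :=
  funext fun i => (hf_ee_right u i).symm.trans (h _)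

namespace Cx
variable (c : Cx q θ)
include c

theorem iso3 {v w : Fin 3 → F} (hv : v ≠ 0) (h1 : hf θ v v = 0) (h2 : hf θ w w = 0) (h3 : hf θ w v = 0) :
    ∃ a : F, w = a • v := by
  have h4 := c.perp h3
  simp only [hf, Fin.sum_univ_three] at h1 h2 h3 h4
  have c0 : v 1 * w 2 - v 2 * w 1 = 0 := (nm_eq_zero (θ := θ)).1 (by
    simp only [nm, map_sub, map_mul]
    linear_combination (w 1 * θ (w 1) + w 2 * θ (w 2)) * h1 - v 0 * θ (v 0) * h2 -
      (w 1 * θ (v 1) + w 2 * θ (v 2)) * h4 + v 0 * θ (w 0) * h3)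
  have c1 : v 2 * w 0 - v 0 * w 2 = 0 := (nm_eq_zero (θ := θ)).1 (by
    simp only [nm, map_sub, map_mul]
    linear_combination (w 0 * θ (w 0) + w 2 * θ (w 2)) * h1 - v 1 * θ (v 1) * h2 -
      (w 0 * θ (v 0) + w 2 * θ (v 2)) * h4 + v 1 * θ (w 1) * h3)
  have c2 : v 0 * w 1 - v 1 * w 0 = 0 := (nm_eq_zero (θ := θ)).1 (by
    simp only [nm, map_sub, map_mul]
    linear_combination (w 0 * θ (w 0) + w 1 * θ (w 1)) * h1 - v 2 * θ (v 2) * h2 -
      (w 0 * θ (v 0) + w 1 * θ (v 1)) * h4 + v 2 * θ (w 2) * h3)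
  obtain ⟨i, hi⟩ := Function.ne_iff.1 hv
  refine ⟨w i / v i, funext fun j => ?_⟩
  rw [Pi.smul_apply, smul_eq_mul, div_mul_eq_mul_div, eq_div_iff hi]
  fin_cases i <;> fin_cases j <;> simp only [Fin.zero_eta, Fin.mk_one, Fin.reduceFinMk] <;>
    first | linear_combination c0 | linear_combination -c0 | linear_combination c1 | linear_combination -c1 |
      linear_combination c2 | linear_combination -c2

theorem adj2 (h2 : (2 : F) = 0) {z : SU n F q} (hz : z * z = 1) (u w : Fin n → F) :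
    hf θ (z • u - u) w = hf θ u (z • w - w) := by
  rw [hf_sub_left, hf_sub_right, c.map_left, inv_eq_of_mul_eq_one_right hz]

omit c in
theorem fix2 (h2 : (2 : F) = 0) {z : SU n F q} (hz : z * z = 1) (u : Fin n → F) : z • (z • u - u) = z • u - u := by
  rw [smul_sub, ← mul_smul, hz, one_smul]
  ext i
  simp only [Pi.sub_apply]
  linear_combination (u i - (z • u) i) * h2

theorem iso2 (h2 : (2 : F) = 0) {z : SU n F q} (hz : z * z = 1) (u w : Fin n → F) :
    hf θ (z • u - u) (z • w - w) = 0 := by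
  rw [c.adj2 h2 hz, fix2 h2 hz, sub_self, hf_zero_right]

theorem inv2 (h2 : (2 : F) = 0) {z z' : SU 3 F q} (hz : z * z = 1) (hz' : z' * z' = 1) (hc : z * z' = z' * z)
    {u : Fin 3 → F} (hu : z • u - u ≠ 0) :
    (∀ y, ∃ a : F, z' • y - y = a • (z • u - u)) ∧ ∀ x, hf θ x (z • u - u) = 0 → z' • x = x := by
  have e : z' • (z • u - u) = z • (z' • u) - z' • u := by rw [smul_sub, ← mul_smul, ← hc, mul_smul]
  obtain ⟨l, hl⟩ := c.iso3 hu (c.iso2 h2 hz _ _) (c.iso2 h2 hz (z' • u) _) (c.iso2 h2 hz (z' • u) _)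
  rw [← e] at hl
  have h1 : (l * l) • (z • u - u) = (1 : F) • (z • u - u) := by
    rw [mul_smul, ← hl, ← smul_comm, ← hl, ← mul_smul, hz', one_smul, one_smul]
  have h3 : l = 1 := by
    have := smul_left_injective F hu h1
    exact sub_eq_zero.1 (mul_self_eq_zero.1 (by linear_combination this + (1 - l) * h2))
  rw [h3, one_smul] at hl
  have h4 : ∀ y, ∃ a : F, z' • y - y = a • (z • u - u) := fun y =>
    c.iso3 hu (c.iso2 h2 hz _ _) (c.iso2 h2 hz' _ _) (by rw [c.adj2 h2 hz', hl, sub_self, hf_zero_right])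
  refine ⟨h4, fun x hx => sub_eq_zero.1 (eq_zero_of_hf (θ := θ) fun y => ?_)⟩
  obtain ⟨a, ha⟩ := h4 y
  rw [c.adj2 h2 hz', ha, hf_smul_right, hx, mul_zero]

omit c in
theorem exists_move {z : SU n F q} (hz : z ≠ 1) : ∃ u : Fin n → F, z • u - u ≠ 0 := by
  by_contra! h
  exact hz (su_ext fun k => (sub_eq_zero.1 (h _)).trans (one_smul _ _).symm)

theorem fix_even (h2 : (2 : F) = 0) {φ : SL(2, fixF θ) →* SU 3 F q} (hφ : Function.Injective φ) :
    ∃ x : Fin 3 → F, hf θ x x ≠ 0 ∧ ∀ s, φ s • x = x := by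
  have h2' : (2 : fixF θ) = 0 := Subtype.ext h2
  have hc : ∀ {i j : Fin 2} (h : i ≠ j) (a b : fixF θ), φ (SpecialLinearGroup.transvection h a) *
      φ (SpecialLinearGroup.transvection h b) = φ (SpecialLinearGroup.transvection h (a + b)) := fun h a b => by
    rw [← map_mul, SpecialLinearGroup.transvection_add]
  have hz : ∀ {i j : Fin 2} (h : i ≠ j) (a : fixF θ), φ (SpecialLinearGroup.transvection h a) *
      φ (SpecialLinearGroup.transvection h a) = 1 := fun h a => by
    rw [hc, ← two_mul, h2', zero_mul, SpecialLinearGroup.transvection_coeff_zero, map_one]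
  have hne : ∀ {i j : Fin 2} (h : i ≠ j), φ (SpecialLinearGroup.transvection h 1) ≠ 1 := fun {i j} h e => by
    have := congrFun (congrFun (congrArg Subtype.val ((map_eq_one_iff φ hφ).1 e)) i) j
    simp [SpecialLinearGroup.transvection_coe, h] at this
  have h01 : (0 : Fin 2) ≠ 1 := by decide
  obtain ⟨u, hu⟩ := exists_move (hne h01)
  obtain ⟨u', hu'⟩ := exists_move (hne h01.symm)
  have k := fun a => c.inv2 h2 (hz h01 1) (hz h01 a) (by rw [hc, hc, add_comm]) hu
  have k' := fun a => c.inv2 h2 (hz h01.symm 1) (hz h01.symm a) (by rw [hc, hc, add_comm]) hu'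
  have i1 := c.iso2 h2 (hz h01 1) u u
  have i2 := c.iso2 h2 (hz h01.symm 1) u' u'
  generalize φ (SpecialLinearGroup.transvection h01 1) • u - u = v at *
  generalize φ (SpecialLinearGroup.transvection h01.symm 1) • u' - u' = v' at *
  have hvv : hf θ v v' ≠ 0 := fun h => by
    have : φ (SpecialLinearGroup.transvection h01 1) * φ (SpecialLinearGroup.transvection h01.symm 1) =
        φ (SpecialLinearGroup.transvection h01.symm 1) * φ (SpecialLinearGroup.transvection h01 1) :=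
      su_ext fun y => by
        obtain ⟨a, ha⟩ := (k 1).1 (ee F y)
        obtain ⟨a', ha'⟩ := (k' 1).1 (ee F y)
        have e1 := (k 1).2 _ (show hf θ (a' • v') v = 0 by rw [hf_smul_left, c.perp h, mul_zero])
        have e2 := (k' 1).2 _ (show hf θ (a • v) v' = 0 by rw [hf_smul_left, h, mul_zero])
        rw [← ha', smul_sub, sub_eq_iff_eq_add] at e1
        rw [← ha, smul_sub, sub_eq_iff_eq_add] at e2
        rw [mul_smul, mul_smul, e1, e2]; abel
    rw [← map_mul, ← map_mul] at this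
    have := congrFun (congrFun (congrArg Subtype.val (hφ this)) 0) 0
    simp [SpecialLinearGroup.transvection_coe, Matrix.mul_apply, Fin.sum_univ_two] at this
  have hvv' : hf θ v' v ≠ 0 := fun h => hvv (c.perp h)
  refine ⟨![θ (v 1 * v' 2 - v 2 * v' 1), θ (v 2 * v' 0 - v 0 * v' 2), θ (v 0 * v' 1 - v 1 * v' 0)], fun h => ?_,
    SL2.transvection_induction _ (fun i j h a => ?_) fun A B hA hB => by rw [map_mul, mul_smul, hB, hA]⟩
  · refine mul_ne_zero hvv hvv' ?_
    simp only [hf, Fin.sum_univ_three, cons_val_zero, cons_val_one, Matrix.cons_val, c.inv, map_sub, map_mul] at h i1 i2 ⊢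
    linear_combination (v' 0 * θ (v' 0) + v' 1 * θ (v' 1) + v' 2 * θ (v' 2)) * i1 - h
  · obtain ⟨rfl, rfl⟩ | ⟨rfl, rfl⟩ : (i = 0 ∧ j = 1) ∨ (i = 1 ∧ j = 0) := by revert i j; decide
    · refine (k a).2 _ ?_
      simp only [hf, Fin.sum_univ_three, cons_val_zero, cons_val_one, Matrix.cons_val, map_sub, map_mul]; ring
    · refine (k' a).2 _ ?_
      simp only [hf, Fin.sum_univ_three, cons_val_zero, cons_val_one, Matrix.cons_val, map_sub, map_mul]; ring

theorem polar {A : Matrix (Fin n) (Fin n) F} (h : ∀ w, hf θ (A *ᵥ w) w = 0) : A = 0 := by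
  obtain ⟨a, ha⟩ := exists_sub_ne_zero c.ord
  have e : ∀ i j, hf θ (A *ᵥ ee F i) (ee F j) = A j i := fun i j => by rw [hf_ee_right]; simp
  ext i j
  have h1 := h (ee F i + ee F j)
  have h2 := h (ee F i + a • ee F j)
  simp only [mulVec_add, mulVec_smul, hf_add_left, hf_add_right, hf_smul_left, hf_smul_right, h] at h1 h2
  rw [e, e] at h1 h2
  exact (mul_eq_zero.1 (by linear_combination h2 - θ a * h1)).resolve_left ha

theorem unit_of {x : Fin n → F} (h : hf θ x x ≠ 0) : ∃ a : F, hf θ (a • x) (a • x) = 1 := by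
  obtain ⟨a, ha⟩ := c.exists_nm (s := (hf θ x x)⁻¹) (by rw [map_inv₀, c.symm])
  refine ⟨a, ?_⟩
  rw [hf_smul_left, hf_smul_right, ← mul_assoc]
  exact (congrArg (· * _) ha).trans (inv_mul_cancel₀ h)

theorem to_e2 {x : Fin 3 → F} (h : hf θ x x = 1) : ∃ g : SU 3 F q, g • ee F (2 : Fin 3) = x :=
  let ⟨g, _, hg⟩ := c.trans1 (S := univ) (mem_univ 2) (mem_univ 0) (by decide) h fun _ h => absurd (mem_univ _) h
  ⟨g, hg⟩

theorem line_fix {φ : SU 2 F q →* SU n F q} {x : Fin n → F} (hx : x ≠ 0) (h : ∀ s, ∃ a : F, φ s • x = a • x) (s) :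
    φ s • x = x := by
  have : commutator (SU 2 F q) ≤ (MulAction.stabilizer _ x).comap φ := by
    rw [commutator_def, Subgroup.commutator_le]
    intro s _ t _
    obtain ⟨a, ha⟩ := h s
    obtain ⟨b, hb⟩ := h t
    have e : (φ s * φ t) • x = (φ t * φ s) • x := by
      rw [mul_smul, mul_smul, ha, hb, smul_comm, ha, smul_comm (φ t), hb, smul_comm]
    obtain ⟨d, hd⟩ := h (t * s)⁻¹
    change φ ⁅s, t⁆ • x = x
    rw [show ⁅s, t⁆ = s * t * (t * s)⁻¹ by rw [commutatorElement_def]; group, map_mul, mul_smul, hd, smul_comm, map_mul,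
      e, ← smul_comm, ← hd, ← map_mul, ← mul_smul, ← map_mul, mul_inv_cancel, map_one, one_smul]
  exact this (c.perfect ▸ Subgroup.mem_top s)

theorem fix_odd (h2 : (2 : F) ≠ 0) {φ : SU 2 F q →* SU 3 F q} (hφ : Function.Injective φ) :
    ∃ x : Fin 3 → F, hf θ x x ≠ 0 ∧ ∀ s, φ s • x = x := by
  have hn : nm θ (-1) = 1 := by simp [nm]
  have hz : φ (c.dd (-1) hn) * φ (c.dd (-1) hn) = 1 := by
    rw [← map_mul, map_eq_one_iff φ hφ]
    refine su_ext' ?_
    rw [mt_mul, c.mt_dd]; ext i j; fin_cases i <;> fin_cases j <;> simp [mt]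
  have hz1 : φ (c.dd (-1) hn) ≠ 1 := fun e => h2 (by
    have := congrFun (congrFun (congrArg mt ((map_eq_one_iff φ hφ).1 e)) 0) 0
    simp only [c.mt_dd] at this
    simp [mt] at this
    linear_combination -this)
  have hc : ∀ s, φ (c.dd (-1) hn) * φ s = φ s * φ (c.dd (-1) hn) := fun s => by
    rw [← map_mul, ← map_mul]
    refine congrArg φ (su_ext' ?_)
    rw [mt_mul, mt_mul, c.mt_dd]
    ext i j; fin_cases i <;> fin_cases j <;> simp [Matrix.mul_apply, Fin.sum_univ_two]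
  generalize φ (c.dd (-1) hn) = z at *
  obtain ⟨w, hw⟩ : ∃ w, hf θ ((1 + mt z) *ᵥ w) w ≠ 0 := by
    by_contra! h
    have e : mt z = -1 := (neg_eq_of_add_eq_zero_right (c.polar h)).symm
    have d : (mt z).det = 1 := z.1.2
    rw [e, det_neg, det_one, Fintype.card_fin] at d
    exact h2 (by linear_combination -d)
  rw [add_mulVec, one_mulVec, ← smul_eq] at hw
  have e1 : z • (w + z • w) = w + z • w := by rw [smul_add, ← mul_smul, hz, one_smul, add_comm]
  obtain ⟨a, ha⟩ := c.unit_of (x := w + z • w) (by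
    rw [hf_add_right, c.map_right, inv_eq_of_mul_eq_one_right hz, e1, ← two_mul]; exact mul_ne_zero h2 hw)
  obtain ⟨g, hg⟩ := c.to_e2 ha
  obtain ⟨y, hy⟩ := (c.mem_E0 (g := g⁻¹ * z * g)).2 (by 
    rw [mul_smul, mul_smul, hg, smul_comm z, e1, ← hg, inv_smul_smul])
  have y1 : y * y = 1 := c.emb_inj _ (by
    rw [map_mul, map_one]; erw [hy]
    calc _ = g⁻¹ * (z * z) * g := by group
      _ = 1 := by rw [hz]; group)
  have y2 : y ≠ 1 := fun e => hz1 (by
    rw [e, map_one] at hy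
    calc z = g * (g⁻¹ * z * g) * g⁻¹ := by group
      _ = 1 := by rw [← hy]; group)
  have y3 : mt y = -1 := by
    have e := congrArg mt y1
    have d : (mt y).det = 1 := y.1.2
    rw [mt_mul, eta_fin_two (mt y), mul_fin_two] at e
    rw [det_fin_two] at d
    have e0 : _ = (1 : F) := congrFun (congrFun e 0) 0
    have e1 : _ = (0 : F) := congrFun (congrFun e 0) 1
    have e2 : _ = (0 : F) := congrFun (congrFun e 1) 0
    have e3 : _ = (1 : F) := congrFun (congrFun e 1) 1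
    simp only [of_apply, cons_val', cons_val_zero, cons_val_one, cons_val_fin_one] at e0 e1 e2 e3
    have t : mt y 0 0 + mt y 1 1 ≠ 0 := fun t => h2 (by linear_combination mt y 0 0 * t - e0 - d)
    have b : mt y 0 1 = 0 := (mul_eq_zero.1 (by linear_combination e1)).resolve_left t
    have b' : mt y 1 0 = 0 := (mul_eq_zero.1 (by linear_combination e2)).resolve_left t
    rw [b] at e0 d
    rcases mul_self_eq_one_iff.1 (show mt y 0 0 * mt y 0 0 = 1 by linear_combination e0) with a | a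
    · refine absurd (su_ext' ?_) y2
      rw [eta_fin_two (mt y), b, b', a, show mt y 1 1 = 1 by rw [a] at d; linear_combination d]
      exact one_fin_two.symm
    · rw [eta_fin_two (mt y), b, b', a, show mt y 1 1 = -1 by rw [a] at d; linear_combination -d]
      ext i j; fin_cases i <;> fin_cases j <;> simp
  refine ⟨_, ha.trans_ne one_ne_zero, c.line_fix (fun e => by simp [e] at ha) fun s => ?_⟩
  rw [← hg]
  have e2 : c.E0 y • (g⁻¹ • φ s • g • ee F (2 : Fin 3)) = g⁻¹ • φ s • g • ee F (2 : Fin 3) := by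
    rw [hy, mul_smul, mul_smul, smul_inv_smul, ← mul_smul z, hc, mul_smul, hg, smul_comm z, e1]
  refine ⟨(g⁻¹ • φ s • g • ee F (2 : Fin 3)) 2, ?_⟩
  rw [← smul_comm g ((g⁻¹ • φ s • g • ee F (2 : Fin 3)) 2), ← inv_smul_eq_iff]
  generalize g⁻¹ • φ s • g • ee F (2 : Fin 3) = t at e2
  rw [smul_eq, c.E0_eq, y3] at e2
  have f0 := congrFun e2 0
  have f1 := congrFun e2 1
  simp [mulVec, dotProduct, Fin.sum_univ_three] at f0 f1
  ext i
  fin_cases i <;> simp
  · exact (mul_eq_zero.1 (by linear_combination -f0)).resolve_left h2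
  · exact (mul_eq_zero.1 (by linear_combination -f1)).resolve_left h2

theorem exists_stab {A : Subgroup (SU 3 F q)} (e : SU 2 F q ≃* A) :
    ∃ g : SU 3 F q, ∀ t, t ∈ A ↔ t • g • ee F (2 : Fin 3) = g • ee F (2 : Fin 3) := by
  have hφ : Function.Injective (A.subtype.comp e.toMonoidHom) := Subtype.val_injective.comp e.injective
  obtain ⟨x, h1, h2⟩ : ∃ x : Fin 3 → F, hf θ x x ≠ 0 ∧ ∀ s, (A.subtype.comp e.toMonoidHom) s • x = x := by
    by_cases h2 : (2 : F) = 0
    · obtain ⟨-, e', -⟩ := c.exists_conj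
      obtain ⟨x, h1, h2⟩ := c.fix_even h2 (φ := (A.subtype.comp e.toMonoidHom).comp e'.toMonoidHom)
        (hφ.comp e'.injective)
      exact ⟨x, h1, fun s => by simpa using h2 (e'.symm s)⟩
    · exact c.fix_odd h2 hφ
  obtain ⟨a, ha⟩ := c.unit_of h1
  obtain ⟨g, hg⟩ := c.to_e2 ha
  have hm : ∀ t, t ∈ ((MulAut.conj g).toMonoidHom.comp c.E0).range ↔ t • g • ee F (2 : Fin 3) = g • ee F (2 : Fin 3) := fun t => by
    rw [MonoidHom.range_comp, Subgroup.mem_map_equiv, c.mem_E0, MulAut.conj_symm_apply, mul_smul, mul_smul,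
      inv_smul_eq_iff]
  refine ⟨g, fun t => ?_⟩
  rw [← hm, Subgroup.eq_of_le_of_card_ge (H := A) (K := ((MulAut.conj g).toMonoidHom.comp c.E0).range)
    (fun t ht => (hm t).2 (by
      rw [hg, smul_comm]
      exact congrArg _ (by simpa using h2 (e.symm ⟨t, ht⟩))))
    (by rw [← Nat.card_congr e.toEquiv, ← Nat.card_congr (MonoidHom.ofInjective
      (f := (MulAut.conj g).toMonoidHom.comp c.E0) ((MulAut.conj g).injective.comp (c.emb_inj _))).toEquiv])]

theorem fix_line {d g : SU 3 F q} (h1 : d ≠ 1) (h2 : d ^ (q + 1) = 1) (h3 : d • g • ee F (2 : Fin 3) = g • ee F (2 : Fin 3))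
    {w : Fin 3 → F} (hw : d • w = w) : ∃ a : F, w = a • g • ee F (2 : Fin 3) := by
  obtain ⟨s, hs⟩ := (c.mem_E0 (g := g⁻¹ * d * g)).2 (by rw [mul_smul, mul_smul, h3, inv_smul_smul])
  have e2 : c.E0 s • (g⁻¹ • w) = g⁻¹ • w := by rw [hs, mul_smul, mul_smul, smul_inv_smul, hw]
  refine ⟨(g⁻¹ • w) 2, ?_⟩
  rw [← smul_comm, ← inv_smul_eq_iff]
  generalize g⁻¹ • w = t at e2
  rw [smul_eq, c.E0_eq] at e2
  have f0 := congrFun e2 0
  have f1 := congrFun e2 1
  simp [mulVec, dotProduct, Fin.sum_univ_three] at f0 f1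
  have d1 : (mt s).det = 1 := s.1.2
  rw [det_fin_two] at d1
  by_cases ht : mt s 0 0 + mt s 1 1 - 2 = 0
  · have hN : (mt s - 1) * (mt s - 1) = 0 := by
      ext i j; fin_cases i <;> fin_cases j <;> simp [Matrix.mul_apply, Fin.sum_univ_two]
      · linear_combination mt s 0 0 * ht - d1
      · linear_combination mt s 0 1 * ht
      · linear_combination mt s 1 0 * ht
      · linear_combination mt s 1 1 * ht - d1
    have hp : ∀ k : ℕ, mt (s ^ k) = 1 + (k : F) • (mt s - 1) := fun k => by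
      induction k with
      | zero => simp [mt]
      | succ k ih =>
        rw [pow_succ, mt_mul, ih]
        calc _ = 1 + ((k : F) + 1) • (mt s - 1) + (k : F) • ((mt s - 1) * (mt s - 1)) := by
              simp only [add_mul, mul_sub, sub_mul, Matrix.smul_mul, smul_sub, add_smul, one_smul, Matrix.one_mul,
                Matrix.mul_one]
              abel
          _ = _ := by rw [hN, smul_zero, add_zero, Nat.cast_succ]
    have hq : (q : F) = 0 := by
      have := FiniteField.cast_card_eq_zero F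
      rw [c.card, Nat.cast_pow] at this
      exact pow_eq_zero_iff two_ne_zero |>.1 this
    have s1 : s ^ (q + 1) = 1 := c.emb_inj _ (by
      rw [map_pow, map_one]; erw [hs]
      rw [show g⁻¹ * d * g = g⁻¹ * d * g⁻¹⁻¹ by rw [inv_inv], conj_pow, h2]; group)
    have s2 := hp (q + 1)
    rw [s1, Nat.cast_succ, hq, zero_add, one_smul, add_sub_cancel] at s2
    rw [← su_ext' s2, map_one] at hs
    refine absurd ?_ h1
    calc d = g * (g⁻¹ * d * g) * g⁻¹ := by group
      _ = 1 := by rw [← hs]; group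
  · ext i
    fin_cases i <;> simp
    · exact (mul_eq_zero.1 (by linear_combination t 0 * d1 - (mt s 1 1 - 1) * f0 + mt s 0 1 * f1)).resolve_left ht
    · exact (mul_eq_zero.1 (by linear_combination t 1 * d1 - (mt s 0 0 - 1) * f1 + mt s 1 0 * f0)).resolve_left ht

theorem pair_su {A B D D' : Subgroup (SU 3 F q)} (h : A ⊔ B = ⊤) (eA : SU 2 F q ≃* A) (eB : SU 2 F q ≃* B)
    (hD : D ≤ A) (hD' : D' ≤ B) (cD : Nat.card D = q + 1) (cD' : Nat.card D' = q + 1)
    (hc : ∀ x ∈ D, ∀ y ∈ D', x * y = y * x) :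
    ∃ g : SU 3 F q, ((MulAut.conj g).toMonoidHom.comp c.E0).range = A ∧
      ((MulAut.conj g).toMonoidHom.comp c.E1).range = B := by
  have hq := c.four
  have ex : ∀ D : Subgroup (SU 3 F q), Nat.card D = q + 1 → ∃ d ∈ D, d ≠ 1 ∧ d ^ (q + 1) = 1 := fun D hD => by
    obtain ⟨d, hd⟩ := Subgroup.ne_bot_iff_exists_ne_one.1 (D.one_lt_card_iff_ne_bot.1 (by omega))
    exact ⟨d, d.2, fun e => hd (Subtype.ext e), hD ▸ congrArg Subtype.val (pow_card_eq_one' (x := d))⟩
  obtain ⟨g, hg⟩ := c.exists_stab eA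
  obtain ⟨g', hg'⟩ := c.exists_stab eB
  obtain ⟨d, d1, d2, d3⟩ := ex D cD
  obtain ⟨d', d1', d2', d3'⟩ := ex D' cD'
  have h1 : hf θ (g • ee F (2 : Fin 3)) (g' • ee F (2 : Fin 3)) = 0 := by
    by_contra h0
    obtain ⟨a, ha⟩ := c.fix_line d2 d3 ((hg d).1 (hD d1)) (w := d' • g • ee F (2 : Fin 3)) (by
      rw [← mul_smul, hc d d1 d' d1', mul_smul, (hg d).1 (hD d1)])
    have := c.map d' (g • ee F (2 : Fin 3)) (g' • ee F (2 : Fin 3))
    rw [ha, (hg' d').1 (hD' d1'), hf_smul_left, mul_eq_right₀ h0] at this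
    rw [this, one_smul] at ha
    obtain ⟨b, hb⟩ := c.fix_line d2' d3' ((hg' d').1 (hD' d1')) ha
    have hA : A = ⊤ := top_le_iff.1 (h ▸ sup_le le_rfl fun t ht => (hg t).2 (by rw [hb, smul_comm, (hg' t).1 ht]))
    obtain ⟨u, hu⟩ := c.to_e2 (hf_ee (θ := θ) (0 : Fin 3))
    have := (hg (g * u * g⁻¹)).1 (hA ▸ Subgroup.mem_top _)
    rw [mul_smul, mul_smul, inv_smul_smul, hu, smul_left_cancel_iff] at this
    simpa using congrFun this 0
  obtain ⟨u, u1, u2⟩ := c.trans1 (S := {0, 1}) (i := 0) (j := 1) (w := g⁻¹ • g' • ee F (2 : Fin 3)) (by simp) (by simp)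
    (by decide) (by rw [c.map, c.map, hf_ee]) fun k hk => by
      obtain rfl : k = 2 := by revert k; decide
      rw [← hf_ee_right (θ := θ) (g⁻¹ • g' • ee F (2 : Fin 3)) (2 : Fin 3), ← c.map_right]
      exact c.perp h1
  refine ⟨g * u, Subgroup.ext fun t => ?_, Subgroup.ext fun t => ?_⟩
  · rw [MonoidHom.range_comp, Subgroup.mem_map_equiv, c.mem_E0, MulAut.conj_symm_apply, mul_smul, mul_smul,
      inv_smul_eq_iff, mul_smul, u1 2 (by decide), hg]
  · rw [MonoidHom.range_comp, Subgroup.mem_map_equiv, c.mem_E1, MulAut.conj_symm_apply, mul_smul, mul_smul,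
      inv_smul_eq_iff, mul_smul, u2, smul_inv_smul, hg']

theorem std_pair {A B D D' : Subgroup G} (ε : ↥(A ⊔ B) ≃* SU 3 F q) (eA : SU 2 F q ≃* A) (eB : SU 2 F q ≃* B)
    (hD : D ≤ A) (hD' : D' ≤ B) (cD : Nat.card D = q + 1) (cD' : Nat.card D' = q + 1)
    (hc : ∀ x ∈ D, ∀ y ∈ D', x * y = y * x) : ∃ ψ, Std c ψ A B := by
  let ρ : SU 3 F q →* G := (A ⊔ B).subtype.comp ε.symm.toMonoidHom
  have hρ : Function.Injective ρ := Subtype.val_injective.comp ε.symm.injective
  have hr : ρ.range = A ⊔ B := by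
    rw [MonoidHom.range_comp, MonoidHom.range_eq_top.2 ε.symm.surjective, ← MonoidHom.range_eq_map,
      Subgroup.range_subtype]
  have hm : ∀ K ≤ A ⊔ B, (K.comap ρ).map ρ = K := fun K hK => Subgroup.map_comap_eq_self (hr ▸ hK)
  have he : ∀ K ≤ A ⊔ B, Nonempty (K ≃* K.comap ρ) := fun K hK =>
    ⟨((Subgroup.equivMapOfInjective _ ρ hρ).trans (MulEquiv.subgroupCongr (hm K hK))).symm⟩
  obtain ⟨a⟩ := he A le_sup_left
  obtain ⟨b⟩ := he B le_sup_right
  obtain ⟨d⟩ := he D (hD.trans le_sup_left)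
  obtain ⟨d'⟩ := he D' (hD'.trans le_sup_right)
  obtain ⟨g, h1, h2⟩ := c.pair_su (A := A.comap ρ) (B := B.comap ρ) (D := D.comap ρ) (D' := D'.comap ρ)
    (Subgroup.map_injective hρ (by rw [Subgroup.map_sup, hm A le_sup_left, hm B le_sup_right, ← hr,
      MonoidHom.range_eq_map])) (eA.trans a) (eB.trans b) (Subgroup.comap_mono hD) (Subgroup.comap_mono hD')
    (cD ▸ Nat.card_congr d.symm.toEquiv) (cD' ▸ Nat.card_congr d'.symm.toEquiv)
    fun x hx y hy => hρ (by rw [map_mul, map_mul]; exact hc _ hx _ hy)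
  refine ⟨ρ.comp (MulAut.conj g).toMonoidHom, fun x hx => ?_, ?_, ?_⟩
  · rw [(map_eq_one_iff (ρ.comp (MulAut.conj g).toMonoidHom) (hρ.comp (MulAut.conj g).injective)).1 hx]
    exact one_mem _
  · rw [MonoidHom.comp_assoc, MonoidHom.range_comp, h1, hm A le_sup_left]
  · rw [MonoidHom.comp_assoc, MonoidHom.range_comp, h2, hm B le_sup_right]

end Cx

end Cfsg.Agent.H28.Ph
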