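import Cfsg.Agent.H28.Phan8

/-! Unitary geometry over the fields of order four and nine. -/

set_option autoImplicit false
set_option linter.unusedSectionVars false

namespace Cfsg.Agent.H28.Ph

open Matrix Finset
open scoped MatrixGroups Classical

variable {F : Type*} [Field F] [Fintype F] {q n m : ℕ} {θ : F ≃+* F} {G : Type*} [Group G]

/-- standing assumptions -/
structure Cy (q : ℕ) (θ : F ≃+* F) : Prop where
  card : Fintype.card F = q ^ 2
  pow : ∀ a, θ a = a ^ q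
  sm : q = 2 ∨ q = 3

theorem Cy.two (c : Cy q θ) : 2 ≤ q := by have := c.sm; omega

namespace Cy
variable (c : Cy q θ)
include c

theorem ord : orderOf θ = 2 := orderOf_eq_two_of_pow c.card c.pow
theorem inv (a : F) : θ (θ a) = a := apply_apply_of_orderOf_two c.ord a
theorem nm_fix (a : F) : θ (nm θ a) = nm θ a := by simp [nm, c.inv, mul_comm]
theorem nm_conj (a : F) : nm θ (θ a) = nm θ a := by simp [nm, c.inv, mul_comm]
theorem nm_pow (a : F) : nm θ a = a ^ (q + 1) := by rw [nm, c.pow, pow_succ']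
theorem symm (u v : Fin n → F) : θ (hf θ u v) = hf θ v u := by simp [hf, map_sum, c.inv, mul_comm]
theorem nm_symm (u v : Fin n → F) : nm θ (hf θ u v) = nm θ (hf θ v u) := by rw [← c.symm u v, c.nm_conj]
theorem perp {u v : Fin n → F} (h : hf θ u v = 0) : hf θ v u = 0 := by rw [← c.symm, h, map_zero]

theorem exists_nm {s : F} (hs : θ s = s) : ∃ a, nm θ a = s := by
  by_cases h0 : s = 0
  · exact ⟨0, by simp [h0]⟩
  obtain ⟨a, ha⟩ := exists_nrm_units θ (c := Units.mk0 s h0) hs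
  rw [c.ord, nrm_two] at ha
  exact ⟨a, congrArg Units.val ha⟩

theorem exists_tr {s : F} (hs : θ s = s) : ∃ a, a + θ a = s :=
  H13.exists_add_conj_eq (ne_id_of_orderOf_two c.ord) c.inv hs

theorem herm (u v : Fin n → F) : hermForm n F q u v = hf θ u v := by simp [hermForm, hf, c.pow]

theorem map (g : SU n F q) (u v : Fin n → F) : hf θ (g • u) (g • v) = hf θ u v := by
  rw [← c.herm, ← c.herm]; exact g.2 u v

theorem map_left (g : SU n F q) (u v : Fin n → F) : hf θ (g • u) v = hf θ u (g⁻¹ • v) := by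
  rw [← c.map g u, smul_inv_smul]

theorem map_right (g : SU n F q) (u v : Fin n → F) : hf θ u (g • v) = hf θ (g⁻¹ • u) v := by
  rw [← c.map g (g⁻¹ • u), smul_inv_smul]

theorem card_nm_le (s : F) : #{a : F | nm θ a = s} ≤ q + 1 := by
  have := Polynomial.card_nthRoots (q + 1) s
  refine le_trans (card_le_card fun a ha => ?_) ((Multiset.toFinset_card_le _).trans this)
  rw [Multiset.mem_toFinset, Polynomial.mem_nthRoots (by omega), ← c.nm_pow]
  simpa using ha

theorem le_card_nm {s : F} (hs : θ s = s) (h0 : s ≠ 0) : q + 1 ≤ #{a : F | nm θ a = s} := by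
  obtain ⟨a, ha⟩ := c.exists_nm hs
  have ha0 : a ≠ 0 := by rintro rfl; exact h0 (by simpa using ha.symm)
  rw [← card_normOne c.card, ← Nat.card_eq_finsetCard]
  refine Nat.card_le_card_of_injective (fun u => ⟨a * u.1, ?_⟩) fun u v h => ?_
  · have : (u.1 : F) ^ (q + 1) = 1 := by simpa using congrArg Units.val u.2
    simp [nm_mul, ha, c.nm_pow u.1, this]
  · exact Subtype.ext (Units.ext (mul_left_cancel₀ ha0 (congrArg Subtype.val h)))

theorem exists_nm_one : ∃ a : F, nm θ a = 1 ∧ a ≠ 1 ∧ a ≠ -1 := by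
  have h := c.le_card_nm (map_one θ) one_ne_zero
  have h2 : #({1, -1} : Finset F) < #{a : F | nm θ a = 1} :=
    (card_le_two).trans_lt (by have := c.two; omega)
  obtain ⟨a, ha, hb⟩ := exists_mem_notMem_of_card_lt_card h2
  simp only [mem_insert, mem_singleton, not_or] at hb
  exact ⟨a, by simpa using ha, hb⟩

theorem mem_SU {A : SL(n, F)} : A ∈ SU n F q ↔ ∀ u v, hf θ (A.1 *ᵥ u) (A.1 *ᵥ v) = hf θ u v := by
  simp only [← c.herm]; rfl

theorem nm_det {A : Matrix (Fin n) (Fin n) F} (h : ∀ u v, hf θ (A *ᵥ u) (A *ᵥ v) = hf θ u v) :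
    nm θ A.det = 1 := by
  have := (preserves_herm_iff c.pow A).1 (by simpa only [c.herm] using h)
  have := congrArg det this
  rwa [det_mul, det_cT, det_one, mul_comm] at this

end Cy

variable {S T : Finset (Fin n)} {g : SU n F q} {u v w r u₁ u₂ u₃ t : Fin n → F} {i j k z y b d p : Fin n}

theorem Cy.sup (c : Cy q θ) (hg : g ∈ Blk F q S) (h : Sup S v) : Sup S (g • v) := fun k hk => by
  rw [← hf_ee_right (θ := θ) (g • v) k, ← hg k hk, c.map, hf_ee_right, h k hk]

theorem Cy.comm (c : Cy q θ) {g' : SU n F q} (hg : g ∈ Blk F q S) (hg' : g' ∈ Blk F q T) (h : Disjoint S T) :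
    g * g' = g' * g := su_ext fun k => by
  rw [mul_smul, mul_smul]
  by_cases h1 : k ∈ S
  · have h2 : k ∉ T := disjoint_left.1 h h1
    rw [hg' k h2, fix_of_disj hg' fun l hl => c.sup hg (sup_ee h1) l (disjoint_right.1 h hl)]
  · rw [hg k h1]
    by_cases h2 : k ∈ T
    · rw [fix_of_disj hg fun l hl => c.sup hg' (sup_ee h2) l (disjoint_left.1 h hl)]
    · rw [hg' k h2, hg k h1]

namespace Cy
variable (c : Cy q θ)
include c

theorem exists_fix_det {A : Matrix (Fin n) (Fin n) F} (h : ∀ u v, hf θ (A *ᵥ u) (A *ᵥ v) = hf θ u v) (hj : j ∈ S)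
    (hA : ∀ k, k ∉ S → A *ᵥ ee F k = ee F k) :
    ∃ g ∈ Blk F q S, ∀ k, k ≠ j → g • ee F k = A *ᵥ ee F k := by
  have hd := c.nm_det h
  have h1 : ∀ k, k ≠ j → (A * dg j (θ A.det)) *ᵥ ee F k = A *ᵥ ee F k := fun k hk => by
    rw [← mulVec_mulVec, dg_ee hk]
  refine ⟨⟨⟨A * dg j (θ A.det), by rw [det_mul, det_dg]; exact hd⟩, c.mem_SU.2 fun u v => ?_⟩,
    fun k hk => (h1 k (by rintro rfl; exact hk hj)).trans (hA k hk), h1⟩
  rw [← mulVec_mulVec, ← mulVec_mulVec, h, hf_dg (by rw [c.nm_conj, hd])]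

theorem exists_refl (hu : hf θ u u = 1) (hw : hf θ w w = 1) (h : hf θ u w ≠ 1) (su : Sup S u) (sw : Sup S w) :
    ∃ A : Matrix (Fin n) (Fin n) F, (∀ x y, hf θ (A *ᵥ x) (A *ᵥ y) = hf θ x y) ∧ A *ᵥ u = w ∧
      ∀ k, k ∉ S → A *ᵥ ee F k = ee F k := by
  have h0 : 1 - hf θ u w ≠ 0 := sub_ne_zero.2 h.symm
  have h0' : 1 - hf θ w u ≠ 0 := fun e => h0 (by rw [← c.symm w u, ← sub_eq_zero.1 e]; simp)
  have hA : ∀ x, (1 - (1 - hf θ u w)⁻¹ • vecMulVec (u - w) (θ ∘ (u - w))) *ᵥ x =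
      x - ((1 - hf θ u w)⁻¹ * hf θ x (u - w)) • (u - w) := fun x => by
    rw [sub_mulVec, one_mulVec, smul_mulVec, vecMulVec_mulVec, mul_smul, op_smul_eq_smul]
    simp [hf, dotProduct, mul_comm]
  refine ⟨1 - (1 - hf θ u w)⁻¹ • vecMulVec (u - w) (θ ∘ (u - w)), fun x y => ?_, ?_, fun k hk => ?_⟩
  · rw [hA, hA]
    simp only [hf_sub_left, hf_sub_right, hf_smul_left, hf_smul_right, map_mul, map_inv₀, map_sub, map_one, c.symm,
      hu, hw]
    field_simp
    ring
  · rw [hA, hf_sub_right, hu, inv_mul_cancel₀ h0]; simp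
  · rw [hA, hf_ee_left, (su.sub sw) k hk]; simp

theorem trans1 (hi : i ∈ S) (hj : j ∈ S) (hij : i ≠ j) (hw : hf θ w w = 1) (sw : Sup S w) :
    ∃ g ∈ Blk F q S, g • ee F i = w := by
  have key : ∃ A : Matrix (Fin n) (Fin n) F, (∀ x y, hf θ (A *ᵥ x) (A *ᵥ y) = hf θ x y) ∧ A *ᵥ ee F i = w ∧
      ∀ k, k ∉ S → A *ᵥ ee F k = ee F k := by
    by_cases h : hf θ (ee F i) w = 1
    · obtain ⟨a, ha, ha1, -⟩ := c.exists_nm_one
      obtain ⟨A, h1, h2, h3⟩ := c.exists_refl (u := a • ee F i) (w := w)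
        (by rw [hf_smul_left, hf_smul_right, hf_ee, mul_one]; exact ha) hw (by rw [hf_smul_left, h, mul_one]; exact ha1)
        ((sup_ee hi).smul a) sw
      refine ⟨A * dg i a, fun x y => ?_, ?_, fun k hk => ?_⟩
      · rw [← mulVec_mulVec, ← mulVec_mulVec, h1, hf_dg ha]
      · rw [← mulVec_mulVec, dg_ee_self, h2]
      · rw [← mulVec_mulVec, dg_ee (by rintro rfl; exact hk hi), h3 k hk]
    · exact c.exists_refl (hf_ee i) hw h (sup_ee hi) sw
  obtain ⟨A, h1, h2, h3⟩ := key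
  obtain ⟨g, hg, h4⟩ := c.exists_fix_det h1 hj h3
  exact ⟨g, hg, (h4 i hij).trans h2⟩

theorem exists_diag (hij : i ≠ j) {a : F} (ha : nm θ a = 1) : ∃ g ∈ Blk F q {i, j}, g • ee F i = a • ee F i := by
  obtain ⟨g, hg, h⟩ := c.exists_fix_det (S := {i, j}) (j := j) (hf_dg (j := i) ha) (by simp)
    fun k hk => dg_ee (by rintro rfl; simp at hk) a
  exact ⟨g, hg, (h i hij).trans (dg_ee_self a)⟩

theorem ad_symm (h : Ad θ u w) : Ad θ w u := by rwa [Ad, c.nm_symm]

theorem un_smul (hg : g ∈ Blk F q S) (h : Un θ S v) : Un θ S (g • v) := ⟨(c.map g v v).trans h.1, c.sup hg h.2⟩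

theorem ad_smul (g : SU n F q) (h : Ad θ u w) : Ad θ (g • u) (g • w) := by rwa [Ad, c.map]

theorem card_sol {A B C D : F} (h : A ≠ 0 ∨ C ≠ 0) : #{y : F | A * nm θ y + B * θ y + C * y + D = 0} ≤ q + 1 := by
  have h4 := c.two
  set P : Polynomial F := Polynomial.C A * Polynomial.X ^ (q + 1) + Polynomial.C B * Polynomial.X ^ q +
    Polynomial.C C * Polynomial.X + Polynomial.C D with hP
  have h0 : P ≠ 0 := fun e => by
    have e1 := congrArg (Polynomial.coeff · (q + 1)) e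
    have e2 := congrArg (Polynomial.coeff · 1) e
    simp [hP, Polynomial.coeff_X_pow, Polynomial.coeff_X, Polynomial.coeff_C, show q ≠ 0 by omega,
      show 1 ≠ q by omega] at e1 e2
    tauto
  have hd : P.natDegree ≤ q + 1 := by rw [hP]; compute_degree
  refine le_trans (card_le_card fun y hy => ?_) ((Multiset.toFinset_card_le _).trans ((P.card_roots').trans hd))
  rw [Multiset.mem_toFinset, Polynomial.mem_roots h0]
  simpa [hP, c.nm_pow, c.pow] using hy

theorem card_line {a a' m : F} (ha : a ≠ 0) (hm : m ≠ 0) :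
    #{x : F × F | nm θ x.1 + nm θ x.2 = 1 ∧ a * x.1 + a' * x.2 = m} ≤ q + 1 := by
  refine le_trans (card_le_card_of_injOn Prod.snd (fun x hx => ?_) fun x hx y hy h => ?_)
    (c.card_sol (A := nm θ a' + nm θ a) (B := -(m * θ a')) (C := -(a' * θ m)) (D := nm θ m - nm θ a) ?_)
  · simp only [coe_filter, mem_univ, true_and, Set.mem_ofPred_eq] at hx ⊢
    obtain ⟨h1, rfl⟩ := hx
    simp only [nm, map_add, map_mul] at h1 ⊢
    linear_combination a * θ a * h1
  · simp only [coe_filter, mem_univ, true_and, Set.mem_ofPred_eq] at hx hy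
    exact Prod.ext (mul_left_cancel₀ ha (by rw [h] at hx; linear_combination hx.2 - hy.2)) h
  · by_cases h : a' = 0
    · exact Or.inl (by simpa [h, nm_eq_zero] using ha)
    · exact Or.inr (by simp [h, hm])

theorem card_bad (a a' : F) :
    #{x : F × F | nm θ x.1 + nm θ x.2 = 1 ∧ nm θ (a * x.1 + a' * x.2) = 1} ≤ (q + 1) * (q + 1) := by
  refine le_trans (card_le_mul_card_image_of_maps_to (f := fun x : F × F => a * x.1 + a' * x.2)
    (t := {m : F | nm θ m = 1}) (fun x hx => by simpa using (mem_filter.1 hx).2.2) (q + 1) fun m hm => ?_)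
    (Nat.mul_le_mul_left _ (c.card_nm_le 1))
  have hm0 : m ≠ 0 := by rintro rfl; simp at hm
  by_cases ha : a = 0
  · by_cases ha' : a' = 0
    · rw [filter_false_of_mem fun x _ => by simpa [ha, ha'] using hm0.symm]; simp
    · refine le_trans (card_le_card_of_injOn Prod.swap (fun x hx => ?_) Prod.swap_injective.injOn)
        (c.card_line (a' := a) ha' hm0)
      simp only [coe_filter, mem_filter, mem_univ, true_and, Set.mem_ofPred_eq, Prod.fst_swap, Prod.snd_swap] at hx ⊢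
      exact ⟨by rw [add_comm]; exact hx.1.1, by rw [add_comm]; exact hx.2⟩
  · refine le_trans (card_le_card fun x hx => ?_) (c.card_line (a' := a') ha hm0)
    simp only [mem_filter, mem_univ, true_and] at hx ⊢
    exact ⟨hx.1.1, hx.2⟩

theorem dec (hd : d ∈ T) (hb : b ∈ T) (h1 : d ≠ p) (h2 : b ≠ p) (h3 : d ≠ b) (hw : Un θ T w)
    (ha : Ad θ w (ee F p)) : ∃ a ∈ Blk F q (T.erase p), ∃ l ∈ Blk F q {d, p}, Ad θ (l • ee F p) (ee F p) ∧
      a • l • ee F p = w := by
  rw [Ad, hf_ee_right] at ha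
  obtain ⟨η, hη⟩ := c.exists_nm (s := 1 - nm θ (w p)) (by simp [c.nm_fix])
  have h0 : η ≠ 0 := by rintro rfl; exact ha (by rw [nm_zero] at hη; linear_combination hη)
  have hy : Sup (T.erase p) (w - w p • ee F p) := fun k hk => by
    by_cases e : k = p
    · simp [e]
    · simp [e, hw.2 k fun h => hk (mem_erase.2 ⟨e, h⟩)]
  obtain ⟨a, ha1, ha2⟩ := c.trans1 (S := T.erase p) (w := η⁻¹ • (w - w p • ee F p)) (mem_erase.2 ⟨h1, hd⟩)
    (mem_erase.2 ⟨h2, hb⟩) h3 (by
      have : θ η ≠ 0 := by simpa using h0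
      simp only [hf_smul_left, hf_smul_right, hf_sub_left, hf_sub_right, hw.1, hf_ee_right, hf_ee_left, map_inv₀,
        Pi.single_eq_same, Pi.sub_apply, Pi.smul_apply, smul_eq_mul]
      unfold nm at hη
      field_simp
      linear_combination -hη) (hy.smul _)
  obtain ⟨l, hl1, hl2⟩ := c.trans1 (S := {d, p}) (i := p) (j := d) (w := w p • ee F p + η • ee F d) (by simp) (by simp)
    h1.symm (by
      simp only [hf_smul_left, hf_smul_right, hf_add_left, hf_add_right, hf_ee_right, Pi.single_eq_same,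
        Pi.single_eq_of_ne h1, Pi.single_eq_of_ne h1.symm, Pi.add_apply, Pi.smul_apply, smul_eq_mul]
      unfold nm at hη
      linear_combination hη) (((sup_ee (by simp)).smul _).add ((sup_ee (by simp)).smul _))
  refine ⟨a, ha1, l, hl1, ?_, ?_⟩
  · rw [Ad, hl2, hf_ee_right]; simpa [h1.symm] using ha
  · rw [hl2, smul_add, smul_comm a, smul_comm a, ha2, Blk_fix ha1, smul_smul, mul_inv_cancel₀ h0]; simp

theorem step (hp : p ∈ T) (hd : d ∈ T) (hb : b ∈ T) (h1 : d ≠ p) (h2 : b ≠ p) (h3 : d ≠ b) (hg : g ∈ Blk F q T)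
    (ha : Ad θ (g • ee F p) (ee F p)) : ∃ a ∈ Blk F q (T.erase p), ∃ l ∈ Blk F q {d, p}, ∃ a' ∈ Blk F q (T.erase p),
      Ad θ (l • ee F p) (ee F p) ∧ g = a * l * a' := by
  obtain ⟨a, ha1, l, hl, h4, h5⟩ := c.dec hd hb h1 h2 h3 (c.un_smul hg (un_ee hp)) ha
  refine ⟨a, ha1, l, hl, (a * l)⁻¹ * g, mem_Blk_erase (mul_mem (inv_mem (mul_mem (Blk_mono (erase_subset _ _) ha1)
    (Blk_mono (by simp [insert_subset_iff, hp, hd]) hl))) hg) ?_, h4, by group⟩
  rw [mul_smul, inv_smul_eq_iff, mul_smul, h5]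

theorem exists_perp (hi : i ∈ T) (hj : j ∈ T) (hij : i ≠ j) (hr : Sup T r) (h : r = 0 ∨ hf θ r r ≠ 0) :
    ∃ s, Un θ T s ∧ hf θ r s = 0 := by
  rcases h with rfl | h
  · exact ⟨_, un_ee hi, by simp⟩
  obtain ⟨η, hη⟩ := c.exists_nm (c.symm r r)
  have h0 : η ≠ 0 := by rintro rfl; exact h (by simpa using hη.symm)
  obtain ⟨g, hg, h1⟩ := c.trans1 (w := η⁻¹ • r) hi hj hij (by
    have : θ η ≠ 0 := by simpa using h0
    rw [hf_smul_left, hf_smul_right, ← hη, map_inv₀, nm]; field_simp) (hr.smul _)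
  refine ⟨g • ee F j, c.un_smul hg (un_ee hj), ?_⟩
  rw [(inv_smul_eq_iff₀ h0).1 h1.symm, hf_smul_left, c.map, hf_ee_right]
  simp [hij.symm]

theorem exists_sing (hr : Sup T r) (h0 : r ≠ 0) (h : hf θ r r = 0) {τ : F} (h1 : θ τ = τ) (h2 : τ ≠ 0) :
    ∃ t, Un θ T t ∧ nm θ (hf θ r t) = τ := by
  obtain ⟨k, hk⟩ := Function.ne_iff.1 h0
  have hk' : r k ≠ 0 := hk
  have hkT : k ∈ T := by by_contra e; exact hk' (hr k e)
  obtain ⟨η, hη⟩ := c.exists_nm h1
  have h3 : η ≠ 0 := by rintro rfl; exact h2 (by simpa using hη.symm)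
  obtain ⟨ξ, hξ⟩ := c.exists_tr (s := 1 - nm θ (η / r k)) (by simp [c.nm_fix])
  have h4 : θ (r k) ≠ 0 := by simpa using hk'
  have h5 : θ η ≠ 0 := by simpa using h3
  refine ⟨(ξ / η) • r + θ (η / r k) • ee F k, ⟨?_, (hr.smul _).add ((sup_ee hkT).smul _)⟩, ?_⟩
  · simp only [hf_add_left, hf_add_right, hf_smul_left, hf_smul_right, h, hf_ee_right, hf_ee_left, c.inv,
      Pi.single_eq_same, nm, map_div₀, Pi.add_apply, Pi.smul_apply, smul_eq_mul] at hξ ⊢
    field_simp at hξ ⊢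
    linear_combination η * θ η * hξ
  · rw [hf_add_right, hf_smul_right, hf_smul_right, h, hf_ee_right, c.inv, mul_zero, zero_add, div_mul_cancel₀ _ hk', hη]

theorem frame (f : Four S z b d p) (h1 : Un θ S u₁) (h2 : Un θ S u₂) (ha : Ad θ u₁ u₂) :
    ∃ g ∈ Blk F q S, g • ee F p = u₁ ∧ Sup {d, p} (g⁻¹ • u₂) := by
  obtain ⟨g, hg, rfl⟩ := c.trans1 f.hp f.hd f.dp.symm h1.1 h1.2
  obtain ⟨a, ha1, l, hl, -, h5⟩ := c.dec f.hd f.hb f.dp f.bp f.bd.symm (c.un_smul (inv_mem hg) h2)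
    (by rw [Ad, ← c.map_right]; exact c.ad_symm ha)
  refine ⟨g * a, mul_mem hg (Blk_mono (erase_subset _ _) ha1), by rw [mul_smul, Blk_fix ha1], ?_⟩
  rw [_root_.mul_inv_rev, mul_smul, ← h5, inv_smul_smul]
  exact c.sup hl (sup_ee (by simp))

end Cy

section Emb
variable {j : Fin m → Fin n}

/-- block embedding of special unitary groups -/
def Cy.emb (c : Cy q θ) (hj : Function.Injective j) : SU m F q →* SU n F q :=
  MonoidHom.mk' (fun g => ⟨⟨embM j (mt g), by rw [det_embM hj, g.1.2]⟩, (mem_SU_iff c.pow).2 (by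
    rw [cT_embM, ← embM_mul hj, (mem_SU_iff c.pow).1 g.2, embM_one])⟩)
    fun g g' => Subtype.ext (Subtype.ext (embM_mul hj _ _))

variable (c : Cy q θ) (hj : Function.Injective j)

theorem Cy.emb_inj : Function.Injective (c.emb hj) := fun _ _ h =>
  Subtype.ext (Subtype.ext (embM_inj hj (congrArg mt h)))

theorem Cy.emb_Pm (g : SU m F q) (v : Fin m → F) : c.emb hj g • (Pm F j *ᵥ v) = Pm F j *ᵥ (g • v) := embM_Pm hj _ v

theorem Cy.emb_ee (g : SU m F q) (a : Fin m) : c.emb hj g • ee F (j a) = Pm F j *ᵥ (g • ee F a) := by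
  rw [← Pm_ee, c.emb_Pm]

theorem Cy.emb_mem (g : SU m F q) : c.emb hj g ∈ Blk F q (univ.image j) := fun _ hk => embM_ee _ hk

theorem Cy.exists_emb {g : SU n F q} (hg : g ∈ Blk F q (univ.image j)) : ∃ s, c.emb hj s = g := by
  have h : embM j ((Pm F j)ᵀ * mt g * Pm F j) = mt g := by
    ext i k
    have : embM j ((Pm F j)ᵀ * mt g * Pm F j) *ᵥ ee F k = mt g *ᵥ ee F k := by
      by_cases hk : k ∈ univ.image j
      · obtain ⟨a, -, rfl⟩ := mem_image.1 hk
        rw [← Pm_ee, embM_Pm hj, ← mulVec_mulVec, ← mulVec_mulVec, Pm_ee]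
        exact Pm_PmT hj (c.sup hg (sup_ee hk))
      · rw [embM_ee _ hk]; exact (hg k hk).symm
    simpa using congrFun this i
  refine ⟨⟨⟨(Pm F j)ᵀ * mt g * Pm F j, by rw [← det_embM hj, h, g.1.2]⟩, (mem_SU_iff c.pow).2 (embM_inj hj ?_)⟩,
    Subtype.ext (Subtype.ext h)⟩
  rw [embM_mul hj, ← cT_embM, h, embM_one]
  exact (mem_SU_iff c.pow).1 g.2

theorem Cy.emb_emb {l : ℕ} {k : Fin l → Fin m} (hk : Function.Injective k) {j' : Fin l → Fin n}
    (hj' : Function.Injective j') (e : ∀ a, j' a = j (k a)) (g : SU l F q) :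
    c.emb hj (c.emb hk g) = c.emb hj' g := by
  have hP : Pm F j * Pm F k = Pm F j' := by
    ext i a; simp [Pm, Matrix.mul_apply, e]
  refine Subtype.ext (Subtype.ext ?_)
  change embM j (embM k (mt g)) = embM j' (mt g)
  rw [embM, embM, embM, add_sub_cancel_left, ← hP, transpose_mul]
  simp only [Matrix.mul_assoc]

/-- transport of a homomorphism to a block -/
noncomputable def Cy.tr (f : SU m F q →* G) (g : SU n F q) : G := f (Function.invFun (c.emb hj) g)

theorem Cy.tr_emb (f : SU m F q →* G) (s : SU m F q) : c.tr hj f (c.emb hj s) = f s :=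
  congrArg f (Function.leftInverse_invFun (c.emb_inj hj) s)

theorem Cy.tr_hom (f : SU m F q →* G) : Hom (univ.image j) (c.tr hj f) := fun g hg g' hg' => by
  obtain ⟨s, rfl⟩ := c.exists_emb hj hg
  obtain ⟨s', rfl⟩ := c.exists_emb hj hg'
  rw [← map_mul, c.tr_emb, c.tr_emb, c.tr_emb, map_mul]

end Emb

/-- the two standard embeddings -/
abbrev Cy.E0 (c : Cy q θ) : SU 2 F q →* SU 3 F q := c.emb (sh_inj (show 0 + 2 ≤ 3 by omega))
/-- the two standard embeddings -/
abbrev Cy.E1 (c : Cy q θ) : SU 2 F q →* SU 3 F q := c.emb (sh_inj (show 1 + 2 ≤ 3 by omega))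

end Cfsg.Agent.H28.Ph
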