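import Cfsg.Agent.H28.PhanB9

/-! Standard triples inside quotients of `SU₄(3)`, conclusion. -/

set_option autoImplicit false
set_option linter.unusedSectionVars false

namespace Cfsg.Agent.H28.Ph

open Matrix Finset
open scoped MatrixGroups Classical commutatorElement

variable {F : Type*} [Field F] [Fintype F] {q n m : ℕ} {θ : F ≃+* F} {G : Type*} [Group G]

theorem ker_conj {H : Type*} [Group H] {π : H →* G} (hk : ∀ x, π x = 1 → x ∈ Subgroup.center _) (g t : H)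
    (ht : (π.comp (MulAut.conj g).toMonoidHom) t = 1) : t ∈ Subgroup.center _ :=
  Subgroup.mem_center_iff.2 fun s => (MulAut.conj g).injective (by
    rw [map_mul, map_mul]; exact Subgroup.mem_center_iff.1 (hk _ ht) _)

namespace Cy
variable (c : Cy q θ)
include c

theorem span2 {i j : Fin n} (hij : i ≠ j) {x x' : Fin n → F} (h1 : Un θ {i, j} x) (h2 : Un θ {i, j} x')
    (h3 : hf θ x' x = 0) {t : SU n F q} (t1 : t • x = x) (t2 : t • x' = x') {v : Fin n → F} (hv : Sup {i, j} v) :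
    t • v = v := by
  obtain ⟨k, k1, rfl⟩ := c.trans1 (by simp) (by simp) hij h1.1 h1.2
  have e := sup_pair hij (c.sup (inv_mem k1) h2.2)
  rw [c.inv_coord, h3, zero_smul, zero_add] at e
  have b0 : (k⁻¹ • x') j ≠ 0 := fun e' => by
    rw [e', zero_smul, inv_smul_eq_iff, smul_zero] at e
    simpa [e] using h2.1
  have u2 := (conj_fix (g := k) (t := t) (v := k⁻¹ • x')).2 (by rwa [smul_inv_smul])
  rw [e, smul_comm, (smul_right_injective _ b0).eq_iff] at u2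
  have := (conj_fix (g := k) (t := t) (v := k⁻¹ • v)).1 (by
    rw [sup_pair hij (c.sup (inv_mem k1) hv), smul_add, smul_comm, smul_comm (k⁻¹ * t * k), u2, conj_fix.2 t1])
  rwa [smul_inv_smul] at this

theorem ste_range (h : q = 3) {ψ : SU 3 F q →* G} {A B : Subgroup G} (h1 : Ste c ψ A B) : ψ.range = A ⊔ B := by
  rw [← h1.h0, ← h1.h1, MonoidHom.range_comp, MonoidHom.range_comp, ← Subgroup.map_sup, c.sup_E h,
    MonoidHom.range_eq_map]

theorem ww_ne : c.ww ≠ 1 := fun e => by simpa [c.mt_ww, mt] using congrFun (congrFun (congrArg mt e) 0) 0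

theorem three_B (h : q = 3) {π : SU 4 F q →* G} (hk : ∀ x, π x = 1 → x ∈ Subgroup.center _) {ψ ψ' : SU 3 F q →* G}
    {A B C : Subgroup G} (h1 : Ste c ψ A B) (h2 : Ste c ψ' B C) (hr : ψ.range ≤ π.range)
    (hA : (Blk F q {0, 1}).map π = A) (hC : (Blk F q {2, 3}).map π = C) :
    ∃ ρ : SU 4 F q →* G, St4 ρ A B C ψ.range ψ'.range := by
  obtain ⟨w, -, hw⟩ := c.trans1 (S := univ) (mem_univ (2 : Fin 3)) (mem_univ 0) (by decide) (hf_ee 0)
    fun _ h => absurd (mem_univ _) h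
  obtain ⟨v, hv⟩ := hr ⟨w, rfl⟩
  have hk' := ker_conj hk v
  have hB : (Blk F q {0, 1}).map (π.comp (MulAut.conj v).toMonoidHom) = B := h1.h1 ▸ c.map_blk (by decide) _ h1.inj1 (by
    rintro _ ⟨s, rfl⟩
    obtain ⟨s', e⟩ := (c.mem_E0 (g := w⁻¹ * c.E1 s * w)).2 (by rw [conj_fix, hw]; exact c.mem_E1.1 ⟨s, rfl⟩)
    obtain ⟨t, t1, t2⟩ : ψ (c.E0 s') ∈ (Blk F q {0, 1}).map π := hA ▸ h1.h0 ▸ ⟨s', rfl⟩
    exact ⟨t, t1, by simp [t2, e, hv, mul_assoc]⟩)
  have hn : nm θ (-1) = 1 := by simp [nm]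
  have a4 : (-1 : F) ≠ 1 := fun e => c.two_ne h (by linear_combination -e)
  obtain ⟨z, z1, z2⟩ : ψ (c.E0 (c.dd (-1) hn)) ∈ (Blk F q {0, 1}).map π := hA ▸ h1.h0 ▸ ⟨_, rfl⟩
  have z3 : z * z = 1 := c.center_fix (by omega) (hk _ (by
    rw [map_mul, z2, ← map_mul, ← map_mul, show c.dd (-1) hn * c.dd (-1) hn = 1 from su_ext' (by
      rw [mt_mul, c.mt_dd]; ext i j; fin_cases i <;> fin_cases j <;> simp [mt]), map_one, map_one]))
    (mul_mem z1 z1 2 (by decide))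
  have z4 := c.inv_blk (c.two_ne h) (by decide) z1 z3 fun e =>
    c.dd_ne hn a4 ((map_eq_one_iff _ h1.inj0).1 (z2.symm.trans (by rw [e, map_one])))
  have z5 : v⁻¹ * z * v * (v⁻¹ * z * v) = 1 := by
    rw [show v⁻¹ * z * v * (v⁻¹ * z * v) = v⁻¹ * (z * z) * v by group, z3]; group
  have z6 : (π.comp (MulAut.conj v).toMonoidHom) (v⁻¹ * z * v) = ψ (c.E0 (c.dd (-1) hn)) := by
    simpa [mul_assoc] using z2
  have k1 : ∀ x ∈ Blk F q ({0, 1} : Finset (Fin 4)), v⁻¹ * z * v * x * (v⁻¹ * z * v)⁻¹ ∈ Blk F q {0, 1} := by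
    obtain ⟨E, -, e⟩ := c.blk_range (show (0 : Fin 4) ≠ 1 by decide)
    intro x hx
    obtain ⟨s, rfl⟩ := e ▸ hx
    refine c.su2_ind (fun s => v⁻¹ * z * v * E s * (v⁻¹ * z * v)⁻¹ ∈ Blk F q {0, 1}) (fun s hs => ?_)
      (fun s t hs ht => by convert mul_mem hs ht using 1; rw [map_mul]; group) s
    have s3 : (v⁻¹ * z * v * E s * (v⁻¹ * z * v)⁻¹) ^ 3 = 1 := by
      rw [conj_pow, ← map_pow, show s ^ 3 = s ^ q from congrArg (s ^ ·) h.symm, hs, map_one]; group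
    generalize v⁻¹ * z * v = z', π.comp (MulAut.conj v).toMonoidHom = ρ at *
    obtain ⟨r, hr⟩ : ρ (E s) ∈ (ψ.comp c.E1).range := h1.h1 ▸ hB ▸ ⟨E s, e ▸ ⟨s, rfl⟩, rfl⟩
    obtain ⟨x', x1, x2⟩ : ρ (z' * E s * z'⁻¹) ∈ (Blk F q {0, 1}).map ρ := by
      rw [hB, ← h1.h1, map_mul, map_mul, map_inv, z6, ← hr, MonoidHom.comp_apply, ← map_mul, c.dd_E1, map_mul,
        mul_inv_cancel_right]
      exact ⟨_, rfl⟩
    rwa [← c.uniq3 h hk' x2 (c.center_fix (by omega) (hk' _ (by rw [map_pow, x2, ← map_pow, s3, map_one]))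
      (pow_mem x1 3 2 (by decide))) s3]
  have k2 : ∀ k ∉ ({0, 1} : Finset (Fin 4)), Sup {2, 3} ((v⁻¹ * z * v) • ee F k) := fun k hk l hl => by
    have : ∀ g ∈ Blk F q ({0, 1} : Finset (Fin 4)), g • (v⁻¹ * z * v) • ee F k = (v⁻¹ * z * v) • ee F k := fun g hg => by
      rw [← conj_fix, inv_eq_of_mul_eq_one_right z5]
      have := k1 g hg k hk
      rwa [inv_eq_of_mul_eq_one_right z5] at this
    obtain rfl | rfl : l = 0 ∨ l = 1 := by revert l; decide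
    · exact c.fix_Blk (j := 1) (by simp) (by simp) (by decide) this
    · exact c.fix_Blk (j := 0) (by simp) (by simp) (by decide) this
  obtain ⟨u, u1, u2⟩ := c.diagT (Or.inr ⟨h, rfl⟩) {2, 3} (v⁻¹ * z * v) (by rw [pow_two, z5]) fun y hy => by
    rw [sup_pair (by decide) hy, smul_add, smul_comm, smul_comm (v⁻¹ * z * v)]
    exact ((k2 2 (by decide)).smul _).add ((k2 3 (by decide)).smul _)
  have k3 : ∀ k ∈ ({2, 3} : Finset (Fin 4)), Un θ {0, 1} (v • u • ee F k) ∨ Un θ {2, 3} (v • u • ee F k) :=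
    fun k hk => by
      obtain ⟨a, ha⟩ := u2 k hk
      rw [mul_smul, mul_smul, mul_smul, mul_smul, inv_smul_eq_iff, inv_smul_eq_iff, smul_comm u a, smul_comm v a] at ha
      have e := fun l => (diag_apply z4 _ l).symm.trans (congrFun ha l)
      have e0 : hf θ (v • u • ee F k) (v • u • ee F k) = 1 := by rw [c.map, c.map, hf_ee]
      by_cases a1 : a = -1
      · refine Or.inl ⟨e0, fun l hl => ?_⟩
        have := e l
        rw [if_neg (by simpa using hl), a1, Pi.smul_apply, smul_eq_mul] at this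
        exact (mul_eq_zero.1 (by linear_combination this)).resolve_left (c.two_ne h)
      · refine Or.inr ⟨e0, fun l hl => ?_⟩
        have := e l
        rw [if_pos (by clear this; revert l; decide), Pi.smul_apply, smul_eq_mul] at this
        exact (mul_eq_zero.1 (by linear_combination -this)).resolve_left fun e : a + 1 = 0 =>
          a1 (eq_neg_of_add_eq_zero_left e)
  have k4 : ∀ s, ∃ t, π t = ψ (c.E1 s) ∧ t • v • u • ee F (2 : Fin 4) = v • u • ee F 2 ∧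
      t • v • u • ee F (3 : Fin 4) = v • u • ee F 3 := fun s => by
    obtain ⟨t, t1, t2⟩ : ψ (c.E1 s) ∈ (Blk F q {0, 1}).map (π.comp (MulAut.conj v).toMonoidHom) :=
      hB ▸ h1.h1 ▸ ⟨s, rfl⟩
    refine ⟨v * t * v⁻¹, t2, ?_, ?_⟩ <;> rw [mul_smul, mul_smul, inv_smul_smul, ← mul_smul t,
      c.comm t1 u1 (by decide), mul_smul, t1 _ (by decide)]
  have k5 : hf θ (v • u • ee F (3 : Fin 4)) (v • u • ee F 2) = 0 := by rw [c.map, c.map, hf_ee_right]; simp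
  have k6 : ∃ x x' : Fin 4 → F, Un θ {0, 1} x ∧ Un θ {2, 3} x' ∧ ∀ s, ∃ t, π t = ψ (c.E1 s) ∧ t • x = x ∧ t • x' = x' := by
    rcases k3 2 (by simp) with a2 | a2 <;> rcases k3 3 (by simp) with a3 | a3
    · obtain ⟨t, t1, t2, t3⟩ := k4 c.ww
      refine absurd (h1.cent' fun s => ?_) c.ww_ne
      obtain ⟨t', t4, t5⟩ : ψ (c.E0 s) ∈ (Blk F q {0, 1}).map π := hA ▸ h1.h0 ▸ ⟨_, rfl⟩
      rw [← t1, ← t5, ← map_mul, ← map_mul, c.comm t4 (T := {2, 3})
        (fun k hk => c.span2 (by decide) a2 a3 k5 t2 t3 (sup_ee (by revert k; decide))) (by decide)]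
    · exact ⟨_, _, a2, a3, k4⟩
    · exact ⟨_, _, a3, a2, fun s => (k4 s).imp fun t h => ⟨h.1, h.2.2, h.2.1⟩⟩
    · obtain ⟨t, t1, t2, t3⟩ := k4 c.ww
      obtain ⟨y, hy⟩ : ψ (c.E1 c.ww) ∈ (ψ'.comp c.E0).range := h2.h0 ▸ h1.h1 ▸ ⟨_, rfl⟩
      have := h2.cent (y := y) fun s => by
        obtain ⟨t', t4, t5⟩ : ψ' (c.E1 s) ∈ (Blk F q {2, 3}).map π := hC ▸ h2.h1 ▸ ⟨_, rfl⟩
        rw [show ψ' (c.E0 y) = _ from hy, ← t1, ← t5, ← map_mul, ← map_mul, c.comm t4 (T := {0, 1})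
          (fun k hk => c.span2 (by decide) a2 a3 k5 t2 t3 (sup_ee (by revert k; decide))) (by decide)]
      rw [this, map_one] at hy
      exact absurd ((map_eq_one_iff _ h1.inj1).1 hy.symm) c.ww_ne
  obtain ⟨x, x', x1, x2, x3⟩ := k6
  obtain ⟨g, g1, rfl⟩ := c.trans1 (i := 0) (j := 1) (by simp) (by simp) (by decide) x1.1 x1.2
  obtain ⟨g', g2, rfl⟩ := c.trans1 (i := 3) (j := 2) (by simp) (by simp) (by decide) x2.1 x2.2
  have gg := c.comm g1 g2 (by decide)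
  have cj : ∀ t, (π.comp (MulAut.conj (g * g')).toMonoidHom) ((g * g')⁻¹ * t * (g * g')) = π t := fun t => by
    simp [mul_assoc]
  have m0 : (Blk F q {0, 1}).map (π.comp (MulAut.conj (g * g')).toMonoidHom) = A :=
    h1.h0 ▸ c.map_blk (by decide) _ h1.inj0 (by
      rintro _ ⟨s, rfl⟩
      obtain ⟨t, t1, t2⟩ : ψ (c.E0 s) ∈ (Blk F q {0, 1}).map π := hA ▸ h1.h0 ▸ ⟨s, rfl⟩
      have t3 := mul_mem (mul_mem (inv_mem g1) t1) g1
      refine ⟨_, ?_, (cj t).trans t2⟩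
      rwa [show (g * g')⁻¹ * t * (g * g') = g'⁻¹ * (g⁻¹ * t * g * g') by group, c.comm t3 g2 (by decide),
        inv_mul_cancel_left])
  have m2 : (Blk F q {2, 3}).map (π.comp (MulAut.conj (g * g')).toMonoidHom) = C :=
    h2.h1 ▸ c.map_blk (by decide) _ h2.inj1 (by
      rintro _ ⟨s, rfl⟩
      obtain ⟨t, t1, t2⟩ : ψ' (c.E1 s) ∈ (Blk F q {2, 3}).map π := hC ▸ h2.h1 ▸ ⟨s, rfl⟩
      have t3 := mul_mem (mul_mem (inv_mem g2) t1) g2
      refine ⟨_, ?_, (cj t).trans t2⟩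
      rwa [gg, show (g' * g)⁻¹ * t * (g' * g) = g⁻¹ * (g'⁻¹ * t * g' * g) by group, c.comm t3 g1 (by decide),
        inv_mul_cancel_left])
  have m1 : (Blk F q {1, 2}).map (π.comp (MulAut.conj (g * g')).toMonoidHom) = B :=
    h1.h1 ▸ c.map_blk (by decide) _ h1.inj1 (by
      rintro _ ⟨s, rfl⟩
      obtain ⟨t, t1, t2, t3⟩ := x3 s
      refine ⟨_, fun k hk => ?_, (cj t).trans t1⟩
      obtain rfl | rfl : k = 0 ∨ k = 3 := by revert k; decide
      · rwa [conj_fix, mul_smul, g2 0 (by decide)]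
      · rwa [conj_fix, gg, mul_smul, g1 3 (by decide)])
  refine ⟨_, ker_conj hk _, m0, m1, m2, ?_, ?_⟩
  · rw [← c.F0_range, MonoidHom.range_eq_map, ← c.sup_E h, Subgroup.map_sup, ← MonoidHom.range_comp,
      ← MonoidHom.range_comp, c.F0E0, c.F0E1, Subgroup.map_sup, m0, m1, c.ste_range h h1]
  · rw [← c.F1_range, MonoidHom.range_eq_map, ← c.sup_E h, Subgroup.map_sup, ← MonoidHom.range_comp,
      ← MonoidHom.range_comp, c.F1E0, c.F1E1, Subgroup.map_sup, m1, m2, c.ste_range h h2]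

theorem st4_three (h : q = 3) {ψ ψ' : SU 3 F q →* G} {A B C : Subgroup G} (h1 : Ste c ψ A B) (h2 : Ste c ψ' B C)
    (hc : ∀ x ∈ A, ∀ y ∈ C, x * y = y * x) (π : SU 4 F q →* G) (hr : π.range = ψ.range ⊔ ψ'.range) :
    ∃ ρ : SU 4 F q →* G, St4 ρ A B C ψ.range ψ'.range := by
  have r1 : ψ.range ≤ π.range := hr ▸ le_sup_left
  have r2 : ψ'.range ≤ π.range := hr ▸ le_sup_right
  obtain ⟨y, hy⟩ := r1 ⟨c.E0 c.ww, rfl⟩
  have hk := c.ker_le π ⟨y, fun e => c.ww_ne ((map_eq_one_iff _ h1.inj0).1 (hy.symm.trans e))⟩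
  obtain ⟨g, g1, g2⟩ := c.three_A h hk h1.inj0 h2.inj1 (h1.h0 ▸ h1.le.1.trans r1) (h2.h1 ▸ h2.le.2.trans r2)
    (fun s s' => hc _ (h1.h0 ▸ ⟨s, rfl⟩) _ (h2.h1 ▸ ⟨s', rfl⟩)) fun s hs => h1.cent fun s' => by
      obtain ⟨x, hx⟩ := r1 ⟨c.E1 s', rfl⟩
      exact hx ▸ (hs x).symm
  refine c.three_B h (ker_conj hk g) h1 h2 ?_ (g1.trans h1.h0) (g2.trans h2.h1)
  rwa [MonoidHom.range_comp, (MonoidHom.range_eq_top (f := (MulAut.conj g).toMonoidHom)).2 (MulAut.conj g).surjective,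
    ← MonoidHom.range_eq_map]

end Cy

theorem comm_sup {A B : Subgroup G} {x : G} (h1 : ∀ y ∈ A, x * y = y * x) (h2 : ∀ y ∈ B, x * y = y * x) :
    ∀ y ∈ A ⊔ B, x * y = y * x := fun _ hy =>
  (Subgroup.mem_centralizer_singleton_iff.1 (sup_le (c := Subgroup.centralizer {x})
    (fun y hy => Subgroup.mem_centralizer_singleton_iff.2 (h1 y hy).symm)
    (fun y hy => Subgroup.mem_centralizer_singleton_iff.2 (h2 y hy).symm) hy)).symm

end Cfsg.Agent.H28.Ph
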