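import Cfsg.Agent.H28.PhanB1

/-! Common neighbours for small fields. -/

set_option autoImplicit false
set_option linter.unusedSectionVars false

namespace Cfsg.Agent.H28.Ph

open Matrix Finset
open scoped MatrixGroups Classical

variable {F : Type*} [Field F] [Fintype F] {q n : ℕ} {θ : F ≃+* F}
  {S T : Finset (Fin n)} {g : SU n F q} {u v w r s x u₁ u₂ u₃ t : Fin n → F} {i j k z y b d p : Fin n}

/-- restriction to a set of coordinates -/
noncomputable def res (T : Finset (Fin n)) (v : Fin n → F) : Fin n → F := fun k => if k ∈ T then v k else 0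

theorem sup_res : Sup T (res T v) := fun k hk => by simp [res, hk]

theorem hf_res (h : Sup T s) (v : Fin n → F) : hf θ (res T v) s = hf θ v s :=
  sum_congr rfl fun k _ => by by_cases hk : k ∈ T <;> simp [res, hk, h k]

/-- five distinct coordinates -/
structure Five (S : Finset (Fin n)) (z y b d p : Fin n) : Prop extends Four S z b d p where
  hy : y ∈ S
  yz : y ≠ z
  yb : y ≠ b
  yd : y ≠ d
  yp : y ≠ p

namespace Cy
variable (c : Cy q θ)
include c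

theorem cast_q : (q : F) = 0 := by
  have := FiniteField.cast_card_eq_zero F
  rw [c.card, Nat.cast_pow] at this
  exact pow_eq_zero_iff two_ne_zero |>.1 this

theorem nm01 (h : q = 2) (a : F) : a = 0 ∨ nm θ a = 1 := by
  refine or_iff_not_imp_left.2 fun ha => ?_
  have := FiniteField.pow_card_sub_one_eq_one a ha
  rw [c.card, h] at this
  rw [c.nm_pow, h]; exact this

theorem perp_of_ad (h : q = 2) (ha : Ad θ u w) : hf θ u w = 0 := (c.nm01 h _).resolve_right ha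

theorem two_zero (h : q = 2) : (2 : F) = 0 := by have := c.cast_q; rw [h] at this; exact_mod_cast this

theorem three_zero (h : q = 3) : (3 : F) = 0 := by have := c.cast_q; rw [h] at this; exact_mod_cast this

theorem two_ne (h : q = 3) : (2 : F) ≠ 0 := fun e => one_ne_zero (α := F) (by linear_combination c.three_zero h - e)

theorem inv_coord (g : SU n F q) (v : Fin n → F) (k : Fin n) : (g⁻¹ • v) k = hf θ v (g • ee F k) := by
  rw [c.map_right, hf_ee_right]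

theorem coord_fix (h : g • ee F k = ee F k) (v : Fin n → F) : (g • v) k = v k := by
  rw [← hf_ee_right (θ := θ) (g • v) k, ← h, c.map, hf_ee_right]

theorem perp3 (hi : i ∈ T) (hj : j ∈ T) (hk : k ∈ T) (ij : i ≠ j) (ik : i ≠ k) (jk : j ≠ k) (r : Fin n → F) :
    ∃ s, Un θ T s ∧ hf θ r s = 0 := by
  suffices ∃ s, Un θ T s ∧ hf θ (res T r) s = 0 from this.imp fun s h => ⟨h.1, (hf_res h.1.2 r).symm.trans h.2⟩
  have hr : Sup T (res T r) := sup_res
  generalize res T r = r at hr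
  by_cases h : r = 0 ∨ hf θ r r ≠ 0
  · exact c.exists_perp hi hj ij hr h
  rw [not_or, not_not] at h
  obtain ⟨t, t1, t2⟩ := c.exists_sing hr h.1 h.2 (map_one θ) one_ne_zero
  obtain ⟨g, hg, rfl⟩ := c.trans1 hi hj ij t1.1 t1.2
  have e : hf θ (r - hf θ r (g • ee F i) • g • ee F i) (g • ee F i) = 0 := by
    rw [hf_sub_left, hf_smul_left, t1.1, mul_one, sub_self]
  obtain ⟨s, s1, s2⟩ := c.exists_perp (T := T.erase i) (r := g⁻¹ • (r - hf θ r (g • ee F i) • g • ee F i))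
    (mem_erase.2 ⟨ij.symm, hj⟩) (mem_erase.2 ⟨ik.symm, hk⟩) jk
    ((c.sup (inv_mem hg) (hr.sub (t1.2.smul _))).erase (by rw [c.inv_coord, e]))
    (Or.inr (by
      rw [c.map, hf_sub_right, hf_smul_right, e, mul_zero, sub_zero, hf_sub_left, h.2, hf_smul_left, ← c.symm r]
      exact fun e' => one_ne_zero (t2.symm.trans (by rw [nm]; linear_combination -e'))))
  refine ⟨g • s, c.un_smul hg (s1.mono (erase_subset _ _)), ?_⟩
  rw [← c.map_right, hf_sub_left, hf_smul_left, c.map, hf_ee_left, s1.2 i (notMem_erase _ _)] at s2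
  simpa using s2

theorem sing2 (hr : Sup T r) (hs : Sup T s) (h : hf θ r r = 0) (h' : hf θ s r = 0) (hij : r i * s j ≠ r j * s i)
    {τ : F} (h1 : θ τ = τ) (h2 : τ ≠ 0) : ∃ t, Un θ T t ∧ nm θ (hf θ r t) = τ ∧ hf θ s t = 0 := by
  have hi : i ∈ T := by by_contra e; simp [hr i e, hs i e] at hij
  have hj : j ∈ T := by by_contra e; simp [hr j e, hs j e] at hij
  obtain ⟨η, hη⟩ := c.exists_nm h1
  have h3 : η ≠ 0 := by rintro rfl; exact h2 (by simpa using hη.symm)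
  have h4 := sub_ne_zero.2 hij
  obtain ⟨x, x1, x2, x3⟩ : ∃ x, Sup T x ∧ hf θ r x = η ∧ hf θ s x = 0 := by
    refine ⟨θ (η / (r i * s j - r j * s i)) • (θ (s j) • ee F i - θ (s i) • ee F j),
      (((sup_ee hi).smul _).sub ((sup_ee hj).smul _)).smul _, ?_, ?_⟩ <;>
      simp only [hf_smul_right, hf_sub_right, hf_ee_right, c.inv]
    · field_simp
    · ring
  obtain ⟨ξ, hξ⟩ := c.exists_tr (s := 1 - hf θ x x) (by rw [map_sub, map_one, c.symm])
  have h5 : θ η ≠ 0 := by simpa using h3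
  refine ⟨x + (ξ / η) • r, ⟨?_, x1.add (hr.smul _)⟩, ?_, ?_⟩
  · simp only [hf_add_left, hf_add_right, hf_smul_left, hf_smul_right, h, x2, ← c.symm r x, map_div₀]
    rw [div_mul_cancel₀ _ h3, mul_zero, add_zero, div_mul_cancel₀ _ h5]
    linear_combination hξ
  · rw [hf_add_right, hf_smul_right, h, x2, mul_zero, add_zero, hη]
  · rw [hf_add_right, hf_smul_right, h', x3, mul_zero, add_zero]

theorem dep3 (hi : i ∈ T) (hj : j ∈ T) (hk : k ∈ T) (ij : i ≠ j) (ik : i ≠ k) (jk : j ≠ k)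
    (h : ∀ i j, r i * s j = r j * s i) : ∃ t, Un θ T t ∧ hf θ r t = 0 ∧ hf θ s t = 0 := by
  by_cases h0 : r = 0
  · obtain ⟨t, t1, t2⟩ := c.perp3 hi hj hk ij ik jk s
    exact ⟨t, t1, by simp [h0], t2⟩
  obtain ⟨l, hl⟩ := Function.ne_iff.1 h0
  have hl' : r l ≠ 0 := hl
  obtain ⟨t, t1, t2⟩ := c.perp3 hi hj hk ij ik jk r
  refine ⟨t, t1, t2, ?_⟩
  rw [show s = (s l / r l) • r from funext fun m => by
    rw [Pi.smul_apply, smul_eq_mul, div_mul_eq_mul_div, eq_div_iff hl']; linear_combination h l m,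
    hf_smul_left, t2, mul_zero]

theorem avoid1 (h3 : q = 3) (a a' : F) : ∃ x y : F, nm θ x + nm θ y = 1 ∧ nm θ (a * x + a' * y) ≠ 1 := by
  have h1 : #{x : F | nm θ x ≠ 1} * (q + 1) ≤ #{x : F × F | nm θ x.1 + nm θ x.2 = 1} := by
    rw [card_filter (fun x : F × F => nm θ x.1 + nm θ x.2 = 1), Fintype.sum_prod_type, ← smul_eq_mul, ← sum_const]
    refine le_trans (sum_le_sum fun x hx => ?_) (sum_le_sum_of_subset (subset_univ _))
    rw [← card_filter]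
    refine (c.le_card_nm (s := 1 - nm θ x) (by simp [c.nm_fix]) (sub_ne_zero.2 (mem_filter.1 hx).2.symm)).trans
      (card_le_card fun y hy => ?_)
    simp only [mem_filter, mem_univ, true_and] at hy ⊢
    rw [hy]; ring
  have h2 := card_filter_add_card_filter_not (s := (univ : Finset F)) (fun x => nm θ x = 1)
  rw [card_univ, c.card] at h2
  have h4 := c.card_nm_le 1
  have h6 := c.card_bad a a'
  subst h3
  have h8 : 5 ≤ #{x : F | nm θ x ≠ 1} := by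
    change _ ≤ #{x : F | ¬ nm θ x = 1}
    omega
  obtain ⟨x, hx, hx'⟩ := exists_mem_notMem_of_card_lt_card (h6.trans_lt (lt_of_lt_of_le (by omega) h1))
  simp only [mem_filter, mem_univ, true_and, not_and] at hx hx'
  exact ⟨x.1, x.2, hx, hx' hx⟩

theorem plane1 (h3 : q = 3) (hij : i ≠ j) (a : Fin n → F) : ∃ t, Un θ {i, j} t ∧ Ad θ a t := by
  obtain ⟨x, y, h1, h2⟩ := c.avoid1 h3 (a i) (a j)
  have e : ∀ a : Fin n → F, hf θ a (θ x • ee F i + θ y • ee F j) = a i * x + a j * y := fun a => by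
    rw [hf_add_right, hf_smul_right, hf_smul_right, hf_ee_right, hf_ee_right, c.inv, c.inv]; ring
  refine ⟨θ x • ee F i + θ y • ee F j, ⟨?_, ((sup_ee (by simp)).smul _).add ((sup_ee (by simp)).smul _)⟩,
    by rwa [Ad, e]⟩
  rw [e, ← h1]
  simp [nm, hij, hij.symm, mul_comm]

theorem unit_of (h : hf θ x x ≠ 0) : ∃ a : F, a ≠ 0 ∧ hf θ (a • x) (a • x) = 1 := by
  obtain ⟨a, ha⟩ := c.exists_nm (s := (hf θ x x)⁻¹) (by rw [map_inv₀, c.symm])
  refine ⟨a, by rintro rfl; exact inv_ne_zero h (by simpa using ha.symm), ?_⟩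
  rw [hf_smul_left, hf_smul_right, ← mul_assoc]
  exact (congrArg (· * _) ha).trans (inv_mul_cancel₀ h)

theorem nb3a (h3 : q = 3) (hi : i ∈ T) (hj : j ∈ T) (hk : k ∈ T) (ij : i ≠ j) (ik : i ≠ k) (jk : j ≠ k) (hr : Sup T r)
    (h : hf θ r r ≠ 0) (a : Fin n → F) : ∃ t, Un θ T t ∧ hf θ r t = 0 ∧ Ad θ a t := by
  obtain ⟨η, h0, hη⟩ := c.unit_of h
  obtain ⟨g, hg, e⟩ := c.trans1 hi hj ij hη (hr.smul _)
  obtain ⟨t, t1, t2⟩ := c.plane1 h3 jk (g⁻¹ • a)
  refine ⟨g • t, c.un_smul hg (t1.mono (by simp [insert_subset_iff, hj, hk])), ?_, by rwa [Ad, c.map_right]⟩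
  have := c.map g (ee F i) t
  rw [e, hf_smul_left, hf_ee_left, t1.2 i (by simp [ij, ik]), map_zero] at this
  exact (mul_eq_zero.1 this).resolve_left h0

theorem nb3 (h3 : q = 3) (hi : i ∈ T) (hj : j ∈ T) (hk : k ∈ T) (ij : i ≠ j) (ik : i ≠ k) (jk : j ≠ k)
    (a a' : Fin n → F) : ∃ t, Un θ T t ∧ Ad θ a t ∧ Ad θ a' t := by
  suffices ∃ t, Un θ T t ∧ Ad θ (res T a) t ∧ Ad θ (res T a') t from
    this.imp fun s h => ⟨h.1, by simpa only [Ad, hf_res h.1.2] using h.2⟩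
  have hr : Sup T (res T a) := sup_res
  have hs : Sup T (res T a') := sup_res
  generalize res T a = r, res T a' = s at hr hs
  by_cases h1 : hf θ r r ≠ 0
  · exact (c.nb3a h3 hi hj hk ij ik jk hr h1 s).imp fun t h => ⟨h.1, ad_of_perp h.2.1, h.2.2⟩
  rw [not_not] at h1
  by_cases h2 : hf θ s r = 0
  · by_cases h4 : ∀ i j, r i * s j = r j * s i
    · exact (c.dep3 hi hj hk ij ik jk h4).imp fun t h => ⟨h.1, ad_of_perp h.2.1, ad_of_perp h.2.2⟩
    push Not at h4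
    obtain ⟨i', j', h4⟩ := h4
    refine (c.sing2 hr hs h1 h2 h4 (τ := -1) (by simp) (by simp)).imp fun t h => ⟨h.1, ?_, ad_of_perp h.2.2⟩
    rw [Ad, h.2.1]
    exact fun e => c.two_ne h3 (by linear_combination -e)
  obtain ⟨t, t1, t2⟩ := c.perp3 hi hj hk ij ik jk r
  refine ⟨t - θ (hf θ s t / hf θ s r) • r, ⟨?_, t1.2.sub (hr.smul _)⟩, ad_of_perp ?_, ad_of_perp ?_⟩
  · simp [hf_sub_left, hf_sub_right, hf_smul_left, hf_smul_right, h1, t2, c.perp t2, t1.1]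
  · simp [hf_sub_right, hf_smul_right, h1, t2]
  · rw [hf_sub_right, hf_smul_right, c.inv, div_mul_cancel₀ _ h2, sub_self]

theorem two_of (hp : p ∈ T) (hd : d ∈ T) (h1 : d ≠ p) (hg : g ∈ Blk F q T) (t1 : Un θ T t) (t2 : hf θ (ee F p) t = 0)
    (t3 : Ad θ (g • ee F p) t) :
    ∃ g₁ ∈ Blk F q T, ∃ g₂ ∈ Blk F q T, Ad θ (g₁ • ee F p) (ee F p) ∧ Ad θ (g₂ • ee F p) (ee F p) ∧ g = g₁ * g₂ := by
  obtain ⟨g₁, hg₁, rfl⟩ := c.trans1 hp hd h1.symm t1.1 t1.2
  refine ⟨g₁, hg₁, g₁⁻¹ * g, mul_mem (inv_mem hg₁) hg, ad_of_perp (c.perp t2), ?_, by group⟩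
  rwa [Ad, mul_smul, ← c.map_right]

theorem two_step (f : Four T z b d p) (hg : g ∈ Blk F q T) :
    ∃ g₁ ∈ Blk F q T, ∃ g₂ ∈ Blk F q T, Ad θ (g₁ • ee F p) (ee F p) ∧ Ad θ (g₂ • ee F p) (ee F p) ∧ g = g₁ * g₂ := by
  obtain ⟨t, t1, t2⟩ := c.perp3 (T := T.erase p) (mem_erase.2 ⟨f.zp, f.hz⟩) (mem_erase.2 ⟨f.bp, f.hb⟩)
    (mem_erase.2 ⟨f.dp, f.hd⟩) f.zb f.zd f.bd (g • ee F p)
  exact c.two_of f.hp f.hd f.dp hg (t1.mono (erase_subset _ _))
    (by rw [hf_ee_left, t1.2 p (notMem_erase _ _), map_zero]) (ad_of_perp t2)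

theorem gen_of (hp : p ∈ T) (hd : d ∈ T) (hb : b ∈ T) (h1 : d ≠ p) (h2 : b ≠ p) (h3 : d ≠ b)
    (h : ∀ g ∈ Blk F q T, ∃ g₁ ∈ Blk F q T, ∃ g₂ ∈ Blk F q T, Ad θ (g₁ • ee F p) (ee F p) ∧
      Ad θ (g₂ • ee F p) (ee F p) ∧ g = g₁ * g₂) : Blk F q T ≤ Blk F q (T.erase p) ⊔ Blk F q {d, p} := fun g hg => by
  have key : ∀ g ∈ Blk F q T, Ad θ (g • ee F p) (ee F p) → g ∈ Blk F q (T.erase p) ⊔ Blk F q {d, p} := fun g hg ha => by
    obtain ⟨a, ha0, l, hl, a', ha', -, rfl⟩ := c.step hp hd hb h1 h2 h3 hg ha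
    exact mul_mem (mul_mem (Subgroup.mem_sup_left ha0) (Subgroup.mem_sup_right hl)) (Subgroup.mem_sup_left ha')
  obtain ⟨g₁, h₁, g₂, h₂, a₁, a₂, rfl⟩ := h g hg
  exact mul_mem (key _ h₁ a₁) (key _ h₂ a₂)

theorem gen4 (f : Four T z b d p) : Blk F q T ≤ Blk F q (T.erase p) ⊔ Blk F q {d, p} :=
  c.gen_of f.hp f.hd f.hb f.dp f.bp f.bd.symm fun _ hg => c.two_step f hg

theorem gen3 (h : q = 3) (hp : p ∈ T) (hd : d ∈ T) (hb : b ∈ T) (h1 : d ≠ p) (h2 : b ≠ p) (h3 : d ≠ b) :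
    Blk F q T ≤ Blk F q (T.erase p) ⊔ Blk F q {d, p} :=
  c.gen_of hp hd hb h1 h2 h3 fun g hg => by
    obtain ⟨t, t1, t2, t3⟩ := c.nb3a h hp hd hb h1.symm h2.symm h3 (sup_ee hp) (by simp [hf_ee]) (g • ee F p)
    exact c.two_of hp hd h1 hg t1 t2 t3

variable (f : Five S z y b d p)
include f

theorem comp5 (h1 : Un θ S u₁) (h2 : Un θ S u₂) (ha : Ad θ u₁ u₂) : ∃ g : SU n F q, ∀ t, Un θ {z, y, b} t →
    Un θ S (g • t) ∧ hf θ u₁ (g • t) = 0 ∧ hf θ u₂ (g • t) = 0 := by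
  obtain ⟨g, hg, rfl, h3⟩ := c.frame f.toFour h1 h2 ha
  have hD : Disjoint ({d, p} : Finset (Fin n)) {z, y, b} := by simp [f.zd, f.zp, f.bd, f.bp, f.yd, f.yp]
  refine ⟨g, fun t t1 => ⟨c.un_smul hg (t1.mono (by simp [insert_subset_iff, f.hz, f.hb, f.hy])), ?_, ?_⟩⟩
  · rw [c.map]; exact hf_disj (sup_ee (by simp)) t1.2 hD
  · rw [c.map_right]; exact hf_disj h3 t1.2 hD

theorem perp5 (h1 : Un θ S u₁) (h2 : Un θ S u₂) (ha : Ad θ u₁ u₂) (a : Fin n → F) : Good θ S u₁ u₂ a := by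
  obtain ⟨g, hg⟩ := c.comp5 f h1 h2 ha
  obtain ⟨t, t1, t2⟩ := c.perp3 (T := {z, y, b}) (i := z) (j := y) (k := b) (by simp) (by simp) (by simp) f.yz.symm
    f.zb f.yb (g⁻¹ • a)
  exact ⟨g • t, (hg t t1).1, (hg t t1).2.1, (hg t t1).2.2, by rwa [c.map_right]⟩

theorem nb5 (h : q = 3) (h1 : Un θ S u₁) (h2 : Un θ S u₂) (ha : Ad θ u₁ u₂) (a a' : Fin n → F) :
    ∃ t, Un θ S t ∧ Ad θ u₁ t ∧ Ad θ u₂ t ∧ Ad θ a t ∧ Ad θ a' t := by
  obtain ⟨g, hg⟩ := c.comp5 f h1 h2 ha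
  obtain ⟨t, t1, t2, t3⟩ := c.nb3 h (T := {z, y, b}) (i := z) (j := y) (k := b) (by simp) (by simp) (by simp)
    f.yz.symm f.zb f.yb (g⁻¹ • a) (g⁻¹ • a')
  exact ⟨g • t, (hg t t1).1, ad_of_perp (hg t t1).2.1, ad_of_perp (hg t t1).2.2, by rwa [Ad, c.map_right],
    by rwa [Ad, c.map_right]⟩

theorem geo2 (h : q = 2) (h1 : Un θ S u) (h2 : Un θ S v) (h3 : Un θ S w) (e1 : u p = 0) (e2 : w p = 0)
    (e3 : hf θ v u = 0) (e4 : hf θ w v = 0) (e5 : nm θ (v p) = 1) (e6 : nm θ (hf θ w u) = 1) :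
    (∃ t, Un θ S t ∧ hf θ (ee F p) t = 0 ∧ hf θ u t = 0 ∧ hf θ v t = 0 ∧ hf θ w t = 0) ∨
      ∃ g ∈ Blk F q (S.erase p), g • ee F z = u ∧ Sup {b, d, p} (g⁻¹ • v) ∧
        Sup (((S.erase p).erase d).erase b) (g⁻¹ • w) := by
  obtain ⟨g, hg, rfl⟩ := c.trans1 (S := S.erase p) (mem_erase.2 ⟨f.zp, f.hz⟩) (mem_erase.2 ⟨f.dp, f.hd⟩) f.zd h1.1
    (h1.2.erase e1)
  obtain ⟨v, rfl⟩ : ∃ v', v = g • v' := ⟨g⁻¹ • v, by simp⟩
  obtain ⟨w, rfl⟩ : ∃ w', w = g • w' := ⟨g⁻¹ • w, by simp⟩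
  have hgS := Blk_mono (erase_subset _ _) hg
  have h2' : Un θ S v := by simpa using c.un_smul (inv_mem hgS) h2
  have h3' : Un θ S w := by simpa using c.un_smul (inv_mem hgS) h3
  rw [c.coord_fix (Blk_fix hg)] at e2 e5
  rw [c.map, hf_ee_right] at e3 e6
  rw [c.map] at e4
  have hr : Sup ((S.erase p).erase z) (v - v p • ee F p) :=
    ((h2'.2.sub ((sup_ee f.hp).smul _)).erase (by simp)).erase (by simp [e3, f.zp])
  have hs : Sup ((S.erase p).erase z) (w - w z • ee F z) :=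
    ((h3'.2.sub ((sup_ee f.hz).smul _)).erase (by simp [e2, f.zp.symm])).erase (by simp)
  have my : y ∈ (S.erase p).erase z := by simp [f.hy, f.yz, f.yp]
  have mb : b ∈ (S.erase p).erase z := by simp [f.hb, f.zb.symm, f.bp]
  have md : d ∈ (S.erase p).erase z := by simp [f.hd, f.zd.symm, f.dp]
  have sub : (S.erase p).erase z ⊆ S := (erase_subset _ _).trans (erase_subset _ _)
  have k1 : ∀ t, Sup ((S.erase p).erase z) t → hf θ (v - v p • ee F p) t = hf θ v t := fun t ht => by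
    rw [hf_sub_left, hf_smul_left, hf_ee_left, ht p (by simp)]; simp
  have k2 : ∀ t, Sup ((S.erase p).erase z) t → hf θ (w - w z • ee F z) t = hf θ w t := fun t ht => by
    rw [hf_sub_left, hf_smul_left, hf_ee_left, ht z (by simp)]; simp
  have r0 : hf θ (v - v p • ee F p) (v - v p • ee F p) = 0 := by
    rw [k1 _ hr, hf_sub_right, hf_smul_right, hf_ee_right, h2'.1, mul_comm, ← e5, nm, sub_self]
  have s0 : hf θ (w - w z • ee F z) (v - v p • ee F p) = 0 := by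
    rw [k2 _ hr, hf_sub_right, hf_smul_right, hf_ee_right, e4, e2, mul_zero, sub_self]
  by_cases h4 : ∀ i j, (v - v p • ee F p) i * (w - w z • ee F z) j = (v - v p • ee F p) j * (w - w z • ee F z) i
  · obtain ⟨t, t1, t2, t3⟩ := c.dep3 my mb md f.yb f.yd f.bd h4
    refine Or.inl ⟨g • t, c.un_smul hgS (t1.mono sub), ?_, ?_, ?_, ?_⟩
    · rw [← Blk_fix hg, c.map, hf_ee_left, t1.2 p (by simp), map_zero]
    · rw [c.map, hf_ee_left, t1.2 z (by simp), map_zero]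
    · rw [c.map, ← k1 t t1.2, t2]
    · rw [c.map, ← k2 t t1.2, t3]
  push Not at h4
  obtain ⟨i, j, h4⟩ := h4
  obtain ⟨t, t1, t2, t3⟩ := c.sing2 hr hs r0 s0 h4 (map_one θ) one_ne_zero
  obtain ⟨g2, hg2, rfl⟩ := c.trans1 md mb f.bd.symm t1.1 t1.2
  have hv : v = v p • ee F p + (v - v p • ee F p) := by simp
  rw [k2 _ t1.2] at t3
  rw [k2 _ hr] at s0
  generalize v - v p • ee F p = r at *
  have e : hf θ (r - hf θ r (g2 • ee F d) • g2 • ee F d) (g2 • ee F d) = 0 := by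
    rw [hf_sub_left, hf_smul_left, t1.1, mul_one, sub_self]
  obtain ⟨g3, hg3, e7⟩ := c.trans1 (S := ((S.erase p).erase z).erase d) (i := b) (j := y)
    (w := g2⁻¹ • (r - hf θ r (g2 • ee F d) • g2 • ee F d)) (mem_erase.2 ⟨f.bd, mb⟩) (mem_erase.2 ⟨f.yd, my⟩) f.yb.symm
    (by
      rw [c.map, hf_sub_right, hf_smul_right, e, mul_zero, sub_zero, hf_sub_left, r0, hf_smul_left, ← c.symm r]
      unfold nm at t2
      linear_combination -t2 - c.two_zero h)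
    ((c.sup (inv_mem hg2) (hr.sub (t1.2.smul _))).erase (by rw [c.inv_coord, e]))
  have hg3' := Blk_mono (erase_subset _ _) hg3
  have hg23 := mul_mem hg2 hg3'
  have ep : (g2 * g3) • ee F p = ee F p := hg23 p (by simp)
  have ed : (g2 * g3) • ee F d = g2 • ee F d := by rw [mul_smul, Blk_fix hg3]
  have eb : (g2 * g3) • ee F b = r - hf θ r (g2 • ee F d) • g2 • ee F d := by rw [mul_smul, e7, smul_inv_smul]
  refine Or.inr ⟨g * (g2 * g3), mul_mem hg (Blk_mono (erase_subset _ _) hg23), by rw [mul_smul, Blk_fix hg23], ?_, ?_⟩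
  · rw [_root_.mul_inv_rev, mul_smul, inv_smul_smul, show (g2 * g3)⁻¹ • v =
      v p • ee F p + (hf θ r (g2 • ee F d) • ee F d + ee F b) by
        rw [inv_smul_eq_iff, smul_add, smul_add, smul_comm, smul_comm (g2 * g3), ep, ed, eb, add_sub_cancel]
        exact hv]
    exact ((sup_ee (by simp)).smul _).add (((sup_ee (by simp)).smul _).add (sup_ee (by simp)))
  · rw [_root_.mul_inv_rev, mul_smul, inv_smul_smul]
    refine (((c.sup (inv_mem (Blk_mono sub hg23)) h3'.2).erase ?_).erase ?_).erase ?_ <;>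
      rw [c.inv_coord]
    · rw [ep, hf_ee_right, e2]
    · rw [ed, t3]
    · rw [eb, hf_sub_right, hf_smul_right, s0, t3, mul_zero, sub_self]

end Cy

end Cfsg.Agent.H28.Ph
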