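import Cfsg.Agent.H28.PhanB2

/-! Extension of compatible homomorphisms on two hyperplane block subgroups, small fields. -/

set_option autoImplicit false
set_option linter.unusedSectionVars false

namespace Cfsg.Agent.H28.Ph

open Matrix Finset
open scoped MatrixGroups Classical

variable {F : Type*} [Field F] [Fintype F] {q n : ℕ} {θ : F ≃+* F} {G : Type*} [Group G]
  {S T : Finset (Fin n)} {g g' l : SU n F q} {u v w : Fin n → F} {z o b d p : Fin n} {α β : SU n F q → G}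
  {x x' y y' a : SU n F q × G}

/-- the data of the extension problem -/
structure Dau (θ : F ≃+* F) (S : Finset (Fin n)) (z o b d p : Fin n) (α β : SU n F q → G) : Prop where
  c : Cy q θ
  f : Five S z o b d p
  ha : Hom (S.erase p) α
  hb : Hom (S.erase z) β
  eq : ∀ g ∈ Blk F q ((S.erase z).erase p), α g = β g
  cm : ∀ g ∈ Blk F q ((S.erase p).erase d), ∀ l ∈ Blk F q {d, p}, α g * β l = β l * α g
  cm3 : ∀ g ∈ Blk F q (((S.erase p).erase d).erase b), ∀ l ∈ Blk F q {b, d, p}, α g * β l = β l * α g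

namespace Dau
variable (D : Dau θ S z o b d p α β)
include D

theorem LB : ({d, p} : Finset (Fin n)) ⊆ S.erase z := by
  simp [insert_subset_iff, D.f.hd, D.f.hp, D.f.zd.symm, D.f.zp.symm]

theorem mA (hg : g ∈ Blk F q ((S.erase z).erase p)) : (g, β g) ∈ D.ha.gr :=
  ⟨Blk_mono (erase_subset_erase _ (erase_subset _ _)) hg, (D.eq g hg).symm⟩

/-- neighbours of the base point -/
def A1 (x : SU n F q × G) : Prop := ∃ a ∈ D.ha.gr, ∃ l ∈ Blk F q {d, p}, ∃ a' ∈ D.ha.gr,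
  Ad θ (l • ee F p) (ee F p) ∧ x = a * (l, β l) * a'

variable {D}

theorem A1.left (h : D.A1 x) (ha : a ∈ D.ha.gr) : D.A1 (a * x) := by
  obtain ⟨a₁, h1, l, hl, a₂, h2, h3, rfl⟩ := h
  exact ⟨a * a₁, mul_mem ha h1, l, hl, a₂, h2, h3, by simp only [mul_assoc]⟩

theorem A1.right (h : D.A1 x) (ha : a ∈ D.ha.gr) : D.A1 (x * a) := by
  obtain ⟨a₁, h1, l, hl, a₂, h2, h3, rfl⟩ := h
  exact ⟨a₁, h1, l, hl, a₂ * a, mul_mem h2 ha, h3, by simp only [mul_assoc]⟩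

theorem A1.inv (h : D.A1 x) : D.A1 x⁻¹ := by
  obtain ⟨a₁, h1, l, hl, a₂, h2, h3, rfl⟩ := h
  refine ⟨a₂⁻¹, inv_mem h2, l⁻¹, inv_mem hl, a₁⁻¹, inv_mem h1, ?_, ?_⟩
  · rw [Ad, ← D.c.map_right]; exact D.c.ad_symm h3
  · rw [D.hb.inv (Blk_mono D.LB hl), _root_.mul_inv_rev, _root_.mul_inv_rev, mul_assoc]; rfl

theorem A1.mem (h : D.A1 x) : x.1 ∈ Blk F q S := by
  obtain ⟨a₁, h1, l, hl, a₂, h2, -, rfl⟩ := h
  exact mul_mem (mul_mem (Blk_mono (erase_subset _ _) h1.1) (Blk_mono (D.LB.trans (erase_subset _ _)) hl))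
    (Blk_mono (erase_subset _ _) h2.1)

theorem A1.ad (h : D.A1 x) : Ad θ (x.1 • ee F p) (ee F p) := by
  obtain ⟨a₁, h1, l, hl, a₂, h2, h3, rfl⟩ := h
  have := D.c.ad_smul a₁.1 h3
  rwa [Blk_fix h1.1, ← Blk_fix h2.1, ← mul_smul, ← mul_smul, Blk_fix h2.1] at this

variable (D)

theorem blift (hg : g ∈ Blk F q (S.erase z)) (h : Ad θ (g • ee F p) (ee F p)) : D.A1 (g, β g) := by
  obtain ⟨a, ha, l, hl, a', ha', h1, rfl⟩ := D.c.step (mem_erase.2 ⟨D.f.zp.symm, D.f.hp⟩)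
    (mem_erase.2 ⟨D.f.zd.symm, D.f.hd⟩) (mem_erase.2 ⟨D.f.zb.symm, D.f.hb⟩) D.f.dp D.f.bp D.f.bd.symm hg h
  have h2 := Blk_mono (erase_subset _ _) ha
  have h3 := Blk_mono D.LB hl
  refine ⟨_, D.mA ha, l, hl, _, D.mA ha', h1, ?_⟩
  rw [D.hb _ (mul_mem h2 h3) _ (Blk_mono (erase_subset _ _) ha'), D.hb _ h2 _ h3]
  rfl

theorem ex1 (hw : Un θ S w) (h : Ad θ w (ee F p)) : ∃ y, D.A1 y ∧ y.1 • ee F p = w := by
  obtain ⟨a, ha, l, hl, h1, h2⟩ := D.c.dec D.f.hd D.f.hb D.f.dp D.f.bp D.f.bd.symm hw h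
  exact ⟨_, ⟨(a, α a), ⟨ha, rfl⟩, l, hl, 1, one_mem _, h1, rfl⟩, by simpa [mul_smul] using h2⟩

theorem key {l₁ l₂ : SU n F q} (hg : g ∈ Blk F q (S.erase p)) (h1 : l₁ ∈ Blk F q {d, p}) (h2 : l₂ ∈ Blk F q {d, p})
    (h3 : Ad θ (l₂ • ee F p) (ee F p)) (h : l₁ • ee F p = g • l₂ • ee F p) :
    (l₁, β l₁)⁻¹ * (g, α g) * (l₂, β l₂) ∈ D.ha.gr := by
  have c := D.c
  have e1 := sup_pair D.f.dp (c.sup h1 (sup_ee (i := p) (by simp)))
  have e2 := sup_pair D.f.dp (c.sup h2 (sup_ee (i := p) (by simp)))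
  have u2 := (c.map l₂ _ _).trans (hf_ee (θ := θ) p)
  rw [Ad, hf_ee_right] at h3
  have e3 : (l₁ • ee F p) p = (l₂ • ee F p) p := by
    rw [← hf_ee_right (θ := θ) (l₁ • ee F p), h, ← Blk_fix hg, c.map, Blk_fix hg, hf_ee_right]
  generalize (l₁ • ee F p) p = ξ₁, (l₂ • ee F p) p = ξ, (l₁ • ee F p) d = η₁, (l₂ • ee F p) d = η₂ at e1 e2 e3 h3
  subst e3
  have h0 : η₂ ≠ 0 := by
    rintro rfl
    rw [e2, zero_smul, zero_add, hf_smul_left, hf_smul_right, hf_ee, mul_one] at u2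
    exact h3 u2
  have e4 : g • ee F d = (η₁ / η₂) • ee F d := by
    rw [e1, e2, smul_add, smul_comm g, smul_comm g, Blk_fix hg, add_left_inj] at h
    rw [div_eq_inv_mul, mul_smul, h, smul_smul, inv_mul_cancel₀ h0, one_smul]
  have e5 : nm θ (η₁ / η₂) = 1 := by
    have := (c.map g _ _).trans (hf_ee (θ := θ) d)
    rwa [e4, hf_smul_left, hf_smul_right, hf_ee, mul_one] at this
  obtain ⟨t, ht, e6⟩ := c.exists_diag D.f.bd.symm e5
  have ht1 : t ∈ Blk F q ((S.erase z).erase p) :=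
    Blk_mono (by simp [insert_subset_iff, D.f.hd, D.f.hb, D.f.dp, D.f.bp, D.f.zd.symm, D.f.zb.symm]) ht
  have ht2 := (D.mA ht1).1
  have ht3 := Blk_mono (erase_subset _ _) ht1
  obtain ⟨a, rfl⟩ : ∃ a, g = a * t := ⟨g * t⁻¹, by simp⟩
  have ha1 : a ∈ Blk F q (S.erase p) := by simpa using mul_mem hg (inv_mem ht2)
  have ha : a ∈ Blk F q ((S.erase p).erase d) := mem_Blk_erase ha1 (by
    rw [mul_smul, e6, smul_comm] at e4
    exact smul_right_injective _ (fun e => by simp [e] at e5) e4)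
  have k1 := Blk_mono D.LB h1
  have k2 := Blk_mono D.LB h2
  have hm : l₁⁻¹ * t * l₂ ∈ Blk F q ((S.erase z).erase p) := mem_Blk_erase (mul_mem (mul_mem (inv_mem k1) ht3) k2) (by
    rw [mul_smul, mul_smul, inv_smul_eq_iff, e1, e2, smul_add, smul_comm t, smul_comm t, e6, Blk_fix ht1, smul_smul,
      mul_div_cancel₀ _ h0])
  convert mul_mem (show (a, α a) ∈ D.ha.gr from ⟨ha1, rfl⟩) (D.mA hm) using 1
  refine Prod.ext ?_ ?_
  · change l₁⁻¹ * (a * t) * l₂ = a * (l₁⁻¹ * t * l₂)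
    rw [← mul_assoc, ← c.comm ha (inv_mem h1) (by simp)]; group
  · change (β l₁)⁻¹ * α (a * t) * β l₂ = α a * β (l₁⁻¹ * t * l₂)
    rw [D.ha _ ha1 _ ht2, D.hb _ (mul_mem (inv_mem k1) ht3) _ k2, D.hb _ (inv_mem k1) _ ht3, D.eq t ht1,
      ← D.hb.inv k1, ← mul_assoc, ← D.cm _ ha _ (inv_mem h1)]
    group

variable {D}

theorem A1.uniq (h : D.A1 y) (h' : D.A1 y') (e : y.1 • ee F p = y'.1 • ee F p) : y⁻¹ * y' ∈ D.ha.gr := by
  obtain ⟨a₁, h1, l₁, hl₁, a₂, h2, -, rfl⟩ := h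
  obtain ⟨a₃, h3, l₂, hl₂, a₄, h4, h5, rfl⟩ := h'
  have h6 := mul_mem (inv_mem h1) h3
  simp only [Prod.fst_mul, mul_smul, Blk_fix h2.1, Blk_fix h4.1] at e
  have := D.key h6.1 hl₁ hl₂ h5 (by rw [Prod.fst_mul, Prod.fst_inv, mul_smul, ← e, inv_smul_smul])
  rw [← h6.2] at this
  convert mul_mem (mul_mem (inv_mem h2) this) h4 using 1
  simp only [Prod.mk.eta]; group

theorem A1.good (h : D.A1 y) (h' : D.A1 y') (h1 : Ad θ (y.1 • ee F p) (y'.1 • ee F p))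
    (h2 : Good θ S (ee F p) (y.1 • ee F p) (y'.1 • ee F p)) : D.A1 (y⁻¹ * y') := by
  have c := D.c
  obtain ⟨s, s1, s2, s3, s4⟩ := h2
  rw [hf_ee_left, map_eq_zero] at s2
  obtain ⟨a, ha, rfl⟩ := c.trans1 (S := S.erase p) (mem_erase.2 ⟨D.f.zp, D.f.hz⟩) (mem_erase.2 ⟨D.f.dp, D.f.hd⟩) D.f.zd
    s1.1 (s1.2.erase s2)
  have hA : (a, α a)⁻¹ ∈ D.ha.gr := inv_mem ⟨ha, rfl⟩
  have aux : ∀ y, D.A1 y → hf θ (y.1 • ee F p) (a • ee F z) = 0 → ∃ g ∈ Blk F q (S.erase z),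
      g • ee F p = a⁻¹ • y.1 • ee F p ∧ (g, β g)⁻¹ * ((a, α a)⁻¹ * y) ∈ D.ha.gr := fun y hy h0 => by
    have k := hy.left hA
    have k1 := c.un_smul k.mem (un_ee D.f.hp)
    have k2 := k.ad
    have e : ((a, α a)⁻¹ * y).1 • ee F p = a⁻¹ • y.1 • ee F p := mul_smul _ _ _
    rw [c.map_right, hf_ee_right, ← e] at h0
    obtain ⟨g, hg, e'⟩ := c.trans1 (S := S.erase z) (mem_erase.2 ⟨D.f.zp.symm, D.f.hp⟩)
      (mem_erase.2 ⟨D.f.zd.symm, D.f.hd⟩) D.f.dp.symm k1.1 (k1.2.erase h0)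
    exact ⟨g, hg, e'.trans e, (D.blift hg (e' ▸ k2)).uniq k e'⟩
  obtain ⟨g, hg, e1, m1⟩ := aux y h s3
  obtain ⟨g', hg', e2, m2⟩ := aux y' h' s4
  have := D.blift (mul_mem (inv_mem hg) hg') (by
    rw [Ad, mul_smul, ← c.map_right, e1, e2, c.map]; exact c.ad_symm h1)
  rw [D.hb _ (inv_mem hg) _ hg', D.hb.inv hg] at this
  convert (this.left (inv_mem m1)).right m2 using 1
  change _ = _ * ((g, β g)⁻¹ * (g', β g')) * _
  group

variable (D) in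
/-- adjacency in the covering -/
def Aj (x y : SU n F q × G) : Prop := x.1 ∈ Blk F q S ∧ D.A1 (x⁻¹ * y)

theorem Aj.mem (h : D.Aj x y) : y.1 ∈ Blk F q S := by simpa using mul_mem h.1 h.2.mem

theorem Aj.symm (h : D.Aj x y) : D.Aj y x := ⟨h.mem, by simpa using h.2.inv⟩

theorem Aj.ad (h : D.Aj x y) : Ad θ (x.1 • ee F p) (y.1 • ee F p) := by
  have := D.c.ad_smul x.1 h.2.ad
  rw [Prod.fst_mul, Prod.fst_inv, mul_smul, smul_inv_smul] at this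
  exact D.c.ad_symm this

theorem Aj.un (h : D.Aj x y) : Un θ S (x.1 • ee F p) := D.c.un_smul h.1 (un_ee D.f.hp)

theorem Aj.mul (h : D.Aj y y') (hx : x.1 ∈ Blk F q S) : D.Aj (x * y) (x * y') :=
  ⟨mul_mem hx h.1, by simpa [mul_assoc] using h.2⟩

theorem Aj.uniq (h : D.Aj x y) (h' : D.Aj x y') (e : y.1 • ee F p = y'.1 • ee F p) : y⁻¹ * y' ∈ D.ha.gr := by
  simpa [mul_assoc] using h.2.uniq h'.2 (by simp [mul_smul, e])

variable (D) in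
theorem ex (hx : x.1 ∈ Blk F q S) (hw : Un θ S w) (h : Ad θ (x.1 • ee F p) w) : ∃ y, D.Aj x y ∧ y.1 • ee F p = w := by
  obtain ⟨y, h1, h2⟩ := D.ex1 (D.c.un_smul (inv_mem hx) hw) (by rw [Ad, ← D.c.map_right]; exact D.c.ad_symm h)
  exact ⟨x * y, ⟨hx, by simpa using h1⟩, by rw [Prod.fst_mul, mul_smul, h2, smul_inv_smul]⟩

theorem Aj.good (h : D.Aj x y) (h' : D.Aj x y') (h1 : Ad θ (y.1 • ee F p) (y'.1 • ee F p))
    (h2 : Good θ S (x.1 • ee F p) (y.1 • ee F p) (y'.1 • ee F p)) : D.Aj y y' := by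
  refine ⟨h.mem, ?_⟩
  have := h.2.good h'.2 (by simpa only [Prod.fst_mul, Prod.fst_inv, mul_smul] using D.c.ad_smul x.1⁻¹ h1) (by
    obtain ⟨s, s1, s2, s3, s4⟩ := h2
    refine ⟨x.1⁻¹ • s, D.c.un_smul (inv_mem h.1) s1, by rw [← D.c.map_left, s2], ?_, ?_⟩ <;>
      simp only [Prod.fst_mul, Prod.fst_inv, mul_smul, D.c.map, s3, s4])
  simpa [mul_assoc] using this

theorem Aj.tri (h : D.Aj x y) (h' : D.Aj x y') (h1 : Ad θ (y.1 • ee F p) (y'.1 • ee F p)) : D.Aj y y' :=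
  h.good h' h1 (D.c.perp5 D.f h.un h.symm.un h.ad _)

theorem Aj.right (h : D.Aj x y) (ha : a ∈ D.ha.gr) : D.Aj x (y * a) :=
  ⟨h.1, by simpa [mul_assoc] using h.2.right ha⟩

theorem Aj.left (h : D.Aj x y) (ha : a ∈ D.ha.gr) : D.Aj (x * a) y := (h.symm.right ha).symm

theorem Aj.base (h : D.Aj 1 y) (ha : a ∈ D.ha.gr) : D.Aj 1 (a * y) := by
  simpa using (h.mul (x := a) (Blk_mono (erase_subset _ _) ha.1)).left (inv_mem ha)

theorem four' : Four (S.erase z) o b d p :=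
  ⟨mem_erase.2 ⟨D.f.yz, D.f.hy⟩, mem_erase.2 ⟨D.f.zb.symm, D.f.hb⟩, mem_erase.2 ⟨D.f.zd.symm, D.f.hd⟩,
    mem_erase.2 ⟨D.f.zp.symm, D.f.hp⟩, D.f.yb, D.f.yd, D.f.yp, D.f.bd, D.f.bp, D.f.dp⟩

theorem Aj.fixz (h : D.Aj 1 y) (e : y.1 • ee F p = ee F z) (hl : l ∈ Blk F q (S.erase z)) : D.Aj y (l, β l) := by
  have k : ∀ l ∈ Blk F q (S.erase z), hf θ (y.1 • ee F p) (l • ee F p) = 0 := fun l hl => by
    rw [e, hf_ee_left, D.c.coord_fix (Blk_fix hl)]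
    simp [D.f.zp]
  obtain ⟨g₁, h1, g₂, h2, a1, a2, rfl⟩ := D.c.two_step D.four' hl
  have k1 : D.Aj 1 (g₁, β g₁) := ⟨one_mem _, by simpa using D.blift h1 a1⟩
  have k2 : D.Aj (g₁, β g₁) (g₁ * g₂, β (g₁ * g₂)) := ⟨Blk_mono (erase_subset _ _) h1, by
    rw [D.hb _ h1 _ h2]
    simpa using D.blift h2 a2⟩
  exact (h.tri k1 (ad_of_perp (k _ h1))).symm.tri k2 (ad_of_perp (k _ hl))

theorem quad_nb {w w' : SU n F q × G} (h1 : D.Aj x y) (h2 : D.Aj y w) (h3 : D.Aj x y') (h4 : D.Aj y' w')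
    (e : w.1 • ee F p = w'.1 • ee F p) {t : Fin n → F} (t1 : Un θ S t) (t2 : Ad θ (x.1 • ee F p) t)
    (t3 : Ad θ (y.1 • ee F p) t) (t4 : Ad θ (w.1 • ee F p) t) (t5 : Ad θ (y'.1 • ee F p) t) : w⁻¹ * w' ∈ D.ha.gr := by
  obtain ⟨s, s1, rfl⟩ := D.ex h1.1 t1 t2
  exact ((h1.tri s1 t3).tri h2 (D.c.ad_symm t4)).uniq ((h3.tri s1 t5).tri h4 (e ▸ D.c.ad_symm t4)) e

theorem quad_std {w w' : SU n F q × G} (h1 : D.Aj 1 y) (h2 : D.Aj y w) (h3 : D.Aj 1 y') (h4 : D.Aj y' w')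
    (e : w.1 • ee F p = w'.1 • ee F p) (e1 : y.1 • ee F p = ee F z) (e2 : Sup {b, d, p} (w.1 • ee F p))
    (e3 : Sup (((S.erase p).erase d).erase b) (y'.1 • ee F p)) : w⁻¹ * w' ∈ D.ha.gr := by
  have f := D.f
  obtain ⟨l, hl, e4⟩ := D.c.trans1 (S := {b, d, p}) (i := p) (j := d) (by simp) (by simp) f.dp.symm h2.symm.un.1 e2
  obtain ⟨g, hg, e5⟩ := D.c.trans1 (i := z) (j := o) (by simp [f.hz, f.zb, f.zd, f.zp])
    (by simp [f.hy, f.yb, f.yd, f.yp]) f.yz.symm h4.un.1 e3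
  have hl' : l ∈ Blk F q (S.erase z) :=
    Blk_mono (by simp [insert_subset_iff, f.hb, f.hd, f.hp, f.zb.symm, f.zd.symm, f.zp.symm]) hl
  have hA : (g, α g) ∈ D.ha.gr := ⟨Blk_mono ((erase_subset _ _).trans (erase_subset _ _)) hg, rfl⟩
  have k1 := h1.fixz e1 hl'
  have k2 := (h1.base hA).uniq h3 (by rw [Prod.fst_mul, mul_smul, e1, e5])
  have k3 := ((k1.mul (x := (g, α g)) (Blk_mono (erase_subset _ _) hA.1)).left k2).right (inv_mem hA)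
  have k4 : (g, α g) * (l, β l) = (l, β l) * (g, α g) :=
    Prod.ext (D.c.comm hg hl (by simp)) (D.cm3 g hg l hl)
  rw [mul_inv_cancel_left, k4, mul_inv_cancel_right] at k3
  simpa [mul_assoc, -Prod.inv_mk] using mul_mem (h2.uniq k1 e4.symm) (k3.uniq h4 (e4.trans e))

theorem quad1 {w w' : SU n F q × G} (h1 : D.Aj 1 y) (h2 : D.Aj y w) (h3 : D.Aj 1 y') (h4 : D.Aj y' w')
    (e : w.1 • ee F p = w'.1 • ee F p) : w⁻¹ * w' ∈ D.ha.gr := by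
  have c := D.c
  rcases c.sm with hq | hq
  swap
  · obtain ⟨t, t1, t2, t3, t4, t5⟩ := c.nb5 D.f hq h1.un h2.un h1.ad (w.1 • ee F p) (y'.1 • ee F p)
    exact quad_nb h1 h2 h3 h4 e t1 t2 t3 t4 t5
  by_cases a1 : Ad θ ((1 : SU n F q × G).1 • ee F p) (w.1 • ee F p)
  · exact (h1.symm.tri h2 a1).uniq (h3.symm.tri h4 (e ▸ a1)) e
  by_cases a2 : Ad θ (y.1 • ee F p) (y'.1 • ee F p)
  · exact ((h1.tri h3 a2).tri h2 (e ▸ h4.ad)).uniq h4 e
  have b1 := c.perp (c.perp_of_ad hq h1.ad)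
  have b2 := c.perp (c.perp_of_ad hq h3.ad)
  rw [Ad, not_not, c.nm_symm] at a1 a2
  rw [Prod.fst_one, one_smul, hf_ee_right] at a1 b1 b2
  rcases c.geo2 D.f hq h2.un h2.symm.un h4.un b1 b2 (c.perp (c.perp_of_ad hq h2.ad)) (e ▸ c.perp_of_ad hq h4.ad) a1 a2
    with ⟨t, t1, t2, t3, t4, t5⟩ | ⟨g, hg, g1, g2, g3⟩
  · exact quad_nb h1 h2 h3 h4 e t1 (ad_of_perp (by simpa using t2)) (ad_of_perp t3) (ad_of_perp t4) (ad_of_perp t5)
  have hA : (g, α g)⁻¹ ∈ D.ha.gr := inv_mem ⟨hg, rfl⟩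
  have hS := Blk_mono (erase_subset _ _) hA.1
  simpa [mul_assoc, -Prod.inv_mk] using quad_std (h1.base hA) (h2.mul hS) (h3.base hA) (h4.mul hS) (by simp [mul_smul, e])
    (by rw [Prod.fst_mul, mul_smul, ← g1]; exact inv_smul_smul _ _) (by rw [Prod.fst_mul, mul_smul]; exact g2)
    (by rw [Prod.fst_mul, mul_smul]; exact g3)

theorem quad {w w' : SU n F q × G} (h1 : D.Aj x y) (h2 : D.Aj y w) (h3 : D.Aj x y') (h4 : D.Aj y' w')
    (e : w.1 • ee F p = w'.1 • ee F p) : w⁻¹ * w' ∈ D.ha.gr := by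
  have hS : x⁻¹.1 ∈ Blk F q S := inv_mem h1.1
  simpa [mul_assoc] using quad1 (by simpa using h1.mul hS) (h2.mul hS) (by simpa using h3.mul hS) (h4.mul hS)
    (by simp [mul_smul, e])

variable (D) in
/-- the component of the base point -/
def R (x : SU n F q × G) : Prop := ∃ y, D.Aj 1 y ∧ D.Aj y x

theorem R.uniq (h : D.R x) (h' : D.R y) (e : x.1 • ee F p = y.1 • ee F p) : x⁻¹ * y ∈ D.ha.gr := by
  obtain ⟨x', h1, h2⟩ := h
  obtain ⟨y', h3, h4⟩ := h'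
  exact quad h1 h2 h3 h4 e

theorem R.step (h : D.R x) (h' : D.Aj x y) : D.R y := by
  obtain ⟨x', h1, h2⟩ := h
  obtain ⟨t, t1, t2, t3, t4⟩ := D.c.perp5 D.f h'.un h'.symm.un h'.ad (ee F p)
  obtain ⟨s, s1, rfl⟩ := D.ex h'.1 t1 (ad_of_perp t2)
  obtain ⟨u, u1, u2⟩ := D.ex s1.mem (un_ee D.f.hp) (ad_of_perp (D.c.perp t4))
  have := quad s1 u1 h2.symm h1.symm (by simpa using u2)
  exact ⟨s, by simpa using (u1.right this).symm, s1.tri h' (ad_of_perp (D.c.perp t3))⟩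

theorem R.mul (h : D.R x) (h' : D.R y) : D.R (x * y) := by
  obtain ⟨y', h3, h4⟩ := h'
  have hx : x.1 ∈ Blk F q S := by obtain ⟨_, -, h2⟩ := h; exact h2.mem
  exact (h.step (by simpa using h3.mul hx)).step (h4.mul hx)

theorem R.right (h : D.R x) (ha : a ∈ D.ha.gr) : D.R (x * a) := by
  obtain ⟨x', h1, h2⟩ := h
  exact ⟨x', h1, h2.1, by simpa [mul_assoc] using h2.2.right ha⟩

variable (D)

theorem R_B (hg : g ∈ Blk F q (S.erase z)) : D.R (g, β g) := by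
  obtain ⟨g₁, h1, g₂, h2, a1, a2, rfl⟩ := D.c.two_step (four' (D := D)) hg
  refine ⟨(g₁, β g₁), ⟨one_mem _, by simpa using D.blift h1 a1⟩, Blk_mono (erase_subset _ _) h1, ?_⟩
  rw [D.hb _ h1 _ h2]
  simpa using D.blift h2 a2

theorem R_A (hg : g ∈ Blk F q (S.erase p)) : D.R (g, α g) := by
  have := (D.R_B (one_mem _)).right (show (g, α g) ∈ D.ha.gr from ⟨hg, rfl⟩)
  simpa [D.hb.one] using this

theorem R_ex (hg : g ∈ Blk F q S) : ∃ y, D.R (g, y) := by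
  have h := D.c.gen4 D.f.toFour hg
  rw [Subgroup.sup_eq_closure] at h
  induction h using Subgroup.closure_induction'' with
  | one => exact ⟨_, D.R_A (one_mem _)⟩
  | mem x hx =>
    rcases hx with h | h
    exacts [⟨_, D.R_A h⟩, ⟨_, D.R_B (Blk_mono D.LB h)⟩]
  | inv_mem x hx =>
    rcases hx with h | h
    exacts [⟨_, D.R_A (inv_mem h)⟩, ⟨_, D.R_B (inv_mem (Blk_mono D.LB h))⟩]
  | mul x y hx hy ihx ihy =>
    have hle : Subgroup.closure ((Blk F q (S.erase p) : Set (SU n F q)) ∪ Blk F q {d, p}) ≤ Blk F q S := by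
      rw [← Subgroup.sup_eq_closure]
      exact sup_le (Blk_mono (erase_subset _ _)) (Blk_mono (D.LB.trans (erase_subset _ _)))
    obtain ⟨a, ha⟩ := ihx (hle hx)
    obtain ⟨a', ha'⟩ := ihy (hle hy)
    exact ⟨_, ha.mul ha'⟩

theorem R_eq {s s' : G} (h : D.R (g, s)) (h' : D.R (g, s')) : s = s' := by
  have := (h.uniq h' rfl).2
  simpa [D.ha.one, inv_mul_eq_one] using this

theorem extend : ∃ f : SU n F q → G, Hom S f ∧ (∀ g ∈ Blk F q (S.erase p), f g = α g) ∧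
    ∀ g ∈ Blk F q (S.erase z), f g = β g := by
  have h : ∀ g : SU n F q, ∃ y, g ∈ Blk F q S → D.R (g, y) := fun g => by
    by_cases hg : g ∈ Blk F q S
    · obtain ⟨y, hy⟩ := D.R_ex hg; exact ⟨y, fun _ => hy⟩
    · exact ⟨1, fun h => absurd h hg⟩
  choose f hf using h
  exact ⟨f, fun g hg g' hg' => D.R_eq (hf _ (mul_mem hg hg')) ((hf g hg).mul (hf g' hg')),
    fun g hg => D.R_eq (hf g (Blk_mono (erase_subset _ _) hg)) (D.R_A hg),
    fun g hg => D.R_eq (hf g (Blk_mono (erase_subset _ _) hg)) (D.R_B hg)⟩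

end Dau

end Cfsg.Agent.H28.Ph
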