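import Cfsg.Agent.H28.PhanB3

/-! `SU_N` is the universal completion of its level three Phan amalgam, small fields. -/

set_option autoImplicit false
set_option linter.unusedSectionVars false

namespace Cfsg.Agent.H28.Ph

open Matrix Finset
open scoped MatrixGroups Classical

variable {F : Type*} [Field F] [Fintype F] {q n m : ℕ} {θ : F ≃+* F} {G : Type*} [Group G]

theorem Cy.genI (c : Cy q θ) (K : Subgroup (SU n F q)) (a k : ℕ) (h : a + (k + 3) ≤ n)
    (hK : ∀ i, a ≤ i → i + 3 ≤ a + (k + 3) → Blk F q (Iv n i 3) ≤ K) : Blk F q (Iv n a (k + 3)) ≤ K := by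
  induction k with
  | zero => exact hK a le_rfl le_rfl
  | succ k ih =>
    refine (c.gen4 (z := ⟨a, by omega⟩) (b := ⟨a + 1, by omega⟩) (d := ⟨a + k + 2, by omega⟩)
      (p := ⟨a + k + 3, by omega⟩) ⟨by simp [mem_Iv], by simp [mem_Iv], by simp [mem_Iv]; omega,
        by simp [mem_Iv]; omega, by simp, by simp; omega, by simp; omega, by simp; omega, by simp; omega,
        by simp⟩).trans (sup_le ((Blk_mono fun i hi => ?_).trans (ih (by omega) fun i h1 h2 => hK i h1 (by omega)))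
      ((Blk_mono fun i hi => ?_).trans (hK (a + k + 1) (by omega) (by omega))))
    · simp only [mem_erase, mem_Iv, ne_eq, Fin.ext_iff] at hi ⊢; omega
    · simp only [mem_insert, mem_singleton, mem_Iv, Fin.ext_iff] at hi ⊢; omega

theorem Cy.indI (c : Cy q θ) {a k : ℕ} (h : a + (k + 3) ≤ n) (P : SU n F q → Prop) (h1 : P 1)
    (hm : ∀ g ∈ Blk F q (Iv n a (k + 3)), ∀ g' ∈ Blk F q (Iv n a (k + 3)), P g → P g' → P (g * g'))
    (hi : ∀ g ∈ Blk F q (Iv n a (k + 3)), P g → P g⁻¹)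
    (hK : ∀ i, a ≤ i → i + 3 ≤ a + (k + 3) → ∀ g ∈ Blk F q (Iv n i 3), P g) :
    ∀ g ∈ Blk F q (Iv n a (k + 3)), P g := fun _ hg =>
  (c.genI
    { carrier := {g | g ∈ Blk F q (Iv n a (k + 3)) ∧ P g}
      mul_mem' := fun ha hb => ⟨mul_mem ha.1 hb.1, hm _ ha.1 _ hb.1 ha.2 hb.2⟩
      one_mem' := ⟨one_mem _, h1⟩
      inv_mem' := fun ha => ⟨inv_mem ha.1, hi _ ha.1 ha.2⟩ } a k h
    (fun i h1 h2 g hg => ⟨Blk_mono (Iv_sub h1 h2) hg, hK i h1 h2 g hg⟩) hg).2

theorem Cy.indC (c : Cy q θ) {a k : ℕ} (h : a + (k + 3) ≤ n) {α : SU n F q → G} (hα : Hom (Iv n a (k + 3)) α) (x : G)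
    (hK : ∀ i, a ≤ i → i + 3 ≤ a + (k + 3) → ∀ g ∈ Blk F q (Iv n i 3), α g * x = x * α g) :
    ∀ g ∈ Blk F q (Iv n a (k + 3)), α g * x = x * α g :=
  c.indI h (fun g => Commute (α g) x) (by rw [hα.one]; exact Commute.one_left _)
    (fun g hg g' hg' p1 p2 => by rw [hα g hg g' hg']; exact p1.mul_left p2)
    (fun g hg p1 => by rw [hα.inv hg]; exact p1.inv_left) hK

theorem Cy.univ_aux (c : Cy q θ) (φ ψ : ℕ → SU n F q → G) (h1 : ∀ i, i + 4 ≤ n → Hom (Iv n i 4) (φ i))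
    (h2 : ∀ i, i + 4 ≤ n → ∀ g ∈ Blk F q (Iv n i 3), φ i g = ψ i g)
    (h3 : ∀ i, i + 4 ≤ n → ∀ g ∈ Blk F q (Iv n (i + 1) 3), φ i g = ψ (i + 1) g)
    (h4 : ∀ i j, i + 2 ≤ j → j + 3 ≤ n → ∀ g ∈ Blk F q (Iv n i 3), ∀ g' ∈ Blk F q (Iv n (j + 1) 2),
      ψ i g * ψ j g' = ψ j g' * ψ i g)
    (h5 : ∀ i j, i + 2 ≤ j → j + 3 ≤ n → ∀ g ∈ Blk F q (Iv n i 2), ∀ g' ∈ Blk F q (Iv n j 3),
      ψ i g * ψ j g' = ψ j g' * ψ i g)
    (h6 : ∀ i j, i + 3 ≤ j → j + 3 ≤ n → ∀ g ∈ Blk F q (Iv n i 3), ∀ g' ∈ Blk F q (Iv n j 3),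
      ψ i g * ψ j g' = ψ j g' * ψ i g) (k : ℕ) : ∀ a, a + (k + 4) ≤ n → ∃ f : SU n F q → G, Hom (Iv n a (k + 4)) f ∧
      ∀ i, a ≤ i → i + 3 ≤ a + (k + 4) → ∀ g ∈ Blk F q (Iv n i 3), f g = ψ i g := by
  induction k with
  | zero =>
    refine fun a ha => ⟨φ a, h1 a ha, fun i i1 i2 g hg => ?_⟩
    obtain rfl | rfl : i = a ∨ i = a + 1 := by omega
    exacts [h2 _ ha g hg, h3 _ ha g hg]
  | succ k ih =>
    intro a ha
    obtain ⟨α, a1, a2⟩ := ih a (by omega)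
    obtain ⟨β, b1, b2⟩ := ih (a + 1) (by omega)
    have e1 : (Iv n a (k + 1 + 4)).erase ⟨a + k + 4, by omega⟩ = Iv n a (k + 4) := by
      ext i; simp only [mem_erase, mem_Iv, ne_eq, Fin.ext_iff]; omega
    have e2 : (Iv n a (k + 1 + 4)).erase ⟨a, by omega⟩ = Iv n (a + 1) (k + 4) := by
      ext i; simp only [mem_erase, mem_Iv, ne_eq, Fin.ext_iff]; omega
    have D : Dau θ (Iv n a (k + 1 + 4)) ⟨a, by omega⟩ ⟨a + 1, by omega⟩ ⟨a + k + 2, by omega⟩ ⟨a + k + 3, by omega⟩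
        ⟨a + k + 4, by omega⟩ α β := by
      refine ⟨c, ⟨⟨by simp [mem_Iv], by simp [mem_Iv]; omega, by simp [mem_Iv]; omega, by simp [mem_Iv]; omega,
        by simp; omega, by simp; omega, by simp; omega, by simp, by simp, by simp⟩, by simp [mem_Iv], by simp,
        by simp; omega, by simp; omega, by simp; omega⟩, e1 ▸ a1, e2 ▸ b1,
        fun g hg => ?_, fun g hg l hl => ?_, fun g hg l hl => ?_⟩
      · have s1 : Iv n (a + 1) (k + 3) ⊆ Iv n a (k + 4) := Iv_sub (by omega) (by omega)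
        have s2 : Iv n (a + 1) (k + 3) ⊆ Iv n (a + 1) (k + 4) := Iv_sub (by omega) (by omega)
        refine c.indI (a := a + 1) (k := k) (by omega) (fun g => α g = β g) (a1.one.trans b1.one.symm)
          (fun g hg g' hg' p1 p2 => ?_) (fun g hg p1 => ?_) (fun i i1 i2 g hg => ?_) g (Blk_mono (fun i hi => ?_) hg)
        · rw [a1.mono s1 g hg g' hg', b1.mono s2 g hg g' hg', p1, p2]
        · rw [(a1.mono s1).inv hg, (b1.mono s2).inv hg, p1]
        · rw [a2 i (by omega) (by omega) g hg, b2 i i1 (by omega) g hg]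
        · simp only [mem_erase, mem_Iv, ne_eq, Fin.ext_iff] at hi ⊢; omega
      · have hl' : l ∈ Blk F q (Iv n (a + k + 2 + 1) 2) := Blk_mono (fun i hi => by
          simp only [mem_insert, mem_singleton, mem_Iv, Fin.ext_iff] at hi ⊢; omega) hl
        refine c.indC (a := a) (k := k) (by omega) (a1.mono (Iv_sub (by omega) (by omega))) _
          (fun i i1 i2 g hg => ?_) g (Blk_mono (fun i hi => ?_) hg)
        · rw [a2 i i1 (by omega) g hg, b2 (a + k + 2) (by omega) (by omega) l (Blk_mono (Iv_sub (by omega) (by omega)) hl')]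
          exact h4 i _ (by omega) (by omega) g hg l hl'
        · simp only [mem_erase, mem_Iv, ne_eq, Fin.ext_iff] at hi ⊢; omega
      · have hl' : l ∈ Blk F q (Iv n (a + k + 2) 3) := Blk_mono (fun i hi => by
          simp only [mem_insert, mem_singleton, mem_Iv, Fin.ext_iff] at hi ⊢; omega) hl
        have hg' : g ∈ Blk F q (Iv n a (k + 2)) := Blk_mono (fun i hi => by
          simp only [mem_erase, mem_Iv, ne_eq, Fin.ext_iff] at hi ⊢; omega) hg
        rw [b2 (a + k + 2) (by omega) (by omega) l hl']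
        cases k with
        | zero =>
          rw [a2 a le_rfl (by omega) g (Blk_mono (Iv_sub le_rfl (by omega)) hg')]
          exact h5 a _ (by omega) (by omega) g hg' l hl'
        | succ k =>
          refine c.indC (a := a) (k := k) (by omega) (a1.mono (Iv_sub (by omega) (by omega))) _
            (fun i i1 i2 g hg => ?_) g hg'
          rw [a2 i i1 (by omega) g hg]
          exact h6 i _ (by omega) (by omega) g hg l hl'
    obtain ⟨f, f1, f2, f3⟩ := D.extend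
    rw [e1] at f2
    rw [e2] at f3
    refine ⟨f, f1, fun i i1 i2 g hg => ?_⟩
    by_cases h : i = a
    · rw [f2 g (Blk_mono (Iv_sub i1 (by omega)) hg), a2 i i1 (by omega) g hg]
    · rw [f3 g (Blk_mono (Iv_sub (by omega) (by omega)) hg), b2 i (by omega) (by omega) g hg]

/-- the two standard embeddings -/
abbrev Cy.F0 (c : Cy q θ) : SU 3 F q →* SU 4 F q := c.emb (sh_inj (show 0 + 3 ≤ 4 by omega))
/-- the two standard embeddings -/
abbrev Cy.F1 (c : Cy q θ) : SU 3 F q →* SU 4 F q := c.emb (sh_inj (show 1 + 3 ≤ 4 by omega))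

theorem Cy.universal (c : Cy q θ) (hn : 4 ≤ n) (R : ℕ → SU 4 F q →* G) (Φ : ℕ → SU 3 F q →* G)
    (h2 : ∀ i, i + 4 ≤ n → ∀ s, R i (c.F0 s) = Φ i s) (h3 : ∀ i, i + 4 ≤ n → ∀ s, R i (c.F1 s) = Φ (i + 1) s)
    (h4 : ∀ i j, i + 2 ≤ j → j + 3 ≤ n → ∀ s s', Φ i s * Φ j (c.E1 s') = Φ j (c.E1 s') * Φ i s)
    (h5 : ∀ i j, i + 2 ≤ j → j + 3 ≤ n → ∀ s s', Φ i (c.E0 s) * Φ j s' = Φ j s' * Φ i (c.E0 s))
    (h6 : ∀ i j, i + 3 ≤ j → j + 3 ≤ n → ∀ s s', Φ i s * Φ j s' = Φ j s' * Φ i s) :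
    ∃ f : SU n F q →* G, ∀ i, i + 3 ≤ n → (Φ i).range ≤ f.range := by
  obtain ⟨k, rfl⟩ := Nat.exists_eq_add_of_le' hn
  obtain ⟨f, f1, f2⟩ := c.univ_aux (n := k + 4)
    (fun i g => if h : i + 4 ≤ k + 4 then c.tr (sh_inj h) (R i) g else 1)
    (fun i g => if h : i + 3 ≤ k + 4 then c.tr (sh_inj h) (Φ i) g else 1)
    (fun i hi => by simp only [hi, dif_pos]; exact image_sh hi ▸ c.tr_hom _ _)
    (fun i hi g hg => by
      have hi' : i + 3 ≤ k + 4 := by omega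
      obtain ⟨s, rfl⟩ := c.exists_emb (sh_inj hi') (by rwa [image_sh])
      rw [dif_pos hi, dif_pos hi', c.tr_emb, ← h2 i hi, ← c.emb_emb (sh_inj hi) (sh_inj (show 0 + 3 ≤ 4 by omega))
        (sh_inj hi') (fun a => by simp [sh]), c.tr_emb])
    (fun i hi g hg => by
      have hi' : i + 1 + 3 ≤ k + 4 := by omega
      obtain ⟨s, rfl⟩ := c.exists_emb (sh_inj hi') (by rwa [image_sh])
      rw [dif_pos hi, dif_pos hi', c.tr_emb, ← h3 i hi, ← c.emb_emb (sh_inj hi) (sh_inj (show 1 + 3 ≤ 4 by omega))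
        (sh_inj hi') (fun a => by simp [sh, add_assoc]), c.tr_emb])
    (fun i j hij hj g hg g' hg' => by
      have hi' : i + 3 ≤ k + 4 := by omega
      have hj' : j + 1 + 2 ≤ k + 4 := by omega
      obtain ⟨s, rfl⟩ := c.exists_emb (sh_inj hj') (by rwa [image_sh])
      rw [dif_pos hi', dif_pos hj, ← c.emb_emb (sh_inj hj) (sh_inj (show 1 + 2 ≤ 3 by omega))
        (sh_inj hj') (fun a => by simp [sh, add_assoc]), c.tr_emb]
      exact h4 i j hij hj _ _)
    (fun i j hij hj g hg g' hg' => by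
      have hi' : i + 3 ≤ k + 4 := by omega
      have hj' : i + 2 ≤ k + 4 := by omega
      obtain ⟨s, rfl⟩ := c.exists_emb (sh_inj hj') (by rwa [image_sh])
      rw [dif_pos hi', dif_pos hj, ← c.emb_emb (sh_inj hi') (sh_inj (show 0 + 2 ≤ 3 by omega))
        (sh_inj hj') (fun a => by simp [sh]), c.tr_emb]
      exact h5 i j hij hj _ _)
    (fun i j hij hj g hg g' hg' => by
      have hi' : i + 3 ≤ k + 4 := by omega
      rw [dif_pos hi', dif_pos hj]
      exact h6 i j hij hj _ _) k 0 (by omega)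
  have hu : ∀ g : SU (k + 4) F q, g ∈ Blk F q (Iv (k + 4) 0 (k + 4)) := fun g i hi => absurd (by simp [mem_Iv]) hi
  refine ⟨MonoidHom.mk' f fun g g' => f1 g (hu g) g' (hu g'), fun i hi => ?_⟩
  rintro _ ⟨s, rfl⟩
  refine ⟨c.emb (sh_inj hi) s, ?_⟩
  change f _ = _
  rw [f2 i (by omega) (by omega) _ (image_sh hi ▸ c.emb_mem _ s), dif_pos hi, c.tr_emb]

end Cfsg.Agent.H28.Ph
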