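import Cfsg.Agent.H28.PhanB4

/-! Automorphisms of `SU₂(q)` and standard pairs, small fields. -/

set_option autoImplicit false
set_option linter.unusedSectionVars false

namespace Cfsg.Agent.H28.Ph

open Matrix Finset
open scoped MatrixGroups Classical commutatorElement

variable {F : Type*} [Field F] [Fintype F] {q n m : ℕ} {θ : F ≃+* F} {G : Type*} [Group G]

theorem pow_mod {H : Type*} [Group H] {f g : G →* H} {x : G} (h : (f x)⁻¹ * g x ∈ Subgroup.center H) {m : ℕ}
    (hx : x ^ m = 1) : ((f x)⁻¹ * g x) ^ m = 1 := by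
  have hc : Commute (f x) ((f x)⁻¹ * g x) := Subgroup.mem_center_iff.1 h _
  have := hc.mul_pow m
  rw [mul_inv_cancel_left, ← map_pow, ← map_pow, hx, map_one, map_one, one_mul] at this
  exact this.symm

theorem tv_pow {K : Type*} [Field K] [Fintype K] {i j : Fin 2} (h : i ≠ j) (a : K) :
    SpecialLinearGroup.transvection h a ^ Fintype.card K = 1 := by
  have : ∀ m : ℕ, SpecialLinearGroup.transvection h a ^ m = SpecialLinearGroup.transvection h (m * a) := fun m => by
    induction m with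
    | zero => simp [SpecialLinearGroup.transvection_coeff_zero]
    | succ m ih => rw [pow_succ, ih, ← SpecialLinearGroup.transvection_add, Nat.cast_succ, add_mul, one_mul]
  rw [this, FiniteField.cast_card_eq_zero, zero_mul, SpecialLinearGroup.transvection_coeff_zero]

theorem aut_SL2' {K : Type*} [Field K] [Fintype K] (δ : MulAut SL(2, K)) :
    ∃ (g : GL (Fin 2) K) (σ : K ≃+* K), ∀ s, (δ s).1 * g.1 = g.1 * s.1.map σ := by
  let δ' : MulAut (ProjectiveSpecialLinearGroup (Fin 2) K) :=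
    QuotientGroup.congr _ _ δ (Subgroup.characteristic_iff_map_eq.1 inferInstance δ)
  obtain ⟨g, σ, h⟩ : ∃ g σ, δ' = dPSL _ K g * fPSL _ K σ := by
    obtain ⟨g, σ, h | h⟩ := aut_PSL le_rfl δ'
    · exact ⟨g, σ, h⟩
    · obtain ⟨J, hJ⟩ := iPSL_mem_range_two (F := K)
      exact ⟨g * J, σ, by rw [h, mul_assoc, ← (iPSL_commute_fPSL σ).eq, map_mul, hJ, mul_assoc]⟩
  let φ : SL(2, K) →* SL(2, K) := MonoidHom.mk' (fun s => ⟨g.1 * s.1.map σ * (g⁻¹).1, by
      rw [det_mul, det_mul, mul_right_comm, ← det_mul, Units.mul_inv, det_one, one_mul]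
      exact (SpecialLinearGroup.map (σ : K →+* K) s).2⟩) fun s t => Subtype.ext (by
        change g.1 * (s.1 * t.1).map (σ : K →+* K) * _ = g.1 * s.1.map σ * (g⁻¹).1 * (g.1 * t.1.map σ * (g⁻¹).1)
        rw [Matrix.map_mul]
        simp only [Matrix.mul_assoc, Units.inv_mul_cancel_left]
        rfl)
  have k : ∀ s, (δ.toMonoidHom s)⁻¹ * φ s ∈ Subgroup.center _ := fun s => QuotientGroup.eq.1 (by
      have e : (QuotientGroup.mk (δ s) : ProjectiveSpecialLinearGroup (Fin 2) K) = δ' (QuotientGroup.mk s) := rfl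
      refine e.trans ?_
      rw [h, MulAut.mul_apply, fPSL_mk σ (s' := SpecialLinearGroup.map (σ : K →+* K) s) rfl]
      exact dPSL_mk g rfl)
  have : ∀ s, δ s = φ s := SL2.transvection_induction _ (fun i j h a => by
    have h1 := pow_mod (k _) (tv_pow h a)
    obtain ⟨r, -, hr⟩ := Matrix.SpecialLinearGroup.mem_center_iff.1 (k (SpecialLinearGroup.transvection h a))
    have h2 := congrArg Subtype.val h1
    rw [Matrix.SpecialLinearGroup.coe_pow, ← hr, ← map_pow, FiniteField.pow_card, hr] at h2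
    exact inv_mul_eq_one.1 (Subtype.ext h2)) fun A B hA hB => by rw [map_mul, map_mul, hA, hB]
  refine ⟨g, σ, fun s => ?_⟩
  rw [this s]
  exact Units.inv_mul_cancel_right _ g

namespace Cy
variable (c : Cy q θ)
include c

theorem su2 (x : SU 2 F q) : θ (mt x 0 0) = mt x 1 1 ∧ θ (mt x 0 1) = -mt x 1 0 ∧
    θ (mt x 1 0) = -mt x 0 1 ∧ θ (mt x 1 1) = mt x 0 0 := by
  have h1 : cT θ (mt x) = adjugate (mt x) := by
    rw [← Matrix.mul_one (cT θ (mt x)), ← one_smul F (1 : Matrix (Fin 2) (Fin 2) F), ← x.1.2, ← mul_adjugate,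
      ← Matrix.mul_assoc, (mem_SU_iff c.pow).1 x.2, Matrix.one_mul]
  rw [adjugate_fin_two] at h1
  exact ⟨congrFun (congrFun h1 0) 0, congrFun (congrFun h1 1) 0, congrFun (congrFun h1 0) 1,
    congrFun (congrFun h1 1) 1⟩

theorem mem2 {A : SL(2, F)} (h0 : θ (A.1 0 0) = A.1 1 1) (h1 : θ (A.1 0 1) = -A.1 1 0) : A ∈ SU 2 F q := by
  have h2 : θ (A.1 1 1) = A.1 0 0 := by rw [← h0, c.inv]
  have h3 : θ (A.1 1 0) = -A.1 0 1 := by rw [← neg_neg (A.1 1 0), ← h1, map_neg, c.inv]
  have : cT θ A.1 = adjugate A.1 := by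
    rw [adjugate_fin_two]
    ext i j; fin_cases i <;> fin_cases j <;> simp [cT, h0, h1, h2, h3]
  rw [mem_SU_iff c.pow, this, adjugate_mul, A.2, one_smul]

theorem card_fix : Fintype.card (fixF θ) = q := by
  have h := card_fixF_pow θ
  rw [c.ord, Nat.card_eq_fintype_card (α := F), c.card, Nat.card_eq_fintype_card] at h
  exact Nat.pow_left_injective (by norm_num) h

theorem exists_conj : ∃ (P : GL (Fin 2) F) (e : SL(2, fixF θ) ≃* SU 2 F q),
    ∀ s, mt (e s) * P.1 = P.1 * s.1.map (fixF θ).subtype := by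
  obtain ⟨l, hl⟩ := c.exists_nm (s := -1) (by simp)
  obtain ⟨a, ha⟩ := exists_sub_ne_zero c.ord
  have hl0 : l ≠ 0 := by rintro rfl; simp at hl
  unfold nm at hl
  let P : GL (Fin 2) F := GeneralLinearGroup.mkOfDetNeZero !![1, a; l, l * θ a] (by
    rw [det_fin_two_of]; intro h; exact mul_ne_zero hl0 ha (by linear_combination -h))
  have hP : P.1 = !![1, a; l, l * θ a] := rfl
  have hw : !![(0 : F), 1; -1, 0] * P.1 = l • P.1.map θ := by
    rw [hP]
    ext i j; fin_cases i <;> fin_cases j <;> simp [Matrix.mul_apply, Fin.sum_univ_two, c.inv]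
    · linear_combination -hl
    · linear_combination -a * hl
  have key : ∀ (X : SL(2, F)) (s : SL(2, fixF θ)), X.1 * P.1 = P.1 * s.1.map (fixF θ).subtype → X ∈ SU 2 F q :=
    fun X s h => by
      have hs : (s.1.map (fixF θ).subtype).map (θ : F →+* F) = s.1.map (fixF θ).subtype := by
        ext i j; exact (s.1 i j).2
      have h1 := congrArg (fun M => l • M.map (θ : F →+* F)) h
      simp only [Matrix.map_mul, hs] at h1
      rw [← Matrix.mul_smul, ← Matrix.smul_mul] at h1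
      erw [← hw] at h1
      rw [Matrix.mul_assoc, ← h, ← Matrix.mul_assoc, ← Matrix.mul_assoc, Units.mul_left_inj] at h1
      have h00 := congrFun (congrFun h1 0) 0
      have h01 := congrFun (congrFun h1 0) 1
      simp [Matrix.mul_apply, Fin.sum_univ_two] at h00 h01
      exact c.mem2 h01 (by linear_combination -h00)
  let f : SL(2, fixF θ) →* SU 2 F q := MonoidHom.mk' (fun s => ⟨⟨P.1 * s.1.map (fixF θ).subtype * (P⁻¹).1, by
      rw [det_mul, det_mul, mul_right_comm, ← det_mul, Units.mul_inv, det_one, one_mul]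
      exact (SpecialLinearGroup.map (fixF θ).subtype s).2⟩, key _ s (Units.inv_mul_cancel_right _ P)⟩)
    fun s t => Subtype.ext (Subtype.ext (by
        change P.1 * (s.1 * t.1).map (fixF θ).subtype * _ = P.1 * s.1.map _ * (P⁻¹).1 * (P.1 * t.1.map _ * (P⁻¹).1)
        rw [Matrix.map_mul]
        simp only [Matrix.mul_assoc, Units.inv_mul_cancel_left]))
  have hf : ∀ s, mt (f s) * P.1 = P.1 * s.1.map (fixF θ).subtype := fun s => Units.inv_mul_cancel_right _ P
  obtain ⟨e⟩ := H12.nonempty_SU2_equiv c.card c.card_fix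
  refine ⟨P, MulEquiv.ofBijective f ((Nat.bijective_iff_injective_and_card f).2 ⟨fun s t h => ?_,
    Nat.card_congr e.symm.toEquiv⟩), hf⟩
  have := hf s
  rw [h, hf, Units.mul_right_inj] at this
  exact Subtype.ext (Matrix.map_injective (fixF θ).subtype.injective this).symm

theorem aut2 (δ : MulAut (SU 2 F q)) :
    ∃ (B : GL (Fin 2) F) (τ : F ≃+* F), ∀ x, mt (δ x) * B.1 = B.1 * (mt x).map τ := by
  obtain ⟨P, e, he⟩ := c.exists_conj
  obtain ⟨g, σ, hg⟩ := aut_SL2' (e.trans (δ.trans e.symm))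
  obtain ⟨τ, hτ⟩ := exists_ext (fixF θ).subtype σ
  refine ⟨P * GeneralLinearGroup.map (fixF θ).subtype g * (GeneralLinearGroup.map (τ : F →+* F) P)⁻¹, τ, fun x => ?_⟩
  obtain ⟨s, rfl⟩ := e.surjective x
  have h1 := he (e.symm (δ (e s)))
  rw [e.apply_symm_apply] at h1
  have h2 := congrArg (fun M => M.map (fixF θ).subtype) (hg s)
  have h3 := congrArg (fun M => M.map (τ : F →+* F)) (he s)
  simp only [Matrix.map_mul] at h2 h3
  have h4 : (s.1.map (fixF θ).subtype).map (τ : F →+* F) = (s.1.map σ).map (fixF θ).subtype := by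
    ext i j; exact hτ _
  rw [h4] at h3
  rw [Units.val_mul, Units.val_mul, ← Matrix.mul_assoc, Units.mul_inv_eq_iff_eq_mul, Matrix.mul_assoc _ _ (_ : GL _ F).1]
  erw [h3]
  rw [Matrix.mul_assoc _ (_ : GL _ F).1]
  erw [Units.inv_mul_cancel_left]
  rw [← Matrix.mul_assoc, h1, Matrix.mul_assoc, Matrix.mul_assoc]
  exact congrArg _ h2

theorem su2_ind (P : SU 2 F q → Prop) (h1 : ∀ s, s ^ q = 1 → P s) (hm : ∀ s t, P s → P t → P (s * t)) (s) : P s := by
  obtain ⟨-, e, -⟩ := c.exists_conj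
  obtain ⟨s, rfl⟩ := e.surjective s
  exact SL2.transvection_induction (fun s => P (e s))
    (fun i j h a => h1 _ (by
      have := tv_pow h a
      rw [c.card_fix] at this
      rw [← map_pow, this, map_one]))
    (fun A B hA hB => by rw [map_mul]; exact hm _ _ hA hB) s

theorem center_pow (hn : 2 ≤ n) {z : SU n F q} (hz : z ∈ Subgroup.center _) : z ^ Nat.gcd n (q + 1) = 1 :=
  H12.card_center_SU c.card hn ▸ congrArg Subtype.val (pow_card_eq_one' (x := (⟨z, hz⟩ : Subgroup.center _)))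

theorem center_one (hn : 2 ≤ n) {z : SU n F q} (hz : z ∈ Subgroup.center _) (h : z ^ q = 1) : z = 1 := by
  obtain ⟨k, hk⟩ := Nat.gcd_dvd_right n (q + 1)
  have : z ^ (q + 1) = 1 := by rw [hk, pow_mul, c.center_pow hn hz, one_pow]
  rwa [pow_succ, h, one_mul] at this

theorem center_fix (hn : 2 ≤ n) {g : SU n F q} (hg : g ∈ Subgroup.center _) {k : Fin n}
    (h : g • ee F k = ee F k) : g = 1 :=
  su_ext fun l => by
    have : Nontrivial (Fin n) := Fin.nontrivial_iff_two_le.2 hn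
    obtain ⟨j, hj⟩ := exists_ne k
    obtain ⟨u, -, hu⟩ := c.trans1 (S := univ) (mem_univ k) (mem_univ j) hj.symm (hf_ee l)
      fun _ h => absurd (mem_univ _) h
    rw [← hu, one_smul, ← mul_smul, ← Subgroup.mem_center_iff.1 hg u, mul_smul, h]

theorem emb_range {j : Fin m → Fin n} (hj : Function.Injective j) : (c.emb hj).range = Blk F q (univ.image j) :=
  le_antisymm (by rintro _ ⟨s, rfl⟩; exact c.emb_mem hj s) fun _ h => c.exists_emb hj h

end Cy

namespace Cy
variable (c : Cy q θ)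

/-- diagonal and field automorphisms -/
def tw (τ : F ≃+* F) (v : Fin n → F) (hv : ∀ i, nm θ (v i) = 1) : SU n F q →* SU n F q :=
  MonoidHom.mk' (fun g => ⟨⟨diagonal v * (mt g).map τ * diagonal (θ ∘ v), by
      rw [det_mul, det_mul, mul_right_comm, ← det_mul, diag_nm hv, det_one, one_mul]
      exact (SpecialLinearGroup.map (τ : F →+* F) g.1).2⟩, (mem_SU_iff c.pow).2 (by
      have h1 : cT θ (diagonal v) = diagonal (θ ∘ v) := by
        rw [cT, diagonal_map (map_zero _), diagonal_transpose]; rfl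
      have h2 : cT θ (diagonal (θ ∘ v)) = diagonal v := by rw [← h1, cT_cT c.inv]
      have h3 : ((mt g).map τ) = (mt g).map (τ : F →+* F) := rfl
      have h4 : ((cT θ (mt g)).map τ) = (cT θ (mt g)).map (τ : F →+* F) := rfl
      change cT θ (diagonal v * (mt g).map τ * diagonal (θ ∘ v)) * (diagonal v * (mt g).map τ * diagonal (θ ∘ v)) = 1
      rw [cT_mul, cT_mul, h1, h2, map_cT]
      simp only [Matrix.mul_assoc]
      rw [← Matrix.mul_assoc (diagonal (θ ∘ v)), diag_nm' hv, Matrix.one_mul, ← Matrix.mul_assoc (Matrix.map _ _), h3, h4,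
        ← Matrix.map_mul, (mem_SU_iff c.pow).1 g.2, Matrix.map_one _ (map_zero _) (map_one _), Matrix.one_mul,
        diag_nm hv])⟩)
    fun g g' => su_ext' (by
      change diagonal v * (mt g * mt g').map (τ : F →+* F) * _ = diagonal v * (mt g).map τ * diagonal (θ ∘ v) *
        (diagonal v * (mt g').map τ * diagonal (θ ∘ v))
      rw [Matrix.map_mul]
      simp only [Matrix.mul_assoc]
      rw [← Matrix.mul_assoc (diagonal (θ ∘ v)), diag_nm' hv, Matrix.one_mul]
      rfl)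

theorem tw_apply (τ : F ≃+* F) (v : Fin n → F) (hv : ∀ i, nm θ (v i) = 1) (g : SU n F q) (i j : Fin n) :
    mt (c.tw τ v hv g) i j = v i * τ (mt g i j) * θ (v j) := by
  change (diagonal v * (mt g).map τ * diagonal (θ ∘ v)) i j = _
  simp

theorem tw_bij (τ : F ≃+* F) (v : Fin n → F) (hv : ∀ i, nm θ (v i) = 1) : Function.Bijective (c.tw τ v hv) := by
  refine Finite.injective_iff_bijective.1 fun g g' h => su_ext' (Matrix.ext fun i j => ?_)
  have := congrFun (congrFun (congrArg mt h) i) j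
  have h0 : ∀ i, v i ≠ 0 := fun i e => by simpa [e] using hv i
  rw [c.tw_apply, c.tw_apply] at this
  simpa [h0] using this

/-- diagonal elements -/
def dd (a : F) (ha : nm θ a = 1) : SU 2 F q :=
  ⟨⟨!![a, 0; 0, θ a], by rw [det_fin_two_of, mul_zero, sub_zero]; exact ha⟩, c.mem2 rfl (by simp)⟩

/-- the Weyl element -/
def ww : SU 2 F q := ⟨⟨!![0, 1; -1, 0], by simp [det_fin_two]⟩, c.mem2 (by simp) (by simp)⟩

theorem mt_dd (a : F) (ha : nm θ a = 1) : mt (c.dd a ha) = !![a, 0; 0, θ a] := rfl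

theorem mt_ww : mt c.ww = !![0, 1; -1, 0] := rfl

theorem E0_eq (y : SU 2 F q) : mt (c.E0 y) = !![mt y 0 0, mt y 0 1, 0; mt y 1 0, mt y 1 1, 0; 0, 0, 1] := by
  change embM _ (mt y) = _
  ext i j
  fin_cases i <;> fin_cases j <;> simp [embM, Pm, sh, Matrix.mul_apply, Fin.sum_univ_two, Fin.ext_iff]

theorem E1_eq (y : SU 2 F q) : mt (c.E1 y) = !![1, 0, 0; 0, mt y 0 0, mt y 0 1; 0, mt y 1 0, mt y 1 1] := by
  change embM _ (mt y) = _
  have : Pm F (sh 2 1 (show 1 + 2 ≤ 3 by omega)) = !![0, 0; 1, 0; 0, 1] := by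
    ext i j
    fin_cases i <;> fin_cases j <;> simp only [Pm, sh, of_apply, Fin.ext_iff] <;> simp
  rw [embM, this]
  ext i j
  fin_cases i <;> fin_cases j <;>
    simp only [Matrix.add_apply, Matrix.mul_apply, Fin.sum_univ_two, transpose_apply] <;> simp

include c in
theorem nm_two {a : F} (ha : nm θ a = 1) : ∀ i, nm θ (![a, 1] i) = 1 := fun i => by
  fin_cases i <;> simp [ha]; simp [nm]

include c in
theorem nm_three {a : F} (ha : nm θ a = 1) : ∀ i, nm θ (![a, 1, 1] i) = 1 := fun i => by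
  fin_cases i <;> simp [ha] <;> simp [nm]

theorem dd_E1 {a : F} (ha : nm θ a = 1) (s : SU 2 F q) :
    c.E0 (c.dd a ha) * c.E1 s = c.E1 (c.tw 1 ![θ a, 1] (c.nm_two ((c.nm_conj a).trans ha)) s) * c.E0 (c.dd a ha) := by
  refine su_ext' ?_
  rw [mt_mul, mt_mul, c.E0_eq, c.E1_eq, c.E1_eq]
  simp only [c.tw_apply, mt_dd]
  unfold nm at ha
  ext i j
  fin_cases i <;> fin_cases j <;> simp [Matrix.mul_apply, Fin.sum_univ_three, c.inv]
  · linear_combination -(θ a * mt s 0 0) * ha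
  · linear_combination -(mt s 1 0) * ha

theorem tw_E0 (τ : F ≃+* F) {a : F} (ha : nm θ a = 1) (s : SU 2 F q) :
    c.tw τ ![a, 1, 1] (c.nm_three ha) (c.E0 s) = c.E0 (c.tw τ ![a, 1] (c.nm_two ha) s) := by
  refine su_ext' (Matrix.ext fun i j => ?_)
  rw [c.tw_apply, c.E0_eq, c.E0_eq]
  simp only [c.tw_apply]
  fin_cases i <;> fin_cases j <;> simp

theorem tw_E1 (τ : F ≃+* F) {a : F} (ha : nm θ a = 1) (s : SU 2 F q) :
    c.tw τ ![a, 1, 1] (c.nm_three ha) (c.E1 s) = c.E1 (c.tw τ ![1, 1] (c.nm_two (by simp [nm])) s) := by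
  refine su_ext' (Matrix.ext fun i j => ?_)
  rw [c.tw_apply, c.E1_eq, c.E1_eq]
  simp only [c.tw_apply]
  fin_cases i <;> fin_cases j <;> simp
  exact ha

theorem aut2_diag (δ : MulAut (SU 2 F q)) {x : SU 2 F q} (h1 : mt x 0 1 = 0) (h2 : mt x 1 0 = 0)
    (h3 : mt (δ x) 0 1 = 0) (h4 : mt (δ x) 1 0 = 0) (h5 : mt (δ x) 0 0 ≠ mt (δ x) 1 1) :
    ∃ (τ : F ≃+* F) (a : F) (ha : nm θ a = 1), ∀ s, δ s = c.tw τ ![a, 1] (c.nm_two ha) s := by
  obtain ⟨B, τ, h⟩ := c.aut2 δ
  have main : ∀ (τ : F ≃+* F) (b0 b1 : F), b0 ≠ 0 → b1 ≠ 0 →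
      (∀ s, mt (δ s) * !![b0, 0; 0, b1] = !![b0, 0; 0, b1] * (mt s).map τ) →
      ∃ (τ : F ≃+* F) (a : F) (ha : nm θ a = 1), ∀ s, δ s = c.tw τ ![a, 1] (c.nm_two ha) s := by
    intro τ b0 b1 h0 h1 h
    have e : ∀ s, mt (δ s) 0 0 * b0 = b0 * τ (mt s 0 0) ∧ mt (δ s) 0 1 * b1 = b0 * τ (mt s 0 1) ∧
        mt (δ s) 1 0 * b0 = b1 * τ (mt s 1 0) ∧ mt (δ s) 1 1 * b1 = b1 * τ (mt s 1 1) := fun s => by
      have := h s
      refine ⟨?_, ?_, ?_, ?_⟩
      · simpa [Matrix.mul_apply, Fin.sum_univ_two] using congrFun (congrFun this 0) 0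
      · simpa [Matrix.mul_apply, Fin.sum_univ_two] using congrFun (congrFun this 0) 1
      · simpa [Matrix.mul_apply, Fin.sum_univ_two] using congrFun (congrFun this 1) 0
      · simpa [Matrix.mul_apply, Fin.sum_univ_two] using congrFun (congrFun this 1) 1
    obtain ⟨-, e1, e2, -⟩ := e c.ww
    simp only [mt_ww, of_apply, cons_val', cons_val_zero, cons_val_one, cons_val_fin_one, map_one, map_neg] at e1 e2
    have e3 : b0 / b1 = mt (δ c.ww) 0 1 := by rw [div_eq_iff h1, e1, mul_one]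
    have e4 : θ (b0 / b1) = b1 / b0 := by
      rw [e3, (c.su2 _).2.1, eq_div_iff h0]; linear_combination -e2
    have ha : nm θ (b0 / b1) = 1 := by rw [nm, e4]; field_simp
    refine ⟨τ, b0 / b1, ha, fun s => su_ext' (Matrix.ext fun i j => ?_)⟩
    obtain ⟨a1, a2, a3, a4⟩ := e s
    rw [c.tw_apply]
    fin_cases i <;> fin_cases j <;> simp [-map_div₀, e4]
    · field_simp; exact mul_right_cancel₀ h0 (by linear_combination a1)
    · field_simp; linear_combination a2
    · field_simp; linear_combination a3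
    · exact mul_right_cancel₀ h1 (by linear_combination a4)
  have hB := B.det_ne_zero
  have e := h x
  have e0 := congrFun (congrFun e 0) 0
  have e1 := congrFun (congrFun e 0) 1
  have e2 := congrFun (congrFun e 1) 0
  have e3 := congrFun (congrFun e 1) 1
  simp only [Matrix.mul_apply, Fin.sum_univ_two, map_apply, h1, h2, h3, h4, map_zero] at e0 e1 e2 e3
  have d1 : (mt x).det = 1 := x.1.2
  have d2 : (mt (δ x)).det = 1 := (δ x).1.2
  rw [det_fin_two] at d1 d2 hB
  rw [h1] at d1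
  rw [h3] at d2
  have d3 := congrArg τ d1
  simp only [zero_mul, sub_zero, map_mul, map_one] at d2 d3
  by_cases hb : mt (δ x) 0 0 = τ (mt x 0 0)
  · have hb' : mt (δ x) 1 1 = τ (mt x 1 1) := by
      rw [← hb] at d3; exact mul_left_cancel₀ (left_ne_zero_of_mul_eq_one d2) (d2.trans d3.symm)
    have f1 : B.1 0 1 = 0 := by
      rw [← hb'] at e1; exact (mul_eq_zero.1 (by linear_combination e1)).resolve_left (sub_ne_zero.2 h5)
    have f2 : B.1 1 0 = 0 := by
      rw [← hb] at e2; exact (mul_eq_zero.1 (by linear_combination -e2)).resolve_left (sub_ne_zero.2 h5)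
    rw [f1, zero_mul, sub_zero] at hB
    refine main τ _ _ (left_ne_zero_of_mul hB) (right_ne_zero_of_mul hB) fun s => ?_
    have := h s
    rwa [eta_fin_two B.1, f1, f2] at this
  · have hb' : mt (δ x) 1 1 ≠ τ (mt x 1 1) := fun hb' => hb (by
      rw [← hb'] at d3; exact mul_right_cancel₀ (right_ne_zero_of_mul_eq_one d2) (d2.trans d3.symm))
    have f1 : B.1 0 0 = 0 := (mul_eq_zero.1 (by linear_combination e0)).resolve_left (sub_ne_zero.2 hb)
    have f2 : B.1 1 1 = 0 := (mul_eq_zero.1 (by linear_combination e3)).resolve_left (sub_ne_zero.2 hb')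
    rw [f1, zero_mul, zero_sub, neg_ne_zero] at hB
    refine main (τ * θ) _ (-B.1 1 0) (left_ne_zero_of_mul hB) (neg_ne_zero.2 (right_ne_zero_of_mul hB)) fun s => ?_
    have e := h s
    have e0 := congrFun (congrFun e 0) 0
    have e1 := congrFun (congrFun e 0) 1
    have e2 := congrFun (congrFun e 1) 0
    have e3 := congrFun (congrFun e 1) 1
    simp only [Matrix.mul_apply, Fin.sum_univ_two, map_apply, f1, f2] at e0 e1 e2 e3
    obtain ⟨s1, s2, s3, s4⟩ := c.su2 s
    ext i j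
    fin_cases i <;> fin_cases j <;> simp [Matrix.mul_apply, Fin.sum_univ_two, s1, s2, s3, s4]
    · linear_combination e1
    · linear_combination e0
    · linear_combination e3
    · linear_combination e2

end Cy

/-- standard maps -/
structure Ste (c : Cy q θ) (ψ : SU 3 F q →* G) (A B : Subgroup G) : Prop where
  ker : ∀ x, ψ x = 1 → x ∈ Subgroup.center _
  h0 : (ψ.comp c.E0).range = A
  h1 : (ψ.comp c.E1).range = B

theorem Cy.mem_E0 (c : Cy q θ) {g : SU 3 F q} : g ∈ c.E0.range ↔ g • ee F (2 : Fin 3) = ee F (2 : Fin 3) :=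
  ⟨by rintro ⟨s, rfl⟩; exact c.emb_mem _ s 2 (by decide), fun h => c.exists_emb _ fun k hk => by
    obtain rfl : k = 2 := by revert k; decide
    exact h⟩

theorem Cy.mem_E1 (c : Cy q θ) {g : SU 3 F q} : g ∈ c.E1.range ↔ g • ee F (0 : Fin 3) = ee F 0 :=
  ⟨by rintro ⟨s, rfl⟩; exact c.emb_mem _ s 0 (by decide), fun h => c.exists_emb _ fun k hk => by
    obtain rfl : k = 0 := by revert k; decide
    exact h⟩

theorem Cy.eq_one_of_comm (c : Cy q θ) {y : SU 2 F q} (h : c.E0 y * c.E1 c.ww = c.E1 c.ww * c.E0 y) : y = 1 := by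
  have e := congrArg mt h
  rw [mt_mul, mt_mul, c.E0_eq, c.E1_eq] at e
  have e0 := congrFun (congrFun e 0) 1
  have e1 := congrFun (congrFun e 1) 0
  have e2 := congrFun (congrFun e 1) 2
  simp [Matrix.mul_apply, Fin.sum_univ_three, c.mt_ww] at e0 e1 e2
  have d : (mt y).det = 1 := y.1.2
  rw [det_fin_two, e1, e2, mul_one, mul_zero, sub_zero] at d
  refine su_ext' ?_
  rw [eta_fin_two (mt y), d, ← e0, e1, e2]
  exact one_fin_two.symm

theorem Cy.eq_one_of_comm' (c : Cy q θ) {y : SU 2 F q} (h : c.E1 y * c.E0 c.ww = c.E0 c.ww * c.E1 y) : y = 1 := by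
  have e := congrArg mt h
  rw [mt_mul, mt_mul, c.E0_eq, c.E1_eq] at e
  have e0 := congrFun (congrFun e 0) 1
  have e1 := congrFun (congrFun e 0) 2
  have e2 := congrFun (congrFun e 2) 0
  simp [Matrix.mul_apply, Fin.sum_univ_three, c.mt_ww] at e0 e1 e2
  have d : (mt y).det = 1 := y.1.2
  rw [det_fin_two, ← e0, ← e1, one_mul, zero_mul, sub_zero] at d
  refine su_ext' ?_
  rw [eta_fin_two (mt y), d, ← e0, ← e1, e2]
  exact one_fin_two.symm

namespace Ste
variable {c : Cy q θ} {ψ ψ' : SU 3 F q →* G} {A B C : Subgroup G}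

theorem inj0 (h : Ste c ψ A B) : Function.Injective (ψ.comp c.E0) :=
  (injective_iff_map_eq_one _).2 fun s hs => c.emb_inj _
    ((c.center_fix (by omega) (h.ker _ hs) (c.mem_E0.1 ⟨s, rfl⟩)).trans (map_one _).symm)

theorem inj1 (h : Ste c ψ A B) : Function.Injective (ψ.comp c.E1) :=
  (injective_iff_map_eq_one _).2 fun s hs => c.emb_inj _
    ((c.center_fix (by omega) (h.ker _ hs) (c.mem_E1.1 ⟨s, rfl⟩)).trans (map_one _).symm)

theorem cent (h : Ste c ψ A B) {y : SU 2 F q} (hy : ∀ s, ψ (c.E0 y) * ψ (c.E1 s) = ψ (c.E1 s) * ψ (c.E0 y)) :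
    y = 1 := by
  have k : ∀ s, (c.E1 s)⁻¹ * ((MulAut.conj (c.E0 y)).toMonoidHom.comp c.E1) s ∈ Subgroup.center _ := fun s => h.ker _ (by
    change ψ ((c.E1 s)⁻¹ * (c.E0 y * c.E1 s * (c.E0 y)⁻¹)) = 1
    rw [map_mul, map_mul, map_mul, hy, map_inv, map_inv]; group)
  have e : c.E1 c.ww = c.E0 y * c.E1 c.ww * (c.E0 y)⁻¹ :=
    c.su2_ind (fun s => c.E1 s = ((MulAut.conj (c.E0 y)).toMonoidHom.comp c.E1) s)
      (fun s hs => inv_mul_eq_one.1 (c.center_one (by omega) (k s) (pow_mod (k s) hs)))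
      (fun s t hs ht => by rw [map_mul, map_mul, ← hs, ← ht]) c.ww
  exact c.eq_one_of_comm (mul_inv_eq_iff_eq_mul.1 e.symm)

theorem cent' (h : Ste c ψ A B) {y : SU 2 F q} (hy : ∀ s, ψ (c.E1 y) * ψ (c.E0 s) = ψ (c.E0 s) * ψ (c.E1 y)) :
    y = 1 := by
  have k : ∀ s, (c.E0 s)⁻¹ * ((MulAut.conj (c.E1 y)).toMonoidHom.comp c.E0) s ∈ Subgroup.center _ := fun s => h.ker _ (by
    change ψ ((c.E0 s)⁻¹ * (c.E1 y * c.E0 s * (c.E1 y)⁻¹)) = 1
    rw [map_mul, map_mul, map_mul, hy, map_inv, map_inv]; group)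
  have e : c.E0 c.ww = c.E1 y * c.E0 c.ww * (c.E1 y)⁻¹ :=
    c.su2_ind (fun s => c.E0 s = ((MulAut.conj (c.E1 y)).toMonoidHom.comp c.E0) s)
      (fun s hs => inv_mul_eq_one.1 (c.center_one (by omega) (k s) (pow_mod (k s) hs)))
      (fun s t hs ht => by rw [map_mul, map_mul, ← hs, ← ht]) c.ww
  exact c.eq_one_of_comm' (mul_inv_eq_iff_eq_mul.1 e.symm)

end Ste

theorem Cy.suBlock_eq (c : Cy q θ) (k : Fin 3) (s : Set (Fin 3)) (hs : ∀ l, l ∉ s ↔ l = k) (K : Subgroup (SU 3 F q))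
    (hK : ∀ g, g ∈ K ↔ g • ee F k = ee F k) : suBlock 3 F q s = K := by
  have : ∀ g : SU 3 F q, (∀ k : Fin 3, k ∉ s → mt g k k = 1 ∧ ∀ l : Fin 3, l ≠ k → mt g k l = 0 ∧ mt g l k = 0) ↔
      g ∈ K := fun g => by
    rw [hK]
    have e : ∀ i j, (g • ee F j) i = mt g i j := fun i j => by simp [smul_eq]
    constructor
    · intro h
      obtain ⟨h1, h2⟩ := h k ((hs k).2 rfl)
      ext l
      by_cases hl : l = k
      · rw [e, hl, h1]; simp
      · rw [e, (h2 l hl).2]; simp [hl]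
    · intro h l hl
      obtain rfl := (hs l).1 hl
      refine ⟨by rw [← e, h]; simp, fun j hj => ⟨?_, by rw [← e, h]; simp [hj]⟩⟩
      rw [← e, ← hf_ee_right (θ := θ) (g • ee F j) l, ← h, c.map, hf_ee_right]; simp [hj.symm]
  rw [suBlock, show {A : SU 3 F q | _} = (K : Set (SU 3 F q)) from Set.ext this, Subgroup.closure_eq]

theorem Cy.std_of (c : Cy q θ) {V A B : Subgroup G} (h : IsStandardUnitaryPair V A B F q) :
    ∃ ψ, Ste c ψ A B ∧ ψ.range = V := by
  have e0 := c.suBlock_eq 2 {0, 1} (by decide) _ fun _ => c.mem_E0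
  have e1 := c.suBlock_eq 0 {1, 2} (by decide) _ fun _ => c.mem_E1
  have key : ∀ ψ : SU 3 F q →* V, Function.Surjective ψ → (∀ x, ψ x = 1 → x ∈ Subgroup.center _) →
      (suBlock 3 F q {0, 1}).map (V.subtype.comp ψ) = A → (suBlock 3 F q {1, 2}).map (V.subtype.comp ψ) = B →
      ∃ ψ, Ste c ψ A B ∧ ψ.range = V := fun ψ h1 h2 h3 h4 => by
    have h5 : Ste c (V.subtype.comp ψ) A B := ⟨fun x hx => h2 x (Subtype.ext hx),
      by rw [MonoidHom.range_comp, ← e0, h3], by rw [MonoidHom.range_comp, ← e1, h4]⟩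
    refine ⟨_, h5, ?_⟩
    rw [MonoidHom.range_comp, MonoidHom.range_eq_top.2 h1, ← MonoidHom.range_eq_map,
      Subgroup.range_subtype]
  obtain ⟨ψ, h1, h2⟩ | ⟨ψ, h1, h2⟩ := h
  · exact key _ ψ.surjective (fun x hx => by
      rw [(map_eq_one_iff ψ ψ.injective).1 hx]; exact one_mem _) h1 h2
  · exact key _ (ψ.surjective.comp (QuotientGroup.mk'_surjective _)) (fun x hx =>
      (QuotientGroup.eq_one_iff x).1 ((map_eq_one_iff ψ ψ.injective).1 hx)) h1 h2

theorem exists_cy (hq : q = 2 ∨ q = 3) (hF : Fintype.card F = q ^ 2) : ∃ θ : F ≃+* F, Cy q θ :=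
  let ⟨θ, h, _⟩ := exists_frob_two hF
  ⟨θ, hF, h, hq⟩

namespace Cy
variable (c : Cy q θ)
include c

theorem iso3 {v w : Fin 3 → F} (hv : v ≠ 0) (h1 : hf θ v v = 0) (h2 : hf θ w w = 0) (h3 : hf θ w v = 0) :
    ∃ a : F, w = a • v := by
  have h4 := c.perp h3
  simp only [hf, Fin.sum_univ_three] at h1 h2 h3 h4
  have c0 : v 1 * w 2 - v 2 * w 1 = 0 := (nm_eq_zero (θ := θ)).1 (by
    simp only [nm, map_sub, map_mul]
    linear_combination (w 1 * θ (w 1) + w 2 * θ (w 2)) * h1 - v 0 * θ (v 0) * h2 -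
      (w 1 * θ (v 1) + w 2 * θ (v 2)) * h4 + v 0 * θ (w 0) * h3)
  have c1 : v 2 * w 0 - v 0 * w 2 = 0 := (nm_eq_zero (θ := θ)).1 (by
    simp only [nm, map_sub, map_mul]
    linear_combination (w 0 * θ (w 0) + w 2 * θ (w 2)) * h1 - v 1 * θ (v 1) * h2 -
      (w 0 * θ (v 0) + w 2 * θ (v 2)) * h4 + v 1 * θ (w 1) * h3)
  have c2 : v 0 * w 1 - v 1 * w 0 = 0 := (nm_eq_zero (θ := θ)).1 (by
    simp only [nm, map_sub, map_mul]
    linear_combination (w 0 * θ (w 0) + w 1 * θ (w 1)) * h1 - v 2 * θ (v 2) * h2 -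
      (w 0 * θ (v 0) + w 1 * θ (v 1)) * h4 + v 2 * θ (w 2) * h3)
  obtain ⟨i, hi⟩ := Function.ne_iff.1 hv
  refine ⟨w i / v i, funext fun j => ?_⟩
  rw [Pi.smul_apply, smul_eq_mul, div_mul_eq_mul_div, eq_div_iff hi]
  fin_cases i <;> fin_cases j <;> simp only [Fin.zero_eta, Fin.mk_one, Fin.reduceFinMk] <;>
    first | linear_combination c0 | linear_combination -c0 | linear_combination c1 | linear_combination -c1 |
      linear_combination c2 | linear_combination -c2

theorem adj2 (h2 : (2 : F) = 0) {z : SU n F q} (hz : z * z = 1) (u w : Fin n → F) :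
    hf θ (z • u - u) w = hf θ u (z • w - w) := by
  rw [hf_sub_left, hf_sub_right, c.map_left, inv_eq_of_mul_eq_one_right hz]

theorem iso2 (h2 : (2 : F) = 0) {z : SU n F q} (hz : z * z = 1) (u w : Fin n → F) :
    hf θ (z • u - u) (z • w - w) = 0 := by
  rw [c.adj2 h2 hz, Cx.fix2 h2 hz, sub_self, hf_zero_right]

theorem inv2 (h2 : (2 : F) = 0) {z z' : SU 3 F q} (hz : z * z = 1) (hz' : z' * z' = 1) (hc : z * z' = z' * z)
    {u : Fin 3 → F} (hu : z • u - u ≠ 0) :
    (∀ y, ∃ a : F, z' • y - y = a • (z • u - u)) ∧ ∀ x, hf θ x (z • u - u) = 0 → z' • x = x := by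
  have e : z' • (z • u - u) = z • (z' • u) - z' • u := by rw [smul_sub, ← mul_smul, ← hc, mul_smul]
  obtain ⟨l, hl⟩ := c.iso3 hu (c.iso2 h2 hz _ _) (c.iso2 h2 hz (z' • u) _) (c.iso2 h2 hz (z' • u) _)
  rw [← e] at hl
  have h1 : (l * l) • (z • u - u) = (1 : F) • (z • u - u) := by
    rw [mul_smul, ← hl, ← smul_comm, ← hl, ← mul_smul, hz', one_smul, one_smul]
  have h3 : l = 1 := by
    have := smul_left_injective F hu h1
    exact sub_eq_zero.1 (mul_self_eq_zero.1 (by linear_combination this + (1 - l) * h2))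
  rw [h3, one_smul] at hl
  have h4 : ∀ y, ∃ a : F, z' • y - y = a • (z • u - u) := fun y =>
    c.iso3 hu (c.iso2 h2 hz _ _) (c.iso2 h2 hz' _ _) (by rw [c.adj2 h2 hz', hl, sub_self, hf_zero_right])
  refine ⟨h4, fun x hx => sub_eq_zero.1 (eq_zero_of_hf (θ := θ) fun y => ?_)⟩
  obtain ⟨a, ha⟩ := h4 y
  rw [c.adj2 h2 hz', ha, hf_smul_right, hx, mul_zero]

theorem fix_even (h2 : (2 : F) = 0) {φ : SL(2, fixF θ) →* SU 3 F q} (hφ : Function.Injective φ) :
    ∃ x : Fin 3 → F, hf θ x x ≠ 0 ∧ ∀ s, φ s • x = x := by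
  have h2' : (2 : fixF θ) = 0 := Subtype.ext h2
  have hc : ∀ {i j : Fin 2} (h : i ≠ j) (a b : fixF θ), φ (SpecialLinearGroup.transvection h a) *
      φ (SpecialLinearGroup.transvection h b) = φ (SpecialLinearGroup.transvection h (a + b)) := fun h a b => by
    rw [← map_mul, SpecialLinearGroup.transvection_add]
  have hz : ∀ {i j : Fin 2} (h : i ≠ j) (a : fixF θ), φ (SpecialLinearGroup.transvection h a) *
      φ (SpecialLinearGroup.transvection h a) = 1 := fun h a => by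
    rw [hc, ← two_mul, h2', zero_mul, SpecialLinearGroup.transvection_coeff_zero, map_one]
  have hne : ∀ {i j : Fin 2} (h : i ≠ j), φ (SpecialLinearGroup.transvection h 1) ≠ 1 := fun {i j} h e => by
    have := congrFun (congrFun (congrArg Subtype.val ((map_eq_one_iff φ hφ).1 e)) i) j
    simp [SpecialLinearGroup.transvection_coe, h] at this
  have h01 : (0 : Fin 2) ≠ 1 := by decide
  obtain ⟨u, hu⟩ := Cx.exists_move (hne h01)
  obtain ⟨u', hu'⟩ := Cx.exists_move (hne h01.symm)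
  have k := fun a => c.inv2 h2 (hz h01 1) (hz h01 a) (by rw [hc, hc, add_comm]) hu
  have k' := fun a => c.inv2 h2 (hz h01.symm 1) (hz h01.symm a) (by rw [hc, hc, add_comm]) hu'
  have i1 := c.iso2 h2 (hz h01 1) u u
  have i2 := c.iso2 h2 (hz h01.symm 1) u' u'
  generalize φ (SpecialLinearGroup.transvection h01 1) • u - u = v at *
  generalize φ (SpecialLinearGroup.transvection h01.symm 1) • u' - u' = v' at *
  have hvv : hf θ v v' ≠ 0 := fun h => by
    have : φ (SpecialLinearGroup.transvection h01 1) * φ (SpecialLinearGroup.transvection h01.symm 1) =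
        φ (SpecialLinearGroup.transvection h01.symm 1) * φ (SpecialLinearGroup.transvection h01 1) :=
      su_ext fun y => by
        obtain ⟨a, ha⟩ := (k 1).1 (ee F y)
        obtain ⟨a', ha'⟩ := (k' 1).1 (ee F y)
        have e1 := (k 1).2 _ (show hf θ (a' • v') v = 0 by rw [hf_smul_left, c.perp h, mul_zero])
        have e2 := (k' 1).2 _ (show hf θ (a • v) v' = 0 by rw [hf_smul_left, h, mul_zero])
        rw [← ha', smul_sub, sub_eq_iff_eq_add] at e1
        rw [← ha, smul_sub, sub_eq_iff_eq_add] at e2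
        rw [mul_smul, mul_smul, e1, e2]; abel
    rw [← map_mul, ← map_mul] at this
    have := congrFun (congrFun (congrArg Subtype.val (hφ this)) 0) 0
    simp [SpecialLinearGroup.transvection_coe, Matrix.mul_apply, Fin.sum_univ_two] at this
  have hvv' : hf θ v' v ≠ 0 := fun h => hvv (c.perp h)
  refine ⟨![θ (v 1 * v' 2 - v 2 * v' 1), θ (v 2 * v' 0 - v 0 * v' 2), θ (v 0 * v' 1 - v 1 * v' 0)], fun h => ?_,
    SL2.transvection_induction _ (fun i j h a => ?_) fun A B hA hB => by rw [map_mul, mul_smul, hB, hA]⟩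
  · refine mul_ne_zero hvv hvv' ?_
    simp only [hf, Fin.sum_univ_three, cons_val_zero, cons_val_one, Matrix.cons_val, c.inv, map_sub, map_mul] at h i1 i2 ⊢
    linear_combination (v' 0 * θ (v' 0) + v' 1 * θ (v' 1) + v' 2 * θ (v' 2)) * i1 - h
  · obtain ⟨rfl, rfl⟩ | ⟨rfl, rfl⟩ : (i = 0 ∧ j = 1) ∨ (i = 1 ∧ j = 0) := by revert i j; decide
    · refine (k a).2 _ ?_
      simp only [hf, Fin.sum_univ_three, cons_val_zero, cons_val_one, Matrix.cons_val, map_sub, map_mul]; ring
    · refine (k' a).2 _ ?_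
      simp only [hf, Fin.sum_univ_three, cons_val_zero, cons_val_one, Matrix.cons_val, map_sub, map_mul]; ring

theorem to_e2 {x : Fin 3 → F} (h : hf θ x x = 1) : ∃ g : SU 3 F q, g • ee F (2 : Fin 3) = x :=
  let ⟨g, _, hg⟩ := c.trans1 (S := univ) (mem_univ 2) (mem_univ 0) (by decide) h fun _ h => absurd (mem_univ _) h
  ⟨g, hg⟩

theorem fix_line {d g : SU 3 F q} (h1 : d ≠ 1) (h2 : d ^ (q + 1) = 1) (h3 : d • g • ee F (2 : Fin 3) = g • ee F (2 : Fin 3))
    {w : Fin 3 → F} (hw : d • w = w) : ∃ a : F, w = a • g • ee F (2 : Fin 3) := by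
  obtain ⟨s, hs⟩ := (c.mem_E0 (g := g⁻¹ * d * g)).2 (by rw [mul_smul, mul_smul, h3, inv_smul_smul])
  have e2 : c.E0 s • (g⁻¹ • w) = g⁻¹ • w := by rw [hs, mul_smul, mul_smul, smul_inv_smul, hw]
  refine ⟨(g⁻¹ • w) 2, ?_⟩
  rw [← smul_comm, ← inv_smul_eq_iff]
  generalize g⁻¹ • w = t at e2
  rw [smul_eq, c.E0_eq] at e2
  have f0 := congrFun e2 0
  have f1 := congrFun e2 1
  simp [mulVec, dotProduct, Fin.sum_univ_three] at f0 f1
  have d1 : (mt s).det = 1 := s.1.2
  rw [det_fin_two] at d1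
  by_cases ht : mt s 0 0 + mt s 1 1 - 2 = 0
  · have hN : (mt s - 1) * (mt s - 1) = 0 := by
      ext i j; fin_cases i <;> fin_cases j <;> simp [Matrix.mul_apply, Fin.sum_univ_two]
      · linear_combination mt s 0 0 * ht - d1
      · linear_combination mt s 0 1 * ht
      · linear_combination mt s 1 0 * ht
      · linear_combination mt s 1 1 * ht - d1
    have hp : ∀ k : ℕ, mt (s ^ k) = 1 + (k : F) • (mt s - 1) := fun k => by
      induction k with
      | zero => simp [mt]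
      | succ k ih =>
        rw [pow_succ, mt_mul, ih]
        calc _ = 1 + ((k : F) + 1) • (mt s - 1) + (k : F) • ((mt s - 1) * (mt s - 1)) := by
              simp only [add_mul, mul_sub, sub_mul, Matrix.smul_mul, smul_sub, add_smul, one_smul, Matrix.one_mul,
                Matrix.mul_one]
              abel
          _ = _ := by rw [hN, smul_zero, add_zero, Nat.cast_succ]
    have hq : (q : F) = 0 := by
      have := FiniteField.cast_card_eq_zero F
      rw [c.card, Nat.cast_pow] at this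
      exact pow_eq_zero_iff two_ne_zero |>.1 this
    have s1 : s ^ (q + 1) = 1 := c.emb_inj _ (by
      rw [map_pow, map_one]; erw [hs]
      rw [show g⁻¹ * d * g = g⁻¹ * d * g⁻¹⁻¹ by rw [inv_inv], conj_pow, h2]; group)
    have s2 := hp (q + 1)
    rw [s1, Nat.cast_succ, hq, zero_add, one_smul, add_sub_cancel] at s2
    rw [← su_ext' s2, map_one] at hs
    refine absurd ?_ h1
    calc d = g * (g⁻¹ * d * g) * g⁻¹ := by group
      _ = 1 := by rw [← hs]; group
  · ext i
    fin_cases i <;> simp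
    · exact (mul_eq_zero.1 (by linear_combination t 0 * d1 - (mt s 1 1 - 1) * f0 + mt s 0 1 * f1)).resolve_left ht
    · exact (mul_eq_zero.1 (by linear_combination t 1 * d1 - (mt s 0 0 - 1) * f1 + mt s 1 0 * f0)).resolve_left ht

end Cy

end Cfsg.Agent.H28.Ph
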