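import Cfsg.Agent.H28.PhanB5

/-! Automorphisms of `SU₃(q)` preserving the standard pair; assembling level three amalgams. -/

set_option autoImplicit false
set_option linter.unusedSectionVars false

namespace Cfsg.Agent.H28.Ph

open Matrix Finset
open scoped MatrixGroups Classical commutatorElement

variable {F : Type*} [Field F] [Fintype F] {q n m : ℕ} {θ : F ≃+* F} {G : Type*} [Group G]

theorem exists_aut {H : Type*} [Group H] {α β : H →* G} (ha : Function.Injective α) (hb : Function.Injective β)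
    (h : β.range = α.range) : ∃ δ : MulAut H, ∀ s, α (δ s) = β s :=
  ⟨(MonoidHom.ofInjective hb).trans ((MulEquiv.subgroupCongr h).trans (MonoidHom.ofInjective ha).symm), fun s =>
    MonoidHom.apply_ofInjective_symm ha (MulEquiv.subgroupCongr h (MonoidHom.ofInjective hb s))⟩

theorem smul_ee (g : SU n F q) (i j : Fin n) : (g • ee F j) i = mt g i j := by simp [smul_eq]

namespace Cy
variable (c : Cy q θ)
include c

theorem sup_E (h : q = 3) : c.E0.range ⊔ c.E1.range = ⊤ :=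
  top_le_iff.1 fun g _ => ((c.gen3 h (T := univ) (p := 2) (d := 1) (b := 0) (mem_univ _) (mem_univ _) (mem_univ _)
    (by decide) (by decide) (by decide)).trans (sup_le_sup (fun g hg => c.mem_E0.2 (Blk_fix hg))
      (fun g hg => c.mem_E1.2 (hg 0 (by decide))))) fun i hi => absurd (mem_univ _) hi

theorem E1_ww : c.E1 c.ww • ee F (2 : Fin 3) = ee F 1 := by
  ext i; rw [smul_ee, c.E1_eq]; fin_cases i <;> simp [c.mt_ww]

theorem exists_T (h : q = 2) : ∃ T : SU 3 F q, T ^ 4 = 1 ∧ ∀ i, mt T i 2 = 1 := by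
  obtain ⟨μ, h1, h2, -⟩ := c.exists_nm_one
  have h3 := c.two_zero h
  have h4 : θ μ = μ ^ 2 := by rw [c.pow, h]
  have h5 : μ ^ 2 + μ + 1 = 0 := by
    rw [nm, h4] at h1
    exact (mul_eq_zero.1 (by linear_combination h1)).resolve_left (sub_ne_zero.2 h2)
  let T : SU 3 F q := ⟨⟨!![μ ^ 2, μ, 1; μ, μ ^ 2, 1; 1, 1, 1], by
    simp [det_fin_three]; grind⟩, (mem_SU_iff c.pow).2 (by
      ext i j
      fin_cases i <;> fin_cases j <;> simp [cT, Matrix.mul_apply, Fin.sum_univ_three, h4] <;> grind)⟩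
  have e : mt (T * T) = !![0, 1, 0; 1, 0, 0; 0, 0, 1] := by
    rw [mt_mul]
    ext i j
    fin_cases i <;> fin_cases j <;> simp [T, mt, Matrix.mul_apply, Fin.sum_univ_three] <;> grind
  refine ⟨T, su_ext' ?_, fun i => by fin_cases i <;> rfl⟩
  rw [show T ^ 4 = T * T * (T * T) by simp [pow_succ, mul_assoc], mt_mul, e]
  ext i j
  fin_cases i <;> fin_cases j <;> simp [mt, Matrix.mul_apply, Fin.sum_univ_three]

theorem gen_four (h : q = 2) (K : Subgroup (SU 3 F q)) (hK : ∀ g, g ^ 4 = 1 → g ∈ K) (g : SU 3 F q) : g ∈ K := by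
  have k : ∀ φ : SU 2 F q →* SU 3 F q, φ.range ≤ K := fun φ => by
    rintro _ ⟨s, rfl⟩
    refine c.su2_ind (fun s => φ s ∈ K) (fun s hs => hK _ ?_) (fun s t hs ht => map_mul φ s t ▸ mul_mem hs ht) s
    rw [← map_pow, show 4 = q * 2 by rw [h], pow_mul, hs, one_pow, map_one]
  have hu : hf θ (g • ee F (2 : Fin 3)) (g • ee F (2 : Fin 3)) = 1 := (c.map _ _ _).trans (hf_ee _)
  suffices ∃ k ∈ K, k • ee F (2 : Fin 3) = g • ee F 2 by
    obtain ⟨t, t1, t2⟩ := this
    simpa using mul_mem t1 (k _ ((c.mem_E0 (g := t⁻¹ * g)).2 (by rw [mul_smul, ← t2, inv_smul_smul])))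
  generalize g • ee F (2 : Fin 3) = u at hu
  by_cases h0 : u 0 = 0
  · obtain ⟨t, t1, t2⟩ := c.trans1 (S := {1, 2}) (i := 2) (j := 1) (by simp) (by simp) (by decide) hu fun k hk => by
      obtain rfl : k = 0 := by revert k; decide
      exact h0
    exact ⟨t, k _ (c.mem_E1.2 (t1 0 (by decide))), t2⟩
  by_cases h2 : u 2 = 0
  · obtain ⟨t, t1, t2⟩ := c.trans1 (S := {0, 1}) (i := 1) (j := 0) (by simp) (by simp) (by decide) hu fun k hk => by
      obtain rfl : k = 2 := by revert k; decide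
      exact h2
    exact ⟨t * c.E1 c.ww, mul_mem (k _ (c.mem_E0.2 (t1 2 (by decide)))) (k _ ⟨_, rfl⟩), by rw [mul_smul, c.E1_ww, t2]⟩
  have n0 := (c.nm01 h _).resolve_left h0
  have n2 := (c.nm01 h _).resolve_left h2
  have n1 : nm θ (u 1) = 1 := by
    simp only [hf, Fin.sum_univ_three, nm] at hu n0 n2 ⊢
    linear_combination hu - n0 - n2 - c.two_zero h
  obtain ⟨T, T1, T2⟩ := c.exists_T h
  have hv : ∀ i, nm θ (![u 0, u 2 * u 1, 1] i) = 1 := fun i => by
    fin_cases i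
    · exact n0
    · simp [nm_mul, n1, n2]
    · simp [nm]
  refine ⟨c.E1 (c.dd (θ (u 2)) ((c.nm_conj _).trans n2)) * c.tw 1 _ hv T,
    mul_mem (k _ ⟨_, rfl⟩) (hK _ (by rw [← map_pow, T1, map_one])), funext fun i => ?_⟩
  rw [smul_ee, mt_mul, c.E1_eq]
  unfold nm at n2
  fin_cases i <;> simp [Matrix.mul_apply, Fin.sum_univ_three, c.tw_apply, T2, c.mt_dd, c.inv]
  linear_combination u 1 * n2

theorem central_of {u : SU 3 F q} (h0 : ∀ s, u * c.E0 s = c.E0 s * u) (h1 : ∀ s, u * c.E1 s = c.E1 s * u) :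
    u ∈ Subgroup.center _ := by
  obtain ⟨a, ha, a1, a2⟩ := c.exists_nm_one
  have a3 : θ a ≠ 1 := fun e => a1 (by rw [← c.inv a, e, map_one])
  have a4 : a ≠ θ a := fun e => by
    rw [nm, ← e] at ha
    exact (mul_self_eq_one_iff.1 ha).elim a1 a2
  have e := congrArg mt (h0 (c.dd a ha))
  have e' := congrArg mt (h0 c.ww)
  have e'' := congrArg mt (h1 c.ww)
  rw [mt_mul, mt_mul, c.E0_eq] at e e'
  rw [mt_mul, mt_mul, c.E1_eq] at e''
  have e1 := congrFun (congrFun e 0) 1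
  have e2 := congrFun (congrFun e 0) 2
  have e3 := congrFun (congrFun e 1) 0
  have e4 := congrFun (congrFun e 1) 2
  have e5 := congrFun (congrFun e 2) 0
  have e6 := congrFun (congrFun e 2) 1
  have e7 := congrFun (congrFun e' 0) 1
  have e8 := congrFun (congrFun e'' 1) 2
  simp [Matrix.mul_apply, Fin.sum_univ_three, c.mt_ww, c.mt_dd] at e1 e2 e3 e4 e5 e6 e7 e8
  have : mt u = mt u 0 0 • (1 : Matrix (Fin 3) (Fin 3) F) := by
    ext i j
    fin_cases i <;> fin_cases j <;> simp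
    · exact (mul_eq_zero.1 (by linear_combination -e1)).resolve_left (sub_ne_zero.2 a4)
    · exact (mul_eq_zero.1 (by linear_combination -e2)).resolve_left (sub_ne_zero.2 a1)
    · exact (mul_eq_zero.1 (by linear_combination e3)).resolve_left (sub_ne_zero.2 a4)
    · exact e7.symm
    · exact (mul_eq_zero.1 (by linear_combination -e4)).resolve_left (sub_ne_zero.2 a3)
    · exact (mul_eq_zero.1 (by linear_combination e5)).resolve_left (sub_ne_zero.2 a1)
    · exact (mul_eq_zero.1 (by linear_combination e6)).resolve_left (sub_ne_zero.2 a3)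
    · exact (e7.trans e8).symm
  exact Subgroup.mem_center_iff.2 fun g => su_ext' (by rw [mt_mul, mt_mul, this]; simp)

theorem rigid (δ : SU 3 F q →* SU 3 F q) (h0 : ∀ s, δ (c.E0 s) = c.E0 s) (h1 : ∀ s, δ (c.E1 s) = c.E1 s)
    (x : SU 3 F q) : δ x = x := by
  have k0 : c.E0.range ≤ (MonoidHom.id _).eqLocus δ := by rintro _ ⟨s, rfl⟩; exact (h0 s).symm
  have k1 : c.E1.range ≤ (MonoidHom.id _).eqLocus δ := by rintro _ ⟨s, rfl⟩; exact (h1 s).symm
  rcases c.sm with h | h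
  swap
  · exact (sup_le k0 k1 (c.sup_E h ▸ Subgroup.mem_top x)).symm
  have h2 := c.two_zero h
  have k2 : ∀ t : SU 3 F q, t * t = 1 → δ t = t := fun t ht => by
    by_cases e : t = 1
    · rw [e, map_one]
    obtain ⟨u, hu⟩ := Cx.exists_move e
    have i1 := c.iso2 h2 ht u u
    have i2 := (c.inv2 h2 ht ht rfl hu).2
    generalize t • u - u = v at i1 i2
    have i3 : ∀ k, v k = 0 → t • ee F k = ee F k := fun k hk => i2 _ (by rw [hf_ee_left, hk, map_zero])
    rcases c.nm01 h (v 0) with a0 | a0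
    · exact (k1 (c.mem_E1.2 (i3 0 a0))).symm
    rcases c.nm01 h (v 2) with a2 | a2
    · exact (k0 (c.mem_E0.2 (i3 2 a2))).symm
    rcases c.nm01 h (v 1) with a1 | a1
    · have := mul_mem (mul_mem (k1 ⟨c.ww, rfl⟩) (k0 ((c.mem_E0 (g := (c.E1 c.ww)⁻¹ * t * c.E1 c.ww)).2 (by
        rw [mul_smul, mul_smul, c.E1_ww, i3 1 a1, ← c.E1_ww, inv_smul_smul])))) (inv_mem (k1 ⟨c.ww, rfl⟩))
      rw [show c.E1 c.ww * ((c.E1 c.ww)⁻¹ * t * c.E1 c.ww) * (c.E1 c.ww)⁻¹ = t by group] at this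
      exact this.symm
    · simp only [hf, Fin.sum_univ_three, nm] at i1 a0 a1 a2
      exact absurd (by linear_combination a0 + a1 + a2 - i1 + h2) (one_ne_zero (α := F)).symm
  have k3 : ∀ x, ((MonoidHom.id _) x)⁻¹ * δ x ∈ Subgroup.center _ := fun x => by
    have k4 : ∀ φ : SU 2 F q →* SU 3 F q, ∀ s, x⁻¹ * δ x * φ s = φ s * (x⁻¹ * δ x) := fun φ =>
      c.su2_ind (fun s => Commute (x⁻¹ * δ x) (φ s)) (fun s hs => by
        have e : φ s * φ s = 1 := by rw [← map_mul, ← pow_two, show s ^ 2 = s ^ q from congrArg (s ^ ·) h.symm, hs, map_one]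
        have := k2 (x * φ s * x⁻¹) (by rw [← pow_two, conj_pow, pow_two, e]; group)
        rw [map_mul, map_mul, map_inv, k2 _ e] at this
        calc _ = x⁻¹ * (δ x * φ s * (δ x)⁻¹) * δ x := by group
          _ = _ := by rw [this]; group) fun s t hs ht => map_mul φ s t ▸ hs.mul_right ht
    exact c.central_of (k4 _) (k4 _)
  refine (c.gen_four h ((MonoidHom.id _).eqLocus δ) (fun g hg => inv_mul_eq_one.1 ?_) x).symm
  have e1 := pow_mod (k3 g) hg
  have e2 := c.center_pow (by omega) (k3 g)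
  rw [show Nat.gcd 3 (q + 1) = 3 by rw [h]; rfl] at e2
  rwa [pow_succ, e2, one_mul] at e1

theorem aut_cases (σ : F ≃+* F) : σ = 1 ∨ σ = θ := by
  have : Fact q.Prime := ⟨by rcases c.sm with h | h <;> rw [h] <;> decide⟩
  obtain ⟨y, -, hy⟩ := (Nat.card_eq_two_iff' (1 : F ≃+* F)).1 (card_ringAut c.card)
  have : θ ≠ 1 := fun e => by simpa [e] using c.ord
  exact or_iff_not_imp_left.2 fun h => (hy σ h).trans (hy θ this).symm

theorem tw_Blk (τ : F ≃+* F) (v : Fin n → F) (hv : ∀ i, nm θ (v i) = 1) {S : Finset (Fin n)} {g : SU n F q}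
    (hg : g ∈ Blk F q S) : c.tw τ v hv g ∈ Blk F q S := fun k hk => funext fun i => by
  rw [smul_ee, c.tw_apply, ← smul_ee, hg k hk]
  by_cases e : i = k
  · simpa [e, nm] using hv k
  · simp [e]

theorem map_tw (τ : F ≃+* F) (v : Fin n → F) (hv : ∀ i, nm θ (v i) = 1) (S : Finset (Fin n)) :
    (Blk F q S).map (c.tw τ v hv) = Blk F q S :=
  Subgroup.eq_of_le_of_card_ge (by rintro _ ⟨g, hg, rfl⟩; exact c.tw_Blk τ v hv hg)
    (Subgroup.card_map_of_injective (c.tw_bij τ v hv).1).ge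

theorem emb_apply {j : Fin m → Fin n} (hj : Function.Injective j) (s : SU m F q) (a b : Fin m) :
    mt (c.emb hj s) (j a) (j b) = mt s a b := by
  rw [← smul_ee, c.emb_ee, Pm_apply hj, smul_ee]

theorem tw_emb {j : Fin m → Fin n} (hj : Function.Injective j) (τ : F ≃+* F) {v : Fin n → F} (hv : ∀ i, nm θ (v i) = 1)
    {v' : Fin m → F} (hv' : ∀ i, nm θ (v' i) = 1) (h : ∀ a b, v (j a) * θ (v (j b)) = v' a * θ (v' b)) (s : SU m F q) :
    c.tw τ v hv (c.emb hj s) = c.emb hj (c.tw τ v' hv' s) := by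
  obtain ⟨s', e⟩ := c.exists_emb hj (c.tw_Blk τ v hv (c.emb_mem hj s))
  rw [← e]
  refine congrArg _ (su_ext' (Matrix.ext fun a b => ?_))
  rw [← c.emb_apply hj, e, c.tw_apply, c.tw_apply, c.emb_apply]
  linear_combination τ (mt s a b) * h a b

theorem dd_E0 {a : F} (ha : nm θ a = 1) (s : SU 2 F q) :
    c.E1 (c.dd a ha) * c.E0 s = c.E0 (c.tw 1 ![θ a, 1] (c.nm_two ((c.nm_conj a).trans ha)) s) * c.E1 (c.dd a ha) := by
  refine su_ext' ?_
  rw [mt_mul, mt_mul, c.E1_eq, c.E0_eq, c.E0_eq]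
  simp only [c.tw_apply, mt_dd]
  unfold nm at ha
  ext i j
  fin_cases i <;> fin_cases j <;> simp [Matrix.mul_apply, Fin.sum_univ_three, c.inv]
  · linear_combination -(mt s 0 0) * ha
  · linear_combination -(mt s 0 1) * ha
  · ring
  · ring

theorem aut2_dd (δ : MulAut (SU 2 F q)) {a : F} (ha : nm θ a = 1) (a1 : a ≠ 1) (a2 : a ≠ -1)
    (h : mt (δ (c.dd a ha)) 0 1 = 0 ∨ mt (δ (c.dd a ha)) 1 0 = 0) :
    ∃ (τ : F ≃+* F) (b : F) (hb : nm θ b = 1), ∀ s, δ s = c.tw τ ![b, 1] (c.nm_two hb) s := by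
  obtain ⟨s1, s2, s3, s4⟩ := c.su2 (δ (c.dd a ha))
  have h1 : mt (δ (c.dd a ha)) 0 1 = 0 := h.elim id fun h => by rw [h] at s2; simpa using s2
  have h2 : mt (δ (c.dd a ha)) 1 0 = 0 := by rw [h1] at s3; simpa using s3
  refine c.aut2_diag δ (x := c.dd a ha) rfl rfl h1 h2 fun e => ?_
  have d : (mt (δ (c.dd a ha))).det = 1 := (δ _).1.2
  rw [det_fin_two, h1, ← e] at d
  have : δ (c.dd a ha * c.dd a ha) = 1 := su_ext' (by
    rw [map_mul, mt_mul, eta_fin_two (mt (δ _)), h1, h2, ← e, mul_fin_two]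
    ext i j; fin_cases i <;> fin_cases j <;> simp [mt] <;> simpa using d)
  have := congrFun (congrFun (congrArg mt ((map_eq_one_iff δ δ.injective).1 this)) 0) 0
  rw [mt_mul, c.mt_dd, mul_fin_two] at this
  exact (mul_self_eq_one_iff.1 (by simpa [mt] using this)).elim a1 a2

theorem aut3 (δ : MulAut (SU 3 F q)) (h0 : (δ.toMonoidHom.comp c.E0).range = c.E0.range)
    (h1 : (δ.toMonoidHom.comp c.E1).range = c.E1.range) :
    ∃ (τ : F ≃+* F) (v : Fin 3 → F) (hv : ∀ i, nm θ (v i) = 1), ∀ s, δ s = c.tw τ v hv s := by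
  obtain ⟨δ0, e0⟩ := exists_aut (c.emb_inj _) (δ.injective.comp (c.emb_inj _)) h0
  obtain ⟨δ1, e1⟩ := exists_aut (c.emb_inj _) (δ.injective.comp (c.emb_inj _)) h1
  replace e0 : ∀ s, δ (c.E0 s) = c.E0 (δ0 s) := fun s => (e0 s).symm
  replace e1 : ∀ s, δ (c.E1 s) = c.E1 (δ1 s) := fun s => (e1 s).symm
  obtain ⟨a, ha, a1, a2⟩ := c.exists_nm_one
  have k0 := fun s => congrArg mt (congrArg δ (c.dd_E1 ha s))
  have k1 := fun s => congrArg mt (congrArg δ (c.dd_E0 ha s))
  simp only [map_mul, e0, e1, mt_mul, c.E0_eq, c.E1_eq] at k0 k1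
  have hs := (c.tw_bij 1 ![θ a, 1] (c.nm_two ((c.nm_conj a).trans ha))).2
  obtain ⟨τ, b, hb, f0⟩ := c.aut2_dd δ0 ha a1 a2 (Or.inr (by
    obtain ⟨s, e⟩ := (δ1.surjective.comp hs) c.ww
    have := congrFun (congrFun (k0 s) 2) 0
    rw [show δ1 _ = c.ww from e] at this
    simpa [Matrix.mul_apply, Fin.sum_univ_three, c.mt_ww] using this))
  obtain ⟨τ', b', hb', f1⟩ := c.aut2_dd δ1 ha a1 a2 (Or.inl (by
    obtain ⟨s, e⟩ := (δ0.surjective.comp hs) c.ww
    have := congrFun (congrFun (k1 s) 0) 2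
    rw [show δ0 _ = c.ww from e] at this
    simpa [Matrix.mul_apply, Fin.sum_univ_three, c.mt_ww] using this.symm))
  obtain rfl : τ = τ' := by
    have := congrFun (congrFun (k0 c.ww) 2) 1
    have b0 : b' ≠ 0 := by rintro rfl; simp at hb'
    simp [Matrix.mul_apply, Fin.sum_univ_three, c.mt_ww, f0, f1, c.tw_apply, c.mt_dd, c.inv, mul_assoc] at this
    have e : τ' a = τ a := by
      have h2 := congrArg τ ha
      rw [nm, map_mul, map_one] at h2
      exact mul_left_cancel₀ ((map_ne_zero θ).2 b0) (by linear_combination -(τ a) * this - (τ' a) * (θ b') * h2)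
    have : τ⁻¹ * τ' ≠ θ := fun e' => by
      have : θ a = a := by rw [← e', RingAut.mul_apply, e]; exact τ.symm_apply_apply a
      rw [nm, this] at ha
      exact (mul_self_eq_one_iff.1 ha).elim a1 a2
    exact inv_mul_eq_one.1 ((c.aut_cases _).resolve_right this)
  have hv : ∀ i, nm θ (![b * b', b', 1] i) = 1 := fun i => by
    fin_cases i
    · simp [nm_mul, hb, hb']
    · exact hb'
    · simp [nm]
  let ε := MulEquiv.ofBijective _ (c.tw_bij τ _ hv)
  refine ⟨τ, _, hv, fun s => ε.symm_apply_eq.1 (c.rigid (ε.symm.toMonoidHom.comp δ.toMonoidHom)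
    (fun s => ε.symm_apply_eq.2 ?_) (fun s => ε.symm_apply_eq.2 ?_) s)⟩
  · refine (e0 s).trans ((congrArg _ (f0 s)).trans (c.tw_emb _ τ hv _ (fun i j => ?_) s).symm)
    unfold nm at hb'
    fin_cases i <;> fin_cases j <;> simp [sh]
    · linear_combination b * θ b * hb'
    · linear_combination b * hb'
    · linear_combination θ b * hb'
    · exact hb'
  · refine (e1 s).trans ((congrArg _ (f1 s)).trans (c.tw_emb _ τ hv _ (fun i j => ?_) s).symm)
    fin_cases i <;> fin_cases j <;> rfl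

end Cy

end Cfsg.Agent.H28.Ph
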