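import Cfsg.Agent.H28.PhanB6

/-! Standard triples and the assembly of level three amalgams. -/

set_option autoImplicit false
set_option linter.unusedSectionVars false

namespace Cfsg.Agent.H28.Ph

open Matrix Finset
open scoped MatrixGroups Classical commutatorElement

variable {F : Type*} [Field F] [Fintype F] {q n m : ℕ} {θ : F ≃+* F} {G : Type*} [Group G]

/-- standard maps of level three -/
structure St4 (ρ : SU 4 F q →* G) (A B C V V' : Subgroup G) : Prop where
  ker : ∀ x, ρ x = 1 → x ∈ Subgroup.center _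
  h0 : (Blk F q {0, 1}).map ρ = A
  h1 : (Blk F q {1, 2}).map ρ = B
  h2 : (Blk F q {2, 3}).map ρ = C
  v0 : (Blk F q {0, 1, 2}).map ρ = V
  v1 : (Blk F q {1, 2, 3}).map ρ = V'

namespace Cy
variable (c : Cy q θ)

theorem F0_range : c.F0.range = Blk F q {0, 1, 2} := (c.emb_range _).trans (congrArg _ (by decide))
theorem F1_range : c.F1.range = Blk F q {1, 2, 3} := (c.emb_range _).trans (congrArg _ (by decide))

theorem comp_range {l : ℕ} {j : Fin m → Fin n} (hj : Function.Injective j) {k : Fin l → Fin m}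
    (hk : Function.Injective k) : ((c.emb hj).comp (c.emb hk)).range = Blk F q (univ.image (j ∘ k)) := by
  rw [← c.emb_range (hj.comp hk)]
  congr 1
  exact MonoidHom.ext fun g => c.emb_emb hj hk _ (fun _ => rfl) g

theorem F0E0 : (c.F0.comp c.E0).range = Blk F q {0, 1} := (c.comp_range _ _).trans (congrArg _ (by decide))
theorem F0E1 : (c.F0.comp c.E1).range = Blk F q {1, 2} := (c.comp_range _ _).trans (congrArg _ (by decide))
theorem F1E0 : (c.F1.comp c.E0).range = Blk F q {1, 2} := (c.comp_range _ _).trans (congrArg _ (by decide))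
theorem F1E1 : (c.F1.comp c.E1).range = Blk F q {2, 3} := (c.comp_range _ _).trans (congrArg _ (by decide))

end Cy

namespace St4
variable (c : Cy q θ) {ρ ρ' : SU 4 F q →* G} {A B C D V V' V'' : Subgroup G}

theorem inj0 (h : St4 ρ A B C V V') : Function.Injective (ρ.comp c.F0) :=
  (injective_iff_map_eq_one _).2 fun s hs => c.emb_inj _
    ((c.center_fix (by omega) (h.ker _ hs) (c.emb_mem _ s 3 (by decide))).trans (map_one _).symm)

theorem inj1 (h : St4 ρ A B C V V') : Function.Injective (ρ.comp c.F1) :=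
  (injective_iff_map_eq_one _).2 fun s hs => c.emb_inj _
    ((c.center_fix (by omega) (h.ker _ hs) (c.emb_mem _ s 0 (by decide))).trans (map_one _).symm)

theorem r0 (h : St4 ρ A B C V V') : (ρ.comp c.F0).range = V ∧ ((ρ.comp c.F0).comp c.E0).range = A ∧
    ((ρ.comp c.F0).comp c.E1).range = B :=
  ⟨by rw [MonoidHom.range_comp, c.F0_range, h.v0], by rw [MonoidHom.comp_assoc, MonoidHom.range_comp, c.F0E0, h.h0],
    by rw [MonoidHom.comp_assoc, MonoidHom.range_comp, c.F0E1, h.h1]⟩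

theorem r1 (h : St4 ρ A B C V V') : (ρ.comp c.F1).range = V' ∧ ((ρ.comp c.F1).comp c.E0).range = B ∧
    ((ρ.comp c.F1).comp c.E1).range = C :=
  ⟨by rw [MonoidHom.range_comp, c.F1_range, h.v1], by rw [MonoidHom.comp_assoc, MonoidHom.range_comp, c.F1E0, h.h1],
    by rw [MonoidHom.comp_assoc, MonoidHom.range_comp, c.F1E1, h.h2]⟩

theorem step (h : St4 ρ A B C V V') (h' : St4 ρ' B C D V' V'') :
    ∃ φ, St4 φ B C D V' V'' ∧ ∀ s, φ (c.F0 s) = ρ (c.F1 s) := by
  obtain ⟨δ, hδ⟩ := exists_aut (h'.inj0 c) (h.inj1 c) ((h.r1 c).1.trans (h'.r0 c).1.symm)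
  have e : (ρ'.comp c.F0).comp δ.toMonoidHom = ρ.comp c.F1 := MonoidHom.ext hδ
  obtain ⟨τ, v, hv, h1⟩ := c.aut3 δ
    (Subgroup.map_injective (h'.inj0 c) (by
      rw [← MonoidHom.range_comp, ← MonoidHom.range_comp, ← MonoidHom.comp_assoc, e, (h.r1 c).2.1, (h'.r0 c).2.1]))
    (Subgroup.map_injective (h'.inj0 c) (by
      rw [← MonoidHom.range_comp, ← MonoidHom.range_comp, ← MonoidHom.comp_assoc, e, (h.r1 c).2.2, (h'.r0 c).2.2]))
  have hv' : ∀ i, nm θ (![v 0, v 1, v 2, 1] i) = 1 := fun i => by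
    fin_cases i
    exacts [hv 0, hv 1, hv 2, by simp [nm]]
  have k : ∀ S, (Blk F q S).map (ρ'.comp (c.tw τ _ hv')) = (Blk F q S).map ρ' := fun S => by
    rw [← Subgroup.map_map, c.map_tw]
  refine ⟨ρ'.comp (c.tw τ _ hv'), ⟨fun y hy => Subgroup.mem_center_iff.2 fun g => (c.tw_bij τ _ hv').1 ?_,
    (k _).trans h'.h0, (k _).trans h'.h1, (k _).trans h'.h2, (k _).trans h'.v0, (k _).trans h'.v1⟩, fun s => ?_⟩
  · rw [map_mul, map_mul]; exact Subgroup.mem_center_iff.1 (h'.ker _ hy) _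
  · rw [MonoidHom.comp_apply, c.tw_emb _ τ hv' hv (fun i j => by fin_cases i <;> fin_cases j <;> rfl), ← h1]
    exact hδ s

end St4

theorem Cy.phan_nat (c : Cy q θ) (hn : 3 ≤ n) (U V : ℕ → Subgroup G)
    (h0 : ∀ i, i + 2 < n → ∃ ρ : SU 4 F q →* G, St4 ρ (U i) (U (i + 1)) (U (i + 2)) (V i) (V (i + 1)))
    (h4 : ∀ i j, i + 3 ≤ j → j < n → ∀ x ∈ V i, ∀ y ∈ U j, x * y = y * x)
    (h5 : ∀ i j, i + 2 ≤ j → j + 1 < n → ∀ x ∈ U i, ∀ y ∈ V j, x * y = y * x)
    (h6 : ∀ i j, i + 3 ≤ j → j + 1 < n → ∀ x ∈ V i, ∀ y ∈ V j, x * y = y * x) :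
    ∃ f : SU (n + 1) F q →* G, ∀ i, i + 1 < n → V i ≤ f.range := by
  have st : ∀ (i : ℕ) (ρ : SU 4 F q →* G), ∃ φ : SU 4 F q →* G, i + 3 < n →
      St4 ρ (U i) (U (i + 1)) (U (i + 2)) (V i) (V (i + 1)) →
      St4 φ (U (i + 1)) (U (i + 2)) (U (i + 3)) (V (i + 1)) (V (i + 2)) ∧ ∀ s, φ (c.F0 s) = ρ (c.F1 s) := fun i ρ => by
    by_cases h : i + 3 < n ∧ St4 ρ (U i) (U (i + 1)) (U (i + 2)) (V i) (V (i + 1))
    · obtain ⟨ρ', h'⟩ := h0 (i + 1) h.1
      obtain ⟨φ, hφ⟩ := h.2.step c h'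
      exact ⟨φ, fun _ _ => hφ⟩
    · exact ⟨ρ, fun a b => absurd ⟨a, b⟩ h⟩
  choose nx hnx using st
  obtain ⟨ρ, hρ⟩ := h0 0 (by omega)
  let R : ℕ → SU 4 F q →* G := Nat.rec ρ nx
  have hR : ∀ i, i + 2 < n → St4 (R i) (U i) (U (i + 1)) (U (i + 2)) (V i) (V (i + 1)) := fun i => by
    induction i with
    | zero => exact fun _ => hρ
    | succ i ih => exact fun h => (hnx i _ h (ih (by omega))).1
  let Φ : ℕ → SU 3 F q →* G := fun i => Nat.casesOn i (ρ.comp c.F0) fun i => (R i).comp c.F1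
  have hΦ : ∀ i, i + 1 < n → (Φ i).range = V i ∧ ((Φ i).comp c.E0).range = U i ∧
      ((Φ i).comp c.E1).range = U (i + 1) := fun i hi => by
    cases i with
    | zero => exact hρ.r0 c
    | succ i => exact (hR i hi).r1 c
  obtain ⟨f, hf⟩ := c.universal (n := n + 1) (by omega) R Φ (fun i hi s => by
    cases i with
    | zero => rfl
    | succ i => exact (hnx i _ (by omega) (hR i (by omega))).2 s) (fun i _ s => rfl)
    (fun i j hij hj s s' => h4 i (j + 1) (by omega) (by omega) _ ((hΦ i (by omega)).1 ▸ ⟨_, rfl⟩) _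
      ((hΦ j (by omega)).2.2 ▸ ⟨_, rfl⟩))
    (fun i j hij hj s s' => h5 i j hij (by omega) _ ((hΦ i (by omega)).2.1 ▸ ⟨_, rfl⟩) _
      ((hΦ j (by omega)).1 ▸ ⟨_, rfl⟩))
    fun i j hij hj s s' => h6 i j hij (by omega) _ ((hΦ i (by omega)).1 ▸ ⟨_, rfl⟩) _
      ((hΦ j (by omega)).1 ▸ ⟨_, rfl⟩)
  exact ⟨f, fun i hi => (hΦ i hi).1 ▸ hf i (by omega)⟩

theorem Cy.phan (c : Cy q θ) (hn : 3 ≤ n) (U : Fin n → Subgroup G) (V : Fin n → Fin n → Subgroup G)
    (h0 : ∀ i j k : Fin n, (i : ℕ) + 1 = j → (j : ℕ) + 1 = k →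
      ∃ ρ : SU 4 F q →* G, St4 ρ (U i) (U j) (U k) (V i j) (V j k))
    (h5 : ∀ i j k : Fin n, (j : ℕ) + 1 = k → ((i : ℕ) + 2 ≤ j ∨ (k : ℕ) + 2 ≤ i) →
      ∀ x ∈ U i, ∀ y ∈ V j k, x * y = y * x)
    (h6 : ∀ i j k l : Fin n, (i : ℕ) + 1 = j → (k : ℕ) + 1 = l → (j : ℕ) + 2 ≤ k →
      ∀ x ∈ V i j, ∀ y ∈ V k l, x * y = y * x) (hU : ∀ i j : Fin n, (i : ℕ) + 1 = j → U i ≤ V i j ∧ U j ≤ V i j)
    (hgen : (⨆ i, U i) ⊔ (⨆ (i : Fin n) (j : Fin n) (_ : (i : ℕ) + 1 = j), V i j) = ⊤) :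
    ∃ f : SU (n + 1) F q →* G, Function.Surjective f := by
  obtain ⟨f, hf⟩ := c.phan_nat hn (fun i => if h : i < n then U ⟨i, h⟩ else ⊥)
    (fun i => if h : i + 1 < n then V ⟨i, by omega⟩ ⟨i + 1, h⟩ else ⊥)
    (fun i hi => by
      rw [dif_pos hi, dif_pos (show i < n by omega), dif_pos (show i + 1 < n by omega),
        dif_pos (show i + 1 < n by omega), dif_pos (show i + 1 + 1 < n by omega)]
      exact h0 _ _ _ rfl rfl)
    (fun i j hij hj => by
      rw [dif_pos hj, dif_pos (show i + 1 < n by omega)]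
      exact fun x hx y hy => (h5 _ _ _ rfl (Or.inr hij) y hy x hx).symm)
    (fun i j hij hj => by
      rw [dif_pos hj, dif_pos (show i < n by omega)]; exact h5 _ _ _ rfl (Or.inl hij))
    (fun i j hij hj => by
      rw [dif_pos hj, dif_pos (show i + 1 < n by omega)]; exact h6 _ _ _ _ rfl rfl hij)
  have k : ∀ i j : Fin n, (i : ℕ) + 1 = j → V i j ≤ f.range := fun i j h => by
    have := hf i (by omega)
    rw [dif_pos (by omega)] at this
    rwa [show j = ⟨i + 1, by omega⟩ from Fin.ext h.symm]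
  refine ⟨f, MonoidHom.range_eq_top.1 (top_le_iff.1 (hgen ▸ sup_le (iSup_le fun i => ?_)
    (iSup_le fun i => iSup_le fun j => iSup_le (k i j))))⟩
  by_cases h : (i : ℕ) + 1 < n
  · exact (hU i ⟨i + 1, h⟩ rfl).1.trans (k _ _ rfl)
  · have e : ((⟨i - 1, by omega⟩ : Fin n) : ℕ) + 1 = i := by simp; omega
    exact (hU _ i e).2.trans (k _ _ e)

namespace Cy
variable (c : Cy q θ) {S T : Finset (Fin n)} {g : SU n F q} {v : Fin n → F} {i j k : Fin n}
include c

theorem ker_le (π : SU 4 F q →* G) (h : ∃ x, π x ≠ 1) (x : SU 4 F q) (hx : π x = 1) : x ∈ Subgroup.center _ := by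
  have := H12.PSU_simple c.card (n := 4) (by omega) (by omega)
  rcases (π.normal_ker.map _ (QuotientGroup.mk'_surjective (Subgroup.center _))).eq_bot_or_eq_top with e | e
  · exact (QuotientGroup.eq_one_iff x).1 (Subgroup.mem_bot.1 (e ▸ ⟨x, hx, rfl⟩))
  obtain ⟨y, hy⟩ := h
  refine absurd ?_ hy
  have : commutator (SU 4 F q) ≤ π.ker := by
    rw [commutator_def, Subgroup.commutator_le]
    intro a _ b _
    obtain ⟨a', ha, e'⟩ : (QuotientGroup.mk a : PSU 4 F q) ∈ π.ker.map (QuotientGroup.mk' _) := e ▸ Subgroup.mem_top _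
    have h1 := Subgroup.mem_center_iff.1 (QuotientGroup.eq.1 e') b
    have h2 := congrArg π h1
    simp only [map_mul, map_inv, show π a' = 1 from ha, inv_one, one_mul] at h2
    rw [MonoidHom.mem_ker, map_commutatorElement, commutatorElement_eq_one_iff_mul_comm, h2]
  exact this (H12.commutator_SU c.card (n := 4) (by omega) (by omega) ▸ Subgroup.mem_top y)

theorem fix_Blk (hi : i ∈ S) (hj : j ∈ S) (hij : i ≠ j) (h : ∀ g ∈ Blk F q S, g • v = v) : v i = 0 := by
  obtain ⟨a, ha, a1, -⟩ := c.exists_nm_one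
  obtain ⟨g, hg, e⟩ := c.exists_diag hij ha
  have := c.map g v (ee F i)
  rw [h g (Blk_mono (by simp [insert_subset_iff, hi, hj]) hg), e, hf_smul_right, hf_ee_right] at this
  exact (mul_eq_zero.1 (by linear_combination this)).resolve_left
    (sub_ne_zero.2 fun e : θ a = 1 => a1 (by rw [← c.inv a, e, map_one]))

theorem nm_eig {a : F} (hv : hf θ v v = 1) (h : g • v = a • v) : nm θ a = 1 := by
  have := c.map g v v
  rwa [h, hf_smul_left, hf_smul_right, hv, mul_one] at this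

theorem eig (hm : (q = 2 ∧ m = 3) ∨ (q = 3 ∧ m = 2)) (hg : g ^ m = 1) (hT : ∀ v : Fin n → F, Sup T v → Sup T (g • v))
    (hi : i ∈ T) : ∃ x, Un θ T x ∧ ∃ a : F, g • x = a • x := by
  suffices ∃ x, Sup T x ∧ hf θ x x ≠ 0 ∧ ∃ a : F, g • x = a • x by
    obtain ⟨x, x1, x2, a, x3⟩ := this
    obtain ⟨b, -, hb⟩ := c.unit_of x2
    exact ⟨b • x, ⟨hb, x1.smul b⟩, a, by rw [smul_comm, x3, smul_comm]⟩
  have s0 := sup_ee (F := F) hi
  have u0 := hf_ee (θ := θ) i
  generalize ee F i = w at s0 u0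
  obtain ⟨h, rfl⟩ | ⟨h, rfl⟩ := hm
  · obtain ⟨μ, h1, h2, -⟩ := c.exists_nm_one
    have h3 := c.two_zero h
    have h4 : ∀ a, θ a = a ^ 2 := fun a => by rw [c.pow, h]
    have h5 : μ ^ 2 + μ + 1 = 0 := by
      rw [nm, h4] at h1
      exact (mul_eq_zero.1 (by linear_combination h1)).resolve_left (sub_ne_zero.2 h2)
    have g3 : g • g • g • w = w := by rw [← mul_smul, ← mul_smul, ← pow_three', hg, one_smul]
    have key : ∀ l : F, l ^ 3 = 1 → hf θ (w + l ^ 2 • g • w + l • g • g • w) w ≠ 0 →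
        ∃ x, Sup T x ∧ hf θ x x ≠ 0 ∧ ∃ a : F, g • x = a • x := fun l hl h0 => by
      have e : g • (w + l ^ 2 • g • w + l • g • g • w) = l • (w + l ^ 2 • g • w + l • g • g • w) := by
        rw [smul_add, smul_add, smul_comm g, smul_comm g l, g3, smul_add, smul_add, smul_smul l, smul_smul l, ← pow_succ',
          hl, one_smul, ← pow_two]
        abel
      refine ⟨_, (s0.add ((hT _ s0).smul _)).add ((hT _ (hT _ s0)).smul _), ?_, l, e⟩
      have e1 := c.map g (w + l ^ 2 • g • w + l • g • g • w) w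
      have e2 := c.map g (w + l ^ 2 • g • w + l • g • g • w) (g • w)
      rw [e, hf_smul_left] at e1 e2
      generalize hx : w + l ^ 2 • g • w + l • g • g • w = x at *
      nth_rewrite 2 [← hx]
      rw [hf_add_right, hf_add_right, hf_smul_right, hf_smul_right, h4, h4]
      intro e3
      exact h0 (by linear_combination e3 - (l ^ 3 + 1) * e1 - l * e2 - hf θ x w * h3 - hf θ x w * hl)
    by_contra hc
    have k1 := _root_.mt (key 1 (by simp)) hc
    have k2 := _root_.mt (key μ (by linear_combination (μ - 1) * h5)) hc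
    have k3 := _root_.mt (key (μ ^ 2) (by linear_combination (μ - 1) * (μ ^ 3 + 1) * h5)) hc
    simp only [not_not, hf_add_left, hf_smul_left, u0] at k1 k2 k3
    exact one_ne_zero (α := F) (by
      linear_combination k1 + k2 + k3 - h3 - (hf θ (g • w) w * (μ ^ 2 - μ + 1) + hf θ (g • g • w) w) * h5)
  · have h2 := c.two_ne h
    have g2 : g • g • w = w := by rw [← mul_smul, ← pow_two, hg, one_smul]
    have key : ∀ l : F, l * l = 1 → θ l = l → hf θ (w + l • g • w) w ≠ 0 →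
        ∃ x, Sup T x ∧ hf θ x x ≠ 0 ∧ ∃ a : F, g • x = a • x := fun l hl hl' h0 => by
      have e : g • (w + l • g • w) = l • (w + l • g • w) := by
        rw [smul_add, smul_comm g, g2, smul_add, smul_smul l, hl, one_smul, add_comm]
      refine ⟨_, s0.add ((hT _ s0).smul _), ?_, l, e⟩
      have e1 := c.map g (w + l • g • w) w
      rw [e, hf_smul_left] at e1
      generalize hx : w + l • g • w = x at *
      nth_rewrite 2 [← hx]
      rw [hf_add_right, hf_smul_right, hl', e1, ← two_mul]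
      exact mul_ne_zero h2 h0
    by_contra hc
    have k1 := _root_.mt (key 1 (by simp) (by simp)) hc
    have k2 := _root_.mt (key (-1) (by simp) (by simp)) hc
    simp only [not_not, hf_add_left, hf_smul_left, u0] at k1 k2
    exact h2 (by linear_combination k1 + k2)

theorem diagT (hm : (q = 2 ∧ m = 3) ∨ (q = 3 ∧ m = 2)) (T : Finset (Fin n)) : ∀ g : SU n F q, g ^ m = 1 →
    (∀ v : Fin n → F, Sup T v → Sup T (g • v)) →
    ∃ h ∈ Blk F q T, ∀ k ∈ T, ∃ a : F, (h⁻¹ * g * h) • ee F k = a • ee F k := by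
  induction T using Finset.induction_on with
  | empty => exact fun g _ _ => ⟨1, one_mem _, by simp⟩
  | insert j T hj ih =>
    intro g hg hT
    rcases T.eq_empty_or_nonempty with rfl | ⟨l, hl⟩
    · refine ⟨1, one_mem _, fun k hk => ⟨(g • ee F k) k, funext fun i => ?_⟩⟩
      by_cases e : i = k
      · simp [e]
      · simpa [e] using hT _ (sup_ee hk) i (by simp at hk ⊢; rwa [← hk])
    obtain ⟨x, x1, a, x2⟩ := c.eig hm hg hT (mem_insert_self _ _)
    obtain ⟨h, h1, rfl⟩ := c.trans1 (mem_insert_self _ _) (mem_insert_of_mem hl) (by rintro rfl; exact hj hl) x1.1 x1.2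
    have e : (h⁻¹ * g * h) • ee F j = a • ee F j := by rw [mul_smul, mul_smul, x2, smul_comm, inv_smul_smul]
    have a0 : θ a ≠ 0 := right_ne_zero_of_mul_eq_one (c.nm_eig x1.1 x2)
    obtain ⟨h', h2, h3⟩ := ih (h⁻¹ * g * h) (by
      rw [show h⁻¹ * g * h = h⁻¹ * g * h⁻¹⁻¹ by rw [inv_inv], conj_pow, hg]; group) fun v hv => by
        have s1 : Sup (insert j T) ((h⁻¹ * g * h) • v) := by
          rw [mul_smul, mul_smul]
          exact c.sup (inv_mem h1) (hT _ (c.sup h1 (hv.mono (subset_insert _ _))))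
        have := c.map (h⁻¹ * g * h) v (ee F j)
        rw [e, hf_smul_right, hf_ee_right, hf_ee_right, hv j hj] at this
        simpa [erase_insert hj] using s1.erase ((mul_eq_zero.1 this).resolve_left a0)
    refine ⟨h * h', mul_mem h1 (Blk_mono (subset_insert _ _) h2), fun k hk => ?_⟩
    rw [show (h * h')⁻¹ * g * (h * h') = h'⁻¹ * (h⁻¹ * g * h) * h' by group]
    rcases mem_insert.1 hk with rfl | hk
    · exact ⟨a, by rw [mul_smul, mul_smul, h2 k hj, e, smul_comm, inv_mem h2 k hj]⟩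
    · exact h3 k hk

omit c in
theorem mt_diag {a : Fin n → F} (h : ∀ k, g • ee F k = a k • ee F k) : mt g = diagonal a := by
  ext i j
  rw [← smul_ee, h]
  by_cases e : i = j <;> simp [e]

omit c in
theorem diag_apply {a : Fin n → F} (h : ∀ k, g • ee F k = a k • ee F k) (v : Fin n → F) (l : Fin n) :
    (g • v) l = a l * v l := by
  rw [smul_eq, mt_diag h, mulVec_diagonal]

omit c in
theorem range_eq {H K : Type*} [Group H] [Finite H] [Group K] {α β : H →* K} (h : Function.Injective α)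
    (hle : α.range ≤ β.range) : α.range = β.range :=
  have : Finite β.range := Finite.of_surjective _ β.rangeRestrict_surjective
  Subgroup.eq_of_le_of_card_ge hle ((Nat.card_le_card_of_surjective _ β.rangeRestrict_surjective).trans
    (Nat.card_congr (MonoidHom.ofInjective h).toEquiv).le)

end Cy

end Cfsg.Agent.H28.Ph
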