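import Cfsg.Agent.H28.PhanB7

/-! Standard triples inside `SU₄(2)`. -/

set_option autoImplicit false
set_option linter.unusedSectionVars false

namespace Cfsg.Agent.H28.Ph

open Matrix Finset
open scoped MatrixGroups Classical commutatorElement

variable {F : Type*} [Field F] [Fintype F] {q n m : ℕ} {θ : F ≃+* F} {G : Type*} [Group G]

theorem mem_conj {H K : Type*} [Group H] [Group K] {φ : H →* K} {g t : K} :
    t ∈ ((MulAut.conj g).toMonoidHom.comp φ).range ↔ g⁻¹ * t * g ∈ φ.range := by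
  rw [MonoidHom.range_comp, Subgroup.mem_map_equiv, MulAut.conj_symm_apply]

theorem conj_fix {g t : SU n F q} {v : Fin n → F} : (g⁻¹ * t * g) • v = v ↔ t • g • v = g • v := by
  rw [mul_smul, mul_smul, inv_smul_eq_iff]

theorem map_conj {g : SU n F q} {K : Subgroup (SU n F q)} {S : Finset (Fin n)} (π : SU n F q →* G)
    (h : ∀ t, t ∈ K ↔ g⁻¹ * t * g ∈ Blk F q S) : (Blk F q S).map (π.comp (MulAut.conj g).toMonoidHom) = K.map π := by
  rw [← Subgroup.map_map]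
  congr 1
  ext t
  rw [Subgroup.mem_map_equiv, MulAut.conj_symm_apply, h]

namespace Cy
variable (c : Cy q θ)
include c

theorem mem_F0 {g : SU 4 F q} : g ∈ c.F0.range ↔ g • ee F (3 : Fin 4) = ee F 3 :=
  ⟨by rintro ⟨s, rfl⟩; exact c.emb_mem _ s 3 (by decide), fun h => c.exists_emb _ fun k hk => by
    obtain rfl : k = 3 := by revert k; decide
    exact h⟩

theorem dd_ne {a : F} (ha : nm θ a = 1) (h : a ≠ 1) : c.dd a ha ≠ 1 := fun e =>
  h (by simpa [c.mt_dd, mt] using congrFun (congrFun (congrArg mt e) 0) 0)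

theorem dd_pow {a : F} (ha : nm θ a = 1) : c.dd a ha ^ (q + 1) = 1 := by
  have : ∀ k : ℕ, mt (c.dd a ha ^ k) = !![a ^ k, 0; 0, θ a ^ k] := fun k => by
    induction k with
    | zero => simp [mt, one_fin_two]
    | succ k ih => rw [pow_succ, mt_mul, ih, c.mt_dd, mul_fin_two]; simp [pow_succ]
  refine su_ext' ?_
  rw [this, ← c.nm_pow, ← c.nm_pow, c.nm_conj, ha]
  exact one_fin_two.symm

theorem scal3 (h : q = 2) {a : F} (ha : nm θ a = 1) {z : SU 3 F q} (hz : mt z = a • (1 : Matrix (Fin 3) (Fin 3) F)) :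
    c.E0 (c.dd a ha) = z * c.E1 (c.dd a ha) := by
  refine su_ext' ?_
  rw [mt_mul, hz, c.E0_eq, c.E1_eq, c.mt_dd]
  have h4 : θ a = a * a := by rw [c.pow, h, pow_two]
  unfold nm at ha
  ext i j
  fin_cases i <;> fin_cases j <;> simp [h4]
  rw [h4] at ha
  exact ha.symm

theorem center3 {z : SU 3 F q} (hz : z ∈ Subgroup.center _) :
    ∃ a, nm θ a = 1 ∧ mt z = a • (1 : Matrix (Fin 3) (Fin 3) F) := by
  have k : ∀ i : Fin 3, i ≠ 0 → (z • ee F 0) i = 0 := fun i hi => by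
    obtain ⟨j, h1, h2⟩ : ∃ j, j ≠ 0 ∧ i ≠ j := by revert i; decide
    exact c.fix_Blk (S := univ.erase 0) (by simp [hi]) (by simp [h1]) h2 fun g hg => by
      rw [← mul_smul, Subgroup.mem_center_iff.1 hz g, mul_smul, Blk_fix hg]
  have e : z • ee F (0 : Fin 3) = (z • ee F (0 : Fin 3)) 0 • ee F 0 := funext fun i => by
    by_cases hi : i = 0
    · simp [hi]
    · simp [hi, k i hi]
  refine ⟨_, c.nm_eig (hf_ee _) e, ?_⟩
  rw [mt_diag (a := fun _ => (z • ee F (0 : Fin 3)) 0) fun l => ?_, smul_one_eq_diagonal]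
  obtain ⟨u, -, hu⟩ := c.trans1 (S := univ) (mem_univ (0 : Fin 3)) (mem_univ 1) (by decide) (hf_ee l)
    fun _ h => absurd (mem_univ _) h
  rw [← hu, ← mul_smul, ← Subgroup.mem_center_iff.1 hz u, mul_smul, e, smul_comm]
  simp

theorem inj_of (h : q = 2) {ψ : SU 3 F q →* G} {A B : Subgroup G} (hψ : Ste c ψ A B) (hAB : ∀ t ∈ A, t ∈ B → t = 1) :
    Function.Injective ψ := (injective_iff_map_eq_one _).2 fun z hz => by
  obtain ⟨a, ha, e⟩ := c.center3 (hψ.ker z hz)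
  have h1 := congrArg ψ (c.scal3 h ha e)
  rw [map_mul, hz, one_mul] at h1
  have h2 := (map_eq_one_iff _ hψ.inj0).1
    (hAB (ψ (c.E0 (c.dd a ha))) (hψ.h0 ▸ ⟨c.dd a ha, rfl⟩) (hψ.h1 ▸ ⟨c.dd a ha, h1.symm⟩))
  refine su_ext' ?_
  rw [e, not_not.1 fun a1 => c.dd_ne ha a1 h2, one_smul]; rfl

theorem exists_stab (h : q = 2) {φ : SU 2 F q →* SU 3 F q} (hφ : Function.Injective φ) :
    ∃ g : SU 3 F q, ∀ t, t ∈ φ.range ↔ t • g • ee F (2 : Fin 3) = g • ee F 2 := by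
  obtain ⟨-, e', -⟩ := c.exists_conj
  obtain ⟨x, h1, h2⟩ := c.fix_even (c.two_zero h) (φ := φ.comp e'.toMonoidHom) (hφ.comp e'.injective)
  obtain ⟨a, -, ha⟩ := c.unit_of h1
  obtain ⟨g, hg⟩ := c.to_e2 ha
  refine ⟨g, fun t => ?_⟩
  rw [← conj_fix, ← c.mem_E0, ← mem_conj, range_eq hφ]
  rintro _ ⟨s, rfl⟩
  rw [mem_conj, c.mem_E0, conj_fix, hg, smul_comm]
  exact congrArg _ (by simpa using h2 (e'.symm s))

theorem pair_su (h : q = 2) {γ : SU 3 F q →* SU 3 F q} (hγ : Function.Injective γ) :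
    ∃ g : SU 3 F q, (∀ t, t ∈ (γ.comp c.E0).range ↔ g⁻¹ * t * g ∈ c.E0.range) ∧
      ∀ t, t ∈ (γ.comp c.E1).range ↔ g⁻¹ * t * g ∈ c.E1.range := by
  have i0 : Function.Injective (γ.comp c.E0) := hγ.comp (c.emb_inj _)
  have i1 : Function.Injective (γ.comp c.E1) := hγ.comp (c.emb_inj _)
  obtain ⟨g, hg⟩ := c.exists_stab h i0
  obtain ⟨g', hg'⟩ := c.exists_stab h i1
  obtain ⟨μ, m1, m2, -⟩ := c.exists_nm_one
  have d1 := (hg _).1 ⟨c.dd μ m1, rfl⟩
  have d1' := (hg' _).1 ⟨c.dd μ m1, rfl⟩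
  have h1 : hf θ (g • ee F (2 : Fin 3)) (g' • ee F (2 : Fin 3)) = 0 := by
    by_contra h0
    obtain ⟨a, ha⟩ := c.fix_line (fun e => c.dd_ne m1 m2 ((map_eq_one_iff _ i0).1 e))
      (by rw [← map_pow, c.dd_pow, map_one]) d1 (w := (γ.comp c.E1) (c.dd μ m1) • g • ee F (2 : Fin 3)) (by
      rw [← mul_smul, show (γ.comp c.E0) (c.dd μ m1) * (γ.comp c.E1) (c.dd μ m1) =
        (γ.comp c.E1) (c.dd μ m1) * (γ.comp c.E0) (c.dd μ m1) by
          simp only [MonoidHom.comp_apply, ← map_mul]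
          refine congrArg γ (su_ext' ?_)
          rw [mt_mul, mt_mul, c.E0_eq, c.E1_eq, c.mt_dd]
          ext i j; fin_cases i <;> fin_cases j <;> simp [Matrix.mul_apply, Fin.sum_univ_three, mul_comm],
        mul_smul, d1])
    have := c.map ((γ.comp c.E1) (c.dd μ m1)) (g • ee F (2 : Fin 3)) (g' • ee F (2 : Fin 3))
    rw [ha, d1', hf_smul_left, mul_eq_right₀ h0] at this
    rw [this, one_smul] at ha
    obtain ⟨b, hb⟩ := c.fix_line (fun e => c.dd_ne m1 m2 ((map_eq_one_iff _ i1).1 e))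
      (by rw [← map_pow, c.dd_pow, map_one]) d1' ha
    obtain ⟨s, hs⟩ := (hg ((γ.comp c.E1) c.ww)).2 (by rw [hb, smul_comm, (hg' _).1 ⟨c.ww, rfl⟩])
    have := c.mem_E0.1 ⟨s, hγ hs⟩
    rw [c.E1_ww] at this
    simpa using congrFun this 1
  obtain ⟨u, u1, u2⟩ := c.trans1 (S := {0, 1}) (i := 0) (j := 1) (w := g⁻¹ • g' • ee F (2 : Fin 3)) (by simp) (by simp)
    (by decide) (by rw [c.map, c.map, hf_ee]) fun k hk => by
      obtain rfl : k = 2 := by revert k; decide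
      rw [c.inv_coord]
      exact c.perp h1
  refine ⟨g * u, fun t => ?_, fun t => ?_⟩
  · rw [c.mem_E0, conj_fix, mul_smul, u1 2 (by decide), hg]
  · rw [c.mem_E1, conj_fix, mul_smul, u2, smul_inv_smul, hg']

theorem mono3 (h : q = 2) {a : Fin n → F} (ha : ∀ k, ∃ l, ∀ j, a j = a k → j = k ∨ j = l) {t : SU n F q}
    (ht : ∀ k l, (t • ee F k) l ≠ 0 → a l = a k) (h3 : t ^ 3 = 1) (k : Fin n) : ∃ b : F, t • ee F k = b • ee F k := by
  obtain ⟨l, hl⟩ := ha k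
  have s : ∀ k', a k' = a k → Sup {k, l} (t • ee F k') := fun k' e j hj => by
    by_contra h0
    exact hj (by simpa using hl j ((ht _ _ h0).trans e))
  by_cases e : l = k
  · refine ⟨(t • ee F k) k, funext fun j => ?_⟩
    by_cases e' : j = k
    · simp [e']
    · simp [e', s k rfl j (by simp [e, e'])]
  have e1 := sup_pair (Ne.symm e) (s k rfl)
  by_cases h0 : (t • ee F k) l = 0
  · exact ⟨_, by rwa [h0, zero_smul, add_zero] at e1⟩
  have e2 := sup_pair (Ne.symm e) (s l (ht _ _ h0))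
  have u1 := (c.map t (ee F k) (ee F k)).trans (hf_ee k)
  have u2 := c.map t (ee F l) (ee F k)
  have n1 := (c.nm01 h _).resolve_left h0
  generalize (t • ee F k) l = x, (t • ee F k) k = y, (t • ee F l) l = x', (t • ee F l) k = y' at *
  rw [e1] at u1
  simp [hf_add_left, hf_add_right, hf_smul_left, hf_smul_right, hf_ee_right, e, Ne.symm e] at u1
  have y0 : y = 0 := (nm_eq_zero (θ := θ)).1 (by unfold nm at n1 ⊢; linear_combination u1 - n1)
  rw [y0, zero_smul, zero_add] at e1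
  rw [e1, e2] at u2
  simp [hf_add_left, hf_smul_left, hf_smul_right, hf_ee_right, e, Ne.symm e, h0] at u2
  rw [u2, zero_smul, add_zero] at e2
  have : t • t • t • ee F k = ee F k := by rw [← mul_smul, ← mul_smul, ← pow_three', h3, one_smul]
  rw [e1, smul_comm t x, e2, smul_comm t x, smul_comm t y', e1] at this
  simpa [Ne.symm e] using congrFun this k

theorem fixV (h : q = 2) {φ : SU 3 F q →* SU 4 F q} (hφ : Function.Injective φ) :
    ∃ g : SU 4 F q, ∀ t, t ∈ φ.range ↔ g⁻¹ * t * g ∈ c.F0.range := by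
  obtain ⟨μ, m1, m2, -⟩ := c.exists_nm_one
  have m3 : μ ^ 3 = 1 := by rwa [c.nm_pow, h] at m1
  let z : SU 3 F q := ⟨⟨μ • (1 : Matrix (Fin 3) (Fin 3) F), by simp [m3]⟩, (mem_SU_iff c.pow).2 (by
    rw [cT_smul, cT_one, smul_mul_smul, one_mul, mul_comm, show μ * θ μ = 1 from m1, one_smul])⟩
  have z1 : ∀ s, z * s = s * z := fun s => su_ext' (by rw [mt_mul, mt_mul]; simp [z, mt])
  have z3 : z ^ 3 = 1 := su_ext' (by rw [pow_three, mt_mul, mt_mul]; simp [z, mt, smul_smul, ← pow_three', m3])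
  obtain ⟨g, -, hg⟩ := c.diagT (Or.inl ⟨h, rfl⟩) univ (φ z) (by rw [← map_pow, z3, map_one])
    fun v _ _ h => absurd (mem_univ _) h
  choose! a ha using hg
  replace ha := fun k => ha k (mem_univ _)
  let φ' := (MulAut.conj g⁻¹).toMonoidHom.comp φ
  have p1 : ∀ s, φ' s = g⁻¹ * φ s * g := fun s => by simp [φ']
  have hφ' : Function.Injective φ' := (MulAut.conj g⁻¹).injective.comp hφ
  rw [← p1] at ha
  have ht : ∀ s k l, (φ' s • ee F k) l ≠ 0 → a l = a k := fun s k l h0 => by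
    have := congrFun (congrArg (fun x => φ' x • ee F k) (z1 s)) l
    simp only [map_mul, mul_smul, ha, smul_comm (φ' s), diag_apply ha, Pi.smul_apply, smul_eq_mul] at this
    exact mul_right_cancel₀ h0 this
  let e := Fintype.equivFinOfCardEq (show Fintype.card F = 4 by rw [c.card, h]; rfl)
  have : ∀ f : Fin 4 → Fin 4, (∃ k, ∀ l, l ≠ k → f l ≠ f k) ∨ (∀ k, f k = f 0) ∨
    ∀ k, ∃ l, ∀ j, f j = f k → j = k ∨ j = l := by decide +kernel
  rcases this (e ∘ a) with ⟨k, hk⟩ | hk | hk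
  · have k1 : ∀ s, φ' s • ee F k = (φ' s • ee F k) k • ee F k := fun s => funext fun l => by
      by_cases e' : l = k
      · simp [e']
      · simpa [e'] using not_not.1 fun h0 => hk l e' (congrArg e (ht s k l h0))
    have k2 := c.gen_four h ((MulAction.stabilizer _ (ee F k)).comap φ') fun s hs => by
      have n1 := c.nm_eig (hf_ee _) (k1 s)
      have n2 : φ' s • φ' s • φ' s • φ' s • ee F k = ee F k := by
        rw [← mul_smul, ← mul_smul, ← mul_smul, ← pow_three', ← pow_succ, ← map_pow, hs, map_one, one_smul]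
      have n3 := k1 s
      change φ' s • ee F k = ee F k
      generalize (φ' s • ee F k) k = b at n1 n3
      rw [c.nm_pow, h] at n1
      simp only [n3, smul_comm (φ' s) b] at n2
      have n4 := congrFun n2 k
      simp only [Pi.smul_apply, Pi.single_eq_same, smul_eq_mul, mul_one] at n4
      rw [n3, show b = 1 by linear_combination n4 - b * n1, one_smul]
    obtain ⟨u, -, hu⟩ := c.trans1 (S := univ) (mem_univ (3 : Fin 4)) (mem_univ 0) (by decide) (hf_ee k)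
      fun _ h => absurd (mem_univ _) h
    refine ⟨g * u, fun t => ?_⟩
    rw [← mem_conj, range_eq hφ]
    rintro _ ⟨s, rfl⟩
    rw [mem_conj, c.mem_F0, conj_fix, mul_smul, hu, ← conj_fix, ← p1]
    exact k2 s
  · have k1 : mt (φ' z) = a 0 • (1 : Matrix (Fin 4) (Fin 4) F) := by
      rw [mt_diag ha, smul_one_eq_diagonal]
      exact congrArg _ (funext fun k => e.injective (hk k))
    have k2 := c.center_pow (n := 4) (z := φ' z) (by omega)
      (Subgroup.mem_center_iff.2 fun g => su_ext' (by rw [mt_mul, mt_mul, k1]; simp))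
    rw [show Nat.gcd 4 (q + 1) = 1 by rw [h]; rfl, pow_one, map_eq_one_iff _ hφ'] at k2
    exact absurd (by simpa [z, mt] using congrFun (congrFun (congrArg mt k2) 0) 0) m2
  have k0 : ∀ k, ∃ l, ∀ j, a j = a k → j = k ∨ j = l := fun k => (hk k).imp fun l hl j e' => hl j (congrArg e e')
  have k1 : ∀ s : SU 3 F q, s ^ 3 = 1 → ∃ b, mt (φ' s) = diagonal b := fun s hs => by
    choose b hb using c.mono3 h k0 (ht s) (by rw [← map_pow, hs, map_one])
    exact ⟨b, mt_diag hb⟩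
  obtain ⟨T, -, T2⟩ := c.exists_T h
  have d3 : c.E0 (c.dd μ m1) ^ (q + 1) = 1 := by rw [← map_pow, c.dd_pow, map_one]
  have d3' : (T * c.E0 (c.dd μ m1) * T⁻¹) ^ (q + 1) = 1 := by rw [conj_pow, d3]; group
  have q3 : q + 1 = 3 := by omega
  obtain ⟨b, hb⟩ := k1 _ (q3 ▸ d3)
  obtain ⟨b', hb'⟩ := k1 _ (q3 ▸ d3')
  have k2 : T * c.E0 (c.dd μ m1) * T⁻¹ * c.E0 (c.dd μ m1) = c.E0 (c.dd μ m1) * (T * c.E0 (c.dd μ m1) * T⁻¹) :=
    hφ' (su_ext' (by rw [map_mul φ' _ (c.E0 _), map_mul φ' (c.E0 _), mt_mul, mt_mul, hb, hb', commute_diagonal]))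
  have k3 : (T * c.E0 (c.dd μ m1) * T⁻¹) • T • ee F (2 : Fin 3) = T • ee F 2 := by
    rw [mul_smul, mul_smul, inv_smul_smul, c.mem_E0.1 ⟨_, rfl⟩]
  obtain ⟨x, hx⟩ := c.fix_line (fun e => c.dd_ne m1 m2 (c.emb_inj _ (by simpa using e))) d3' k3
    (w := c.E0 (c.dd μ m1) • T • ee F (2 : Fin 3)) (by rw [← mul_smul, k2, mul_smul, k3])
  have x0 := congrFun hx 0
  have x2 := congrFun hx 2
  rw [← mul_smul, smul_ee, mt_mul, c.E0_eq, Pi.smul_apply, smul_ee] at x0 x2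
  simp [Matrix.mul_apply, Fin.sum_univ_three, T2, c.mt_dd] at x0 x2
  exact absurd (x0.trans x2.symm) m2

theorem two_inner (h : q = 2) {φ φ' : SU 3 F q →* SU 4 F q} (hφ : Function.Injective φ) (hφ' : Function.Injective φ')
    (hs : φ.range ⊔ φ'.range = ⊤) (hB : (φ.comp c.E1).range = (φ'.comp c.E0).range)
    (hc : ∀ s s', φ (c.E0 s) * φ' (c.E1 s') = φ' (c.E1 s') * φ (c.E0 s)) : ∃ g : SU 4 F q,
      (∀ t, t ∈ (φ.comp c.E0).range ↔ g⁻¹ * t * g ∈ Blk F q {0, 1}) ∧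
      (∀ t, t ∈ (φ.comp c.E1).range ↔ g⁻¹ * t * g ∈ Blk F q {1, 2}) ∧
      (∀ t, t ∈ (φ'.comp c.E1).range ↔ g⁻¹ * t * g ∈ Blk F q {2, 3}) ∧
      (∀ t, t ∈ φ.range ↔ g⁻¹ * t * g ∈ Blk F q {0, 1, 2}) ∧
      ∀ t, t ∈ φ'.range ↔ g⁻¹ * t * g ∈ Blk F q {1, 2, 3} := by
  obtain ⟨g1, h1⟩ := c.fixV h hφ
  obtain ⟨γ, hγ⟩ := exists_aut (α := (MulAut.conj g1).toMonoidHom.comp c.F0)
    ((MulAut.conj g1).injective.comp (c.emb_inj _)) hφ (Subgroup.ext fun t => (h1 t).trans mem_conj.symm)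
  obtain ⟨g2, h2, h3⟩ := c.pair_su h (γ := γ.toMonoidHom) γ.injective
  have k : ∀ E : SU 2 F q →* SU 3 F q, (∀ t, t ∈ (γ.toMonoidHom.comp E).range ↔ g2⁻¹ * t * g2 ∈ E.range) →
      ∀ t, t ∈ (φ.comp E).range ↔ (g1 * c.F0 g2)⁻¹ * t * (g1 * c.F0 g2) ∈ (c.F0.comp E).range := fun E hE t => by
    constructor
    · rintro ⟨s, rfl⟩
      obtain ⟨s', e⟩ := (hE _).1 ⟨s, rfl⟩
      refine ⟨s', ?_⟩
      rw [MonoidHom.comp_apply, e, MonoidHom.comp_apply φ, ← hγ]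
      simp [mul_assoc]
    · rintro ⟨s, e⟩
      obtain ⟨s', e'⟩ := (hE (g2 * E s * g2⁻¹)).2 ⟨s, by group⟩
      refine ⟨s', ?_⟩
      rw [MonoidHom.comp_apply, ← hγ, show γ (E s') = _ from e']
      simp only [MonoidHom.comp_apply, map_mul, map_inv] at e ⊢
      rw [e]
      simp [mul_assoc]
  have a0 := k _ h2
  have a1 := k _ h3
  have a3 : ∀ t, t ∈ φ.range ↔ (g1 * c.F0 g2)⁻¹ * t * (g1 * c.F0 g2) ∈ c.F0.range := fun t => by
    rw [h1, show (g1 * c.F0 g2)⁻¹ * t * (g1 * c.F0 g2) = (c.F0 g2)⁻¹ * (g1⁻¹ * t * g1) * c.F0 g2 by group,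
      mul_mem_cancel_right (show c.F0 g2 ∈ c.F0.range from ⟨_, rfl⟩),
      mul_mem_cancel_left (inv_mem (show c.F0 g2 ∈ c.F0.range from ⟨_, rfl⟩))]
  rw [c.F0E0] at a0
  rw [c.F0E1] at a1
  generalize g1 * c.F0 g2 = g at a0 a1 a3
  obtain ⟨g', h4⟩ := c.fixV h hφ'
  simp only [c.mem_F0, conj_fix] at h4
  have y1 : ∀ t ∈ Blk F q {1, 2}, t • g⁻¹ • g' • ee F (3 : Fin 4) = g⁻¹ • g' • ee F (3 : Fin 4) := fun t ht => by
    obtain ⟨s, e⟩ := hB ▸ (a1 (g * t * g⁻¹)).2 (by simpa [mul_assoc] using ht)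
    have := (h4 _).1 ⟨_, e⟩
    rwa [mul_smul, mul_smul, ← eq_inv_smul_iff] at this
  have y2 := c.fix_Blk (i := 1) (j := 2) (by simp) (by simp) (by decide) y1
  have y3 := c.fix_Blk (i := 2) (j := 1) (by simp) (by simp) (by decide) y1
  have y4 : hf θ (g⁻¹ • g' • ee F (3 : Fin 4)) (g⁻¹ • g' • ee F (3 : Fin 4)) = 1 := by rw [c.map, c.map, hf_ee]
  have y5 : ∀ t, t ∈ φ'.range ↔ (g⁻¹ * t * g) • g⁻¹ • g' • ee F (3 : Fin 4) = g⁻¹ • g' • ee F (3 : Fin 4) :=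
    fun t => by rw [conj_fix, smul_inv_smul, h4]
  generalize g⁻¹ • g' • ee F (3 : Fin 4) = y at y2 y3 y4 y5
  have y6 := sup_pair (d := 0) (p := 3) (v := y) (by decide) fun k hk => by
    obtain rfl | rfl : k = 1 ∨ k = 2 := by revert k; decide
    exacts [y2, y3]
  simp [hf, Fin.sum_univ_four, y2, y3] at y4
  have y7 : y 0 ≠ 0 := fun e => by
    rw [e, zero_smul, zero_add] at y6
    have y3 : y 3 ≠ 0 := by rintro e'; simp [e, e'] at y4
    obtain ⟨u, -, hu⟩ := c.trans1 (S := univ) (mem_univ (3 : Fin 4)) (mem_univ 0) (by decide) (hf_ee 0)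
      fun _ h => absurd (mem_univ _) h
    have := (a3 (g * u * g⁻¹)).1 (sup_le (c := φ.range) (b := φ'.range) le_rfl (fun t ht => (a3 t).2 (c.mem_F0.2 (by
      have := (y5 t).1 ht
      rw [y6, smul_comm] at this
      exact smul_right_injective _ y3 this))) (hs ▸ Subgroup.mem_top _))
    rw [c.mem_F0, show g⁻¹ * (g * u * g⁻¹) * g = u by group, hu] at this
    simpa using congrFun this 0
  have y8 : y 3 = 0 := (nm_eq_zero (θ := θ)).1 (by
    have := (c.nm01 h _).resolve_left y7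
    unfold nm at this ⊢
    linear_combination y4 - this)
  rw [y8, zero_smul, add_zero] at y6
  have a4 : ∀ t, t ∈ φ'.range ↔ (g⁻¹ * t * g) • ee F (0 : Fin 4) = ee F 0 := fun t => by
    rw [y5, y6, smul_comm, (smul_right_injective _ y7).eq_iff]
  refine ⟨g, a0, a1, fun t => ?_, by simpa only [c.F0_range] using a3, fun t => (a4 t).trans
    ⟨fun e k hk => by obtain rfl : k = 0 := by revert k; decide
                      exact e, fun e => e 0 (by decide)⟩⟩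
  rw [← c.F1E1, ← mem_conj, range_eq (α := φ'.comp c.E1) (hφ'.comp (c.emb_inj _))]
  rintro _ ⟨s, rfl⟩
  rw [mem_conj, c.F1E1]
  have b0 := (a4 _).1 ⟨c.E1 s, rfl⟩
  obtain ⟨u, u1, u2⟩ := c.trans1 (S := {0, 1}) (i := 0) (j := 1) (by simp) (by simp) (by decide) (hf_ee (1 : Fin 4))
    (sup_ee (by simp))
  obtain ⟨s', e⟩ := (a0 (g * u * g⁻¹)).2 (by simpa [mul_assoc] using u1)
  have b1 := hc s' s
  rw [show φ (c.E0 s') = _ from e] at b1
  intro k hk
  obtain rfl | rfl : k = 0 ∨ k = 1 := by revert k; decide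
  · exact b0
  · rw [← u2, ← mul_smul, show g⁻¹ * (φ'.comp c.E1) s * g * u = u * (g⁻¹ * φ' (c.E1 s) * g) by
      calc _ = g⁻¹ * (φ' (c.E1 s) * (g * u * g⁻¹)) * g := by simp [mul_assoc]
        _ = _ := by rw [← b1]; group, mul_smul, b0]

theorem st4_two (h : q = 2) {ψ ψ' : SU 3 F q →* G} {A B C : Subgroup G} (h1 : Ste c ψ A B) (h2 : Ste c ψ' B C)
    (hc : ∀ x ∈ A, ∀ y ∈ C, x * y = y * x) (π : SU 4 F q →* G) (hr : π.range = ψ.range ⊔ ψ'.range) :
    ∃ ρ : SU 4 F q →* G, St4 ρ A B C ψ.range ψ'.range := by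
  have i1 := c.inj_of h h1 fun t ht ht' => by
    obtain ⟨y, rfl⟩ := h2.h0 ▸ ht'
    rw [h2.cent (y := y) fun s => hc _ ht _ (h2.h1 ▸ ⟨s, rfl⟩), map_one]
  have i2 := c.inj_of h h2 fun t ht ht' => by
    obtain ⟨y, rfl⟩ := h1.h1 ▸ ht
    rw [h1.cent' (y := y) fun s => (hc _ (h1.h0 ▸ ⟨s, rfl⟩) _ ht').symm, map_one]
  have hπ : Function.Injective π := (injective_iff_map_eq_one _).2 fun x hx => by
    obtain ⟨μ, m1, m2, -⟩ := c.exists_nm_one
    obtain ⟨y, hy⟩ : ψ (c.E0 (c.dd μ m1)) ∈ π.range := hr ▸ Subgroup.mem_sup_left ⟨_, rfl⟩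
    have := c.center_pow (by omega) (c.ker_le π ⟨y, fun e => c.dd_ne m1 m2 ((map_eq_one_iff _ h1.inj0).1
      (hy.symm.trans e))⟩ x hx)
    rwa [show Nat.gcd 4 (q + 1) = 1 by rw [h]; rfl, pow_one] at this
  have k : ∀ χ : SU 3 F q →* G, χ.range ≤ π.range → ∃ φ : SU 3 F q →* SU 4 F q, π.comp φ = χ := fun χ hχ =>
    ⟨(MonoidHom.ofInjective hπ).symm.toMonoidHom.comp (χ.codRestrict _ fun s => hχ ⟨s, rfl⟩),
      MonoidHom.ext fun s => MonoidHom.apply_ofInjective_symm hπ _⟩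
  obtain ⟨φ, rfl⟩ := k ψ (hr ▸ le_sup_left)
  obtain ⟨φ', rfl⟩ := k ψ' (hr ▸ le_sup_right)
  obtain ⟨g, a0, a1, a2, a3, a4⟩ := c.two_inner h (φ := φ) (φ' := φ') (Function.Injective.of_comp i1)
    (Function.Injective.of_comp i2)
    (Subgroup.map_injective hπ (by rw [Subgroup.map_sup, ← MonoidHom.range_comp, ← MonoidHom.range_comp, ← hr,
      MonoidHom.range_eq_map]))
    (Subgroup.map_injective hπ (by
      rw [← MonoidHom.range_comp, ← MonoidHom.range_comp]; exact h1.h1.trans h2.h0.symm))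
    fun s s' => hπ (by rw [map_mul, map_mul]; exact hc _ (h1.h0 ▸ ⟨s, rfl⟩) _ (h2.h1 ▸ ⟨s', rfl⟩))
  refine ⟨π.comp (MulAut.conj g).toMonoidHom, fun x hx => ?_, ?_, ?_, ?_, ?_, ?_⟩
  · rw [(map_eq_one_iff (π.comp (MulAut.conj g).toMonoidHom) (hπ.comp (MulAut.conj g).injective)).1 hx]
    exact one_mem _
  · rw [map_conj π a0, ← MonoidHom.range_comp]; exact h1.h0
  · rw [map_conj π a1, ← MonoidHom.range_comp]; exact h1.h1
  · rw [map_conj π a2, ← MonoidHom.range_comp]; exact h2.h1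
  · rw [map_conj π a3, ← MonoidHom.range_comp]
  · rw [map_conj π a4, ← MonoidHom.range_comp]

end Cy

theorem Ste.le {c : Cy q θ} {ψ : SU 3 F q →* G} {A B : Subgroup G} (h : Ste c ψ A B) : A ≤ ψ.range ∧ B ≤ ψ.range :=
  ⟨h.h0 ▸ fun _ ⟨_, e⟩ => ⟨_, e⟩, h.h1 ▸ fun _ ⟨_, e⟩ => ⟨_, e⟩⟩

end Cfsg.Agent.H28.Ph
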