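import Cfsg.Agent.H28.PhanB8

/-! Standard triples inside quotients of `SU₄(3)`. -/

set_option autoImplicit false
set_option linter.unusedSectionVars false

namespace Cfsg.Agent.H28.Ph

open Matrix Finset
open scoped MatrixGroups Classical commutatorElement

variable {F : Type*} [Field F] [Fintype F] {q n m : ℕ} {θ : F ≃+* F} {G : Type*} [Group G]

theorem braid {a b : G} (ha : a ^ 3 = 1) (hb : b ^ 3 = 1) (h : a * b * a = b * a * b) :
    (b⁻¹ * a) ^ 2 * (b⁻¹ * a) ^ 2 = 1 ∧ Commute a ((b⁻¹ * a) ^ 2) ∧ Commute b ((b⁻¹ * a) ^ 2) := by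
  have key : ∀ a b : G, a ^ 3 = 1 → b ^ 3 = 1 → a * b * a = b * a * b → (a * b * a) ^ 2 = (b⁻¹ * a) ^ 2 :=
    fun a b ha hb h => by
      calc _ = b⁻¹ * (b * a * b) * a ^ 3 * a⁻¹ * b * a := by simp only [pow_succ, pow_zero]; group
        _ = b⁻¹ * a * b ^ 3 * b⁻¹ * a := by rw [← h, ha]; simp only [pow_succ, pow_zero]; group
        _ = _ := by rw [hb]; simp only [pow_succ, pow_zero]; group
  have h1 := key a b ha hb h
  have h2 := key b a hb ha h.symm
  have h3 : a * b * a * a = b * (a * b * a) := by nth_rewrite 1 [h]; group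
  have h4 : a * b * a * b = a * (a * b * a) := by rw [mul_assoc a b, mul_assoc a, ← h, mul_assoc a b]
  refine ⟨?_, ?_, ?_⟩
  · nth_rewrite 1 [← h1, h, h2]
    simp only [pow_succ, pow_zero]; group
  · rw [← h1, pow_two, Commute, SemiconjBy, ← mul_assoc a, ← h4, mul_assoc _ b, ← h3]; group
  · rw [← h1, pow_two, Commute, SemiconjBy, ← mul_assoc b, ← h3, mul_assoc _ a (a * b * a), ← h4]; group

theorem cube_one (h : (3 : F) = 0) {x y : F} (e : x ^ 3 = y ^ 3) : x = y :=
  sub_eq_zero.1 (pow_eq_zero_iff three_ne_zero |>.1 (by linear_combination e + (x * y ^ 2 - x ^ 2 * y) * h))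

theorem mat2 (h : (3 : F) = 0) {A B Y U : Matrix (Fin 2) (Fin 2) F} (hA : A * A * A = 1) (hB : B * B * B = 1)
    (hY : B * Y = A) (hY2 : Y * Y = -1) (hU : U * U * U = 1) (hc : U * Y = Y * U) : U = 1 := by
  have h2 : (2 : F) ≠ 0 := fun e => one_ne_zero (α := F) (by linear_combination h - e)
  have k : ∀ X : Matrix (Fin 2) (Fin 2) F, X * X * X = 1 → X.det = 1 := fun X hX => cube_one h (by
    rw [pow_three', ← det_mul, ← det_mul, hX]; simp)
  have dY : Y.det = 1 := by simpa [k B hB, k A hA] using congrArg det hY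
  have dU := k U hU
  rw [det_fin_two] at dY dU
  have e := fun i j => congrFun (congrFun hU i) j
  have e' := fun i j => congrFun (congrFun hY2 i) j
  have e'' := fun i j => congrFun (congrFun hc i) j
  have u0 := e 0 0
  have u1 := e 1 1
  have y0 := e' 0 0
  have y1 := e' 1 1
  have c0 := e'' 0 0
  have c1 := e'' 0 1
  have c2 := e'' 1 0
  simp [Matrix.mul_apply, Fin.sum_univ_two] at u0 u1 y0 y1 c0 c1 c2
  rw [eta_fin_two U, one_fin_two]
  generalize U 0 0 = a, U 0 1 = b, U 1 0 = c, U 1 1 = d, Y 0 0 = p, Y 0 1 = r, Y 1 0 = s, Y 1 1 = t at *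
  have t1 : a + d = -1 := cube_one h (by linear_combination u0 + u1 + (a + d) * (a * d - b * c) * h + h)
  have t2 : p + t = 0 := pow_eq_zero_iff two_ne_zero |>.1 (by linear_combination y0 + y1 + 2 * dY)
  obtain rfl : t = -p := by linear_combination t2
  obtain rfl : d = -1 - a := by linear_combination t1
  have n0 : (a - 1) ^ 2 + b * c = 0 := by linear_combination -dU - a * h
  have k1 : p * b = r * (a - 1) := mul_left_cancel₀ h2 (by linear_combination -c1 + r * h)
  have k2 : s * (a - 1) = p * c := mul_left_cancel₀ h2 (by linear_combination -c2 - s * h)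
  have a1 : a - 1 = 0 := pow_eq_zero_iff two_ne_zero |>.1 (by
    linear_combination (a - 1) ^ 2 * y0 - p ^ 2 * n0 + p * c * k1 - r * (a - 1) * k2)
  have b0 : b = 0 := pow_eq_zero_iff two_ne_zero |>.1 (by
    linear_combination b ^ 2 * y0 - r ^ 2 * n0 - (p * b + r * (a - 1)) * k1 - r * b * c0)
  have c0' : c = 0 := pow_eq_zero_iff two_ne_zero |>.1 (by
    linear_combination c ^ 2 * y0 - s ^ 2 * n0 + (p * c + s * (a - 1)) * k2 + s * c * c0)
  rw [b0, c0', show a = 1 by linear_combination a1, show (-1 - 1 : F) = 1 by linear_combination -h]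

theorem sub_mul {i j : Fin n} (hij : i ≠ j) (g : SU n F q) {g' : SU n F q}
    (h : ∀ v : Fin n → F, Sup {i, j} v → Sup {i, j} (g' • v)) :
    (mt (g * g')).submatrix ![i, j] ![i, j] = (mt g).submatrix ![i, j] ![i, j] * (mt g').submatrix ![i, j] ![i, j] := by
  ext a b
  rw [submatrix_apply, mt_mul, Matrix.mul_apply, Matrix.mul_apply, Fin.sum_univ_two,
    Fintype.sum_eq_add i j hij fun k hk => ?_]
  · rfl
  · rw [← smul_ee g', h _ (sup_ee (by fin_cases b <;> simp)) k (by simpa using hk), mul_zero]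

namespace Cy
variable (c : Cy q θ)
include c

theorem su2_three (h : q = 3) : ∃ a b : SU 2 F q, a ^ 3 = 1 ∧ b ^ 3 = 1 ∧ a * b * a = b * a * b ∧ (b⁻¹ * a) ^ 2 ≠ 1 ∧
    ∀ K : Subgroup (SU 2 F q), a ∈ K → b ∈ K → ∀ s, s ∈ K := by
  obtain ⟨-, e, -⟩ := c.exists_conj
  have h01 : (0 : Fin 2) ≠ 1 := by decide
  have hK : Fintype.card (fixF θ) = 3 := c.card_fix.trans h
  have h2 : (2 : fixF θ) ≠ 0 := fun e => c.two_ne h (congrArg Subtype.val e)
  refine ⟨e (SpecialLinearGroup.transvection h01 1), e (SpecialLinearGroup.transvection h01.symm (-1)),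
    by rw [← map_pow, ← hK, tv_pow, map_one], by rw [← map_pow, ← hK, tv_pow, map_one], ?_, fun e' => ?_,
    fun K ha hb s => ?_⟩
  · simp only [← map_mul]
    refine congrArg e (Subtype.ext ?_)
    ext i j
    fin_cases i <;> fin_cases j <;> simp [SpecialLinearGroup.transvection_coe, Matrix.mul_apply, Fin.sum_univ_two]
  · rw [← map_inv, ← map_mul, ← map_pow, map_eq_one_iff e e.injective, SpecialLinearGroup.transvection_inv,
      pow_two] at e'
    have := congrFun (congrFun (congrArg Subtype.val e') 0) 0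
    simp [SpecialLinearGroup.transvection_coe, Matrix.mul_apply, Fin.sum_univ_two] at this
  obtain ⟨s, rfl⟩ := e.surjective s
  refine SL2.transvection_induction (fun s => e s ∈ K) (fun i j hij a => ?_)
    (fun A B hA hB => by rw [map_mul]; exact mul_mem hA hB) s
  have k : ∀ x : fixF θ, e (SpecialLinearGroup.transvection hij x) ∈ K →
      e (SpecialLinearGroup.transvection hij (-x)) ∈ K := fun x hx => by
    rw [← SpecialLinearGroup.transvection_inv, map_inv]; exact inv_mem hx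
  have k1 : e (SpecialLinearGroup.transvection hij 1) ∈ K := by
    obtain ⟨rfl, rfl⟩ | ⟨rfl, rfl⟩ : (i = 0 ∧ j = 1) ∨ (i = 1 ∧ j = 0) := by clear k; revert i j; decide
    · exact ha
    · simpa using k _ hb
  have := FiniteField.pow_card a
  rw [hK] at this
  rcases mul_eq_zero.1 (show a * ((a - 1) * (a + 1)) = 0 by linear_combination this) with e' | e'
  · rw [e', SpecialLinearGroup.transvection_coeff_zero, map_one]; exact one_mem _
  rcases mul_eq_zero.1 e' with e' | e'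
  · rwa [sub_eq_zero.1 e']
  · rw [eq_neg_of_add_eq_zero_left e']; exact k _ k1

theorem inv_su2 (h2 : (2 : F) ≠ 0) {y : SU 2 F q} (y1 : y * y = 1) (y2 : y ≠ 1) : mt y = -1 := by
  have e := congrArg mt y1
  have d : (mt y).det = 1 := y.1.2
  rw [mt_mul, eta_fin_two (mt y), mul_fin_two] at e
  rw [det_fin_two] at d
  have e0 : _ = (1 : F) := congrFun (congrFun e 0) 0
  have e1 : _ = (0 : F) := congrFun (congrFun e 0) 1
  have e2 : _ = (0 : F) := congrFun (congrFun e 1) 0
  have e3 : _ = (1 : F) := congrFun (congrFun e 1) 1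
  simp only [of_apply, cons_val', cons_val_zero, cons_val_one, cons_val_fin_one] at e0 e1 e2 e3
  have t : mt y 0 0 + mt y 1 1 ≠ 0 := fun t => h2 (by linear_combination mt y 0 0 * t - e0 - d)
  have b : mt y 0 1 = 0 := (mul_eq_zero.1 (by linear_combination e1)).resolve_left t
  have b' : mt y 1 0 = 0 := (mul_eq_zero.1 (by linear_combination e2)).resolve_left t
  rw [b] at e0 d
  rcases mul_self_eq_one_iff.1 (show mt y 0 0 * mt y 0 0 = 1 by linear_combination e0) with a | a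
  · refine absurd (su_ext' ?_) y2
    rw [eta_fin_two (mt y), b, b', a, show mt y 1 1 = 1 by rw [a] at d; linear_combination d]
    exact one_fin_two.symm
  · rw [eta_fin_two (mt y), b, b', a, show mt y 1 1 = -1 by rw [a] at d; linear_combination -d]
    ext i j; fin_cases i <;> fin_cases j <;> simp

theorem inv_blk (h2 : (2 : F) ≠ 0) {i j : Fin n} (hij : i ≠ j) {z : SU n F q} (hz : z ∈ Blk F q {i, j}) (z1 : z * z = 1)
    (z2 : z ≠ 1) (k : Fin n) : z • ee F k = (if k = i ∨ k = j then (-1 : F) else 1) • ee F k := by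
  have hj : Function.Injective ![i, j] := by
    intro a b; fin_cases a <;> fin_cases b <;> simp [hij, hij.symm]
  obtain ⟨y, rfl⟩ := c.exists_emb hj (Blk_mono (fun k hk => by
    simp only [mem_insert, mem_singleton] at hk
    rcases hk with rfl | rfl
    exacts [mem_image.2 ⟨0, mem_univ _, rfl⟩, mem_image.2 ⟨1, mem_univ _, rfl⟩]) hz)
  have e := c.inv_su2 h2 (y := y) (c.emb_inj hj (by rw [map_mul, z1, map_one])) (by rintro rfl; exact z2 (map_one _))
  have k1 : ∀ a, c.emb hj y • ee F (![i, j] a) = (-1 : F) • ee F (![i, j] a) := fun a => by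
    rw [c.emb_ee, smul_eq, e, neg_mulVec, one_mulVec, mulVec_neg, Pm_ee, neg_one_smul]
  split_ifs with hk
  · rcases hk with rfl | rfl
    exacts [k1 0, k1 1]
  · rw [one_smul]; exact hz k (by simpa using hk)

theorem lemK (h : q = 3) {a b u : SU n F q} (ha : a ^ 3 = 1) (hb : b ^ 3 = 1) (hab : a * b * a = b * a * b)
    (hu : u ^ 3 = 1) (ua : Commute u a) (ub : Commute u b) {i j : Fin n} (hij : i ≠ j)
    (hz : ∀ k, (b⁻¹ * a) ^ 2 • ee F k = (if k = i ∨ k = j then (-1 : F) else 1) • ee F k) :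
    u • ee F i = ee F i ∧ u • ee F j = ee F j := by
  obtain ⟨-, z1, z2⟩ := braid ha hb hab
  have k : ∀ g : SU n F q, Commute g ((b⁻¹ * a) ^ 2) → ∀ v : Fin n → F, Sup {i, j} v → Sup {i, j} (g • v) :=
    fun g hg v hv k hk => by
      have e : (b⁻¹ * a) ^ 2 • v = -v := funext fun l => by
        rw [diag_apply hz]
        by_cases hl : l = i ∨ l = j
        · simp [hl]
        · simp [hl, hv l (by simpa using hl)]
      have := congrFun (congrArg (· • v) hg.eq) k
      simp only [mul_smul, e, smul_neg, diag_apply hz, if_neg (show ¬(k = i ∨ k = j) by simpa using hk),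
        Pi.neg_apply] at this
      exact (mul_eq_zero.1 (by linear_combination -this)).resolve_left (c.two_ne h)
  have uy := ub.inv_right.mul_right ua
  have ka := k a z1
  have kb := k b z2
  have ky := k _ (Commute.self_pow _ 2)
  have ku := k u (uy.pow_right 2)
  have o : (mt (1 : SU n F q)).submatrix ![i, j] ![i, j] = 1 := by
    ext a b; fin_cases a <;> fin_cases b <;> simp [mt, hij, hij.symm, one_apply]
  have e := mat2 (c.three_zero h) (A := (mt a).submatrix ![i, j] ![i, j]) (B := (mt b).submatrix ![i, j] ![i, j])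
    (Y := (mt (b⁻¹ * a)).submatrix ![i, j] ![i, j]) (U := (mt u).submatrix ![i, j] ![i, j])
    (by rw [← sub_mul hij _ ka, ← sub_mul hij _ ka, ← pow_three', ha, o])
    (by rw [← sub_mul hij _ kb, ← sub_mul hij _ kb, ← pow_three', hb, o])
    (by rw [← sub_mul hij _ ky, mul_inv_cancel_left])
    (by
      rw [← sub_mul hij _ ky, ← pow_two, mt_diag hz]
      ext a b; fin_cases a <;> fin_cases b <;> simp [hij, hij.symm])
    (by rw [← sub_mul hij _ ku, ← sub_mul hij _ ku, ← pow_three', hu, o])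
    (by rw [← sub_mul hij _ ky, ← sub_mul hij _ ku, uy.eq])
  have e0 := sup_pair hij (ku _ (sup_ee (i := i) (by simp)))
  have e1 := sup_pair hij (ku _ (sup_ee (i := j) (by simp)))
  rw [smul_ee, smul_ee, show mt u i i = 1 from congrFun (congrFun e 0) 0,
    show mt u j i = 0 from congrFun (congrFun e 1) 0] at e0
  rw [smul_ee, smul_ee, show mt u j j = 1 from congrFun (congrFun e 1) 1,
    show mt u i j = 0 from congrFun (congrFun e 0) 1] at e1
  exact ⟨by simpa using e0, by simpa using e1⟩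

theorem center4 (h : q = 3) {z : SU 4 F q} (hz : z ∈ Subgroup.center _) : z ^ 4 = 1 := by
  have := c.center_pow (by omega) hz
  rwa [show Nat.gcd 4 (q + 1) = 4 by rw [h]; rfl] at this

theorem lift3 (h : q = 3) {π : SU 4 F q →* G} (hk : ∀ x, π x = 1 → x ∈ Subgroup.center _) {x : G} (hx : x ∈ π.range)
    (h3 : x ^ 3 = 1) : ∃ g, π g = x ∧ g ^ 3 = 1 := by
  obtain ⟨g, rfl⟩ := hx
  exact ⟨g ^ 4, by rw [map_pow, pow_succ, h3, one_mul],
    by rw [← pow_mul, mul_comm, pow_mul, c.center4 h (hk _ (by rw [map_pow, h3]))]⟩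

theorem uniq3 (h : q = 3) {π : SU 4 F q →* G} (hk : ∀ x, π x = 1 → x ∈ Subgroup.center _) {g g' : SU 4 F q}
    (e : π g = π g') (h1 : g ^ 3 = 1) (h2 : g' ^ 3 = 1) : g = g' := by
  have hz := hk (g⁻¹ * g') (by rw [map_mul, map_inv, e, inv_mul_cancel])
  have hc : Commute g (g⁻¹ * g') := Subgroup.mem_center_iff.1 hz _
  have e1 := hc.mul_pow 3
  rw [mul_inv_cancel_left, h1, h2, one_mul] at e1
  have e2 := c.center4 h hz
  rwa [pow_succ, ← e1, one_mul, inv_mul_eq_one] at e2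

theorem perm_exists {σ : Fin n → Fin n} (hσ : Function.Injective σ) (j : Fin n) :
    ∃ w : SU n F q, ∀ k, ∃ b : F, w • ee F k = b • ee F (σ k) := by
  have hb := Finite.injective_iff_bijective.1 hσ
  obtain ⟨w, -, hw⟩ := c.exists_fix_det (A := Pm F σ) (S := univ) (j := j) (fun u v => by
    rw [hf, ← hb.sum_comp]; simp only [Pm_apply hσ]; rfl) (mem_univ _) fun _ h => absurd (mem_univ _) h
  simp only [Pm_ee] at hw
  refine ⟨w, fun k => ?_⟩
  by_cases hk : k = j
  · refine ⟨(w • ee F k) (σ k), funext fun l => ?_⟩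
    obtain ⟨l, rfl⟩ := hb.2 l
    by_cases e : l = k
    · simp [e]
    · rw [← hf_ee_right (θ := θ) (w • ee F k) (σ l), ← hw l (hk ▸ e), c.map, hf_ee_right]
      simp [e, hσ.eq_iff]
  · exact ⟨1, by rw [hw k hk, one_smul]⟩

theorem inv_form (h : q = 3) {z : SU 4 F q} (z1 : z * z = 1) (z2 : z ∉ Subgroup.center _) :
    ∃ g : SU 4 F q, ∀ k : Fin 4, (g⁻¹ * z * g) • ee F k = (if k = 0 ∨ k = 1 then (-1 : F) else 1) • ee F k := by
  obtain ⟨g, -, hg⟩ := c.diagT (Or.inr ⟨h, rfl⟩) univ z (by rw [pow_two, z1]) fun v _ _ h => absurd (mem_univ _) h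
  choose! a ha using hg
  replace ha := fun k => ha k (mem_univ _)
  have a1 : ∀ k, a k = 1 ∨ a k = -1 := fun k => by
    have : (g⁻¹ * z * g) • (g⁻¹ * z * g) • ee F k = ee F k := by
      rw [← mul_smul, show g⁻¹ * z * g * (g⁻¹ * z * g) = g⁻¹ * (z * z) * g by group, z1]; simp
    rw [ha, smul_comm, ha] at this
    exact mul_self_eq_one_iff.1 (by simpa using congrFun this k)
  have a2 : a 0 * a 1 * a 2 * a 3 = 1 := by
    have := (g⁻¹ * z * g).1.2
    rwa [show (g⁻¹ * z * g).1.1 = _ from mt_diag ha, det_diagonal, Fin.prod_univ_four] at this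
  have a3 : ¬ (a 1 = a 0 ∧ a 2 = a 0 ∧ a 3 = a 0) := fun e => z2 (by
    have k1 : mt (g⁻¹ * z * g) = a 0 • (1 : Matrix (Fin 4) (Fin 4) F) := by
      rw [mt_diag ha, smul_one_eq_diagonal]
      exact congrArg _ (funext fun k => by fin_cases k; exacts [rfl, e.1, e.2.1, e.2.2])
    have k2 : g⁻¹ * z * g ∈ Subgroup.center _ :=
      Subgroup.mem_center_iff.2 fun g => su_ext' (by rw [mt_mul, mt_mul _ g, k1]; simp)
    have := Subgroup.mem_center_iff.1 k2 g
    rwa [show z = g⁻¹ * z * g from mul_right_cancel (b := g) (by rw [← this]; group)])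
  have a4 : (-1 : F) ≠ 1 := fun e => c.two_ne h (by linear_combination -e)
  obtain ⟨σ, s1, s2⟩ : ∃ σ : Fin 4 → Fin 4, Function.Injective σ ∧ a (σ 0) = -1 ∧ a (σ 1) = -1 ∧ a (σ 2) = 1 ∧
      a (σ 3) = 1 := by
    rcases a1 0 with b0 | b0 <;> rcases a1 1 with b1 | b1 <;> rcases a1 2 with b2 | b2 <;> rcases a1 3 with b3 | b3 <;>
      first
      | exact ⟨![0, 1, 2, 3], by decide, b0, b1, b2, b3⟩
      | exact ⟨![0, 2, 1, 3], by decide, b0, b2, b1, b3⟩
      | exact ⟨![0, 3, 1, 2], by decide, b0, b3, b1, b2⟩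
      | exact ⟨![1, 2, 0, 3], by decide, b1, b2, b0, b3⟩
      | exact ⟨![1, 3, 0, 2], by decide, b1, b3, b0, b2⟩
      | exact ⟨![2, 3, 0, 1], by decide, b2, b3, b0, b1⟩
      | (exfalso; apply a4; simpa [b0, b1, b2, b3] using a2)
      | (exfalso; apply a3; simp [b0, b1, b2, b3])
  obtain ⟨w, hw⟩ := c.perm_exists s1 0
  refine ⟨g * w, fun k => ?_⟩
  obtain ⟨b, hb⟩ := hw k
  rw [show (g * w)⁻¹ * z * (g * w) = w⁻¹ * (g⁻¹ * z * g) * w by group, mul_smul, mul_smul, hb, smul_comm _ b, ha,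
    smul_comm b, ← hb, smul_comm, inv_smul_smul]
  fin_cases k <;> simp [s2]

theorem blk_range {i j : Fin n} (hij : i ≠ j) : ∃ E : SU 2 F q →* SU n F q, Function.Injective E ∧
    E.range = Blk F q {i, j} := by
  have hj : Function.Injective ![i, j] := by
    intro a b; fin_cases a <;> fin_cases b <;> simp [hij, hij.symm]
  refine ⟨_, c.emb_inj hj, (c.emb_range hj).trans (congrArg _ ?_)⟩
  ext k; simp [Fin.exists_fin_two, eq_comm]

theorem map_blk {i j : Fin n} (hij : i ≠ j) (π : SU n F q →* G) {α : SU 2 F q →* G} (hα : Function.Injective α)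
    (h : α.range ≤ (Blk F q {i, j}).map π) : (Blk F q {i, j}).map π = α.range := by
  obtain ⟨E, -, e⟩ := c.blk_range hij
  rw [← e, ← MonoidHom.range_comp] at h ⊢
  exact (range_eq hα h).symm

theorem three_A (h : q = 3) {π : SU 4 F q →* G} (hk : ∀ x, π x = 1 → x ∈ Subgroup.center _) {α γ : SU 2 F q →* G}
    (hα : Function.Injective α) (hγ : Function.Injective γ) (ra : α.range ≤ π.range) (rc : γ.range ≤ π.range)
    (hc : ∀ s s', α s * γ s' = γ s' * α s) (hn : ∀ s, (∀ x, π x * α s = α s * π x) → s = 1) :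
    ∃ g : SU 4 F q, (Blk F q {0, 1}).map (π.comp (MulAut.conj g).toMonoidHom) = α.range ∧
      (Blk F q {2, 3}).map (π.comp (MulAut.conj g).toMonoidHom) = γ.range := by
  obtain ⟨a, b, a1, b1, ab, z0, gen⟩ := c.su2_three h
  have lift : ∀ (π : SU 4 F q →* G) (hk : ∀ x, π x = 1 → x ∈ Subgroup.center _) (α : SU 2 F q →* G),
      α.range ≤ π.range → ∃ x y, π x = α a ∧ π y = α b ∧ x ^ 3 = 1 ∧ y ^ 3 = 1 ∧ x * y * x = y * x * y ∧
        π ((y⁻¹ * x) ^ 2) = α ((b⁻¹ * a) ^ 2) := fun π hk α ra => by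
    obtain ⟨x, x1, x2⟩ := c.lift3 h hk (ra ⟨a, rfl⟩) (by rw [← map_pow, a1, map_one])
    obtain ⟨y, y1, y2⟩ := c.lift3 h hk (ra ⟨b, rfl⟩) (by rw [← map_pow, b1, map_one])
    refine ⟨x, y, x1, y1, x2, y2, ?_, by simp [x1, y1]⟩
    rw [mul_assoc y, ← mul_inv_eq_iff_eq_mul]
    refine c.uniq3 h hk ?_ (by rw [conj_pow, x2]; group) y2
    simp only [map_mul, map_inv, x1, y1]
    rw [mul_inv_eq_iff_eq_mul, ← mul_assoc]
    simpa using congrArg α ab
  obtain ⟨x, y, x1, y1, x2, y2, xy, z1⟩ := lift π hk α ra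
  obtain ⟨g, hg⟩ := c.inv_form h (braid x2 y2 xy).1 fun e => z0 (hn _ fun t => by
    rw [← z1, ← map_mul, ← map_mul, Subgroup.mem_center_iff.1 e])
  refine ⟨g, ?_⟩
  have hk' : ∀ t, (π.comp (MulAut.conj g).toMonoidHom) t = 1 → t ∈ Subgroup.center _ := fun t ht =>
    Subgroup.mem_center_iff.2 fun s => (MulAut.conj g).injective (by
      rw [map_mul, map_mul]; exact Subgroup.mem_center_iff.1 (hk _ ht) _)
  have hr : (π.comp (MulAut.conj g).toMonoidHom).range = π.range := by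
    rw [MonoidHom.range_comp, MonoidHom.range_eq_top.2 (MulAut.conj g).surjective, ← MonoidHom.range_eq_map]
  obtain ⟨u, v, u1, v1, u2, v2, uv, z2⟩ := lift _ hk' γ (hr ▸ rc)
  have x1' : (π.comp (MulAut.conj g).toMonoidHom) (g⁻¹ * x * g) = α a := by simpa [mul_assoc] using x1
  have y1' : (π.comp (MulAut.conj g).toMonoidHom) (g⁻¹ * y * g) = α b := by simpa [mul_assoc] using y1
  have p3 : ∀ x : SU 4 F q, x ^ 3 = 1 → (g⁻¹ * x * g) ^ 3 = 1 := fun x hx => by
    rw [show g⁻¹ * x * g = g⁻¹ * x * g⁻¹⁻¹ by rw [inv_inv], conj_pow, hx]; group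
  have xy' : g⁻¹ * x * g * (g⁻¹ * y * g) * (g⁻¹ * x * g) = g⁻¹ * y * g * (g⁻¹ * x * g) * (g⁻¹ * y * g) := by
    calc _ = g⁻¹ * (x * y * x) * g := by group
      _ = _ := by rw [xy]; group
  rw [show g⁻¹ * (y⁻¹ * x) ^ 2 * g = ((g⁻¹ * y * g)⁻¹ * (g⁻¹ * x * g)) ^ 2 by rw [pow_two, pow_two]; group] at hg
  have x2' := p3 x x2
  have y2' := p3 y y2
  generalize g⁻¹ * x * g = x, g⁻¹ * y * g = y, π.comp (MulAut.conj g).toMonoidHom = ρ at *
  have cm : ∀ {x u : SU 4 F q} {s s'}, ρ x = α s → ρ u = γ s' → u ^ 3 = 1 → Commute x u := fun {x u s s'} e e' hu =>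
    mul_inv_eq_iff_eq_mul.1 (c.uniq3 h hk' (by simp only [map_mul, map_inv, e, e', hc]; group)
      (by rw [conj_pow, hu]; group) hu)
  have b01 : ∀ t : SU 4 F q, t • ee F (0 : Fin 4) = ee F 0 ∧ t • ee F (1 : Fin 4) = ee F 1 → t ∈ Blk F q {2, 3} :=
    fun t ht k hk => by
      obtain rfl | rfl : k = 0 ∨ k = 1 := by revert k; decide
      exacts [ht.1, ht.2]
  have b23 : ∀ t : SU 4 F q, t • ee F (2 : Fin 4) = ee F 2 ∧ t • ee F (3 : Fin 4) = ee F 3 → t ∈ Blk F q {0, 1} :=
    fun t ht k hk => by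
      obtain rfl | rfl : k = 2 ∨ k = 3 := by revert k; decide
      exacts [ht.1, ht.2]
  have u3 := b01 u (c.lemK h x2' y2' xy' u2 (cm x1' u1 u2).symm (cm y1' u1 u2).symm (by decide) hg)
  have v3 := b01 v (c.lemK h x2' y2' xy' v2 (cm x1' v1 v2).symm (cm y1' v1 v2).symm (by decide) hg)
  have hg' := c.inv_blk (c.two_ne h) (by decide) (pow_mem (mul_mem (inv_mem v3) u3) 2) (braid u2 v2 uv).1
    fun e => z0 (hγ (by rw [← z2, e, map_one, map_one]))
  have x3 := b23 x (c.lemK h u2 v2 uv x2' (cm x1' u1 u2) (cm x1' v1 v2) (by decide) hg')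
  have y3 := b23 y (c.lemK h u2 v2 uv y2' (cm y1' u1 u2) (cm y1' v1 v2) (by decide) hg')
  refine ⟨c.map_blk (by decide) _ hα ?_, c.map_blk (by decide) _ hγ ?_⟩
  · rintro _ ⟨s, rfl⟩
    exact gen (((Blk F q {0, 1}).map ρ).comap α) ⟨x, x3, x1'⟩ ⟨y, y3, y1'⟩ s
  · rintro _ ⟨s, rfl⟩
    exact gen (((Blk F q {2, 3}).map ρ).comap γ) ⟨u, u3, u1⟩ ⟨v, v3, v1⟩ s

end Cy

end Cfsg.Agent.H28.Ph
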