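import Cfsg.Agent.H27.GL2c

/-! Elements of odd order normalizing a large 2-subgroup of `GL₂` are scalar. -/

set_option autoImplicit false

namespace Cfsg.Agent.H28

open Cfsg.Agent.H27 Matrix Subgroup

theorem pr_eq_one {G : Type*} [Group G] {D : Subgroup G} (hD : IsPGroup 2 D) {x : G} (hx : x ∈ D) {N : ℕ} (hN : Odd N)
    (h : x ^ N = 1) : x = 1 := by
  obtain ⟨k, hk⟩ := hD ⟨x, hx⟩
  exact orderOf_eq_one_iff.1 (Nat.eq_one_of_dvd_coprimes ((Nat.coprime_two_right.2 hN).pow_right k)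
    (orderOf_dvd_of_pow_eq_one h) (orderOf_dvd_of_pow_eq_one (congrArg Subtype.val hk)))

theorem pr_commute {G : Type*} [Group G] {y a : G} {N : ℕ} (hN : Odd N) (hy : y ^ N = 1) (h : Commute (y * y) a) :
    Commute y a := by
  obtain ⟨k, rfl⟩ := hN
  have : y = (y * y) ^ (k + 1) := by
    rw [← sq, ← pow_mul, show 2 * (k + 1) = 2 * k + 1 + 1 by ring, pow_succ, hy, one_mul]
  rw [this]; exact h.pow_left _

theorem exists_cent_inv {G : Type*} [Group G] {D : Subgroup G} [Finite D] (hD : IsPGroup 2 D) (Z : Subgroup G) [Z.Normal]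
    (h : ¬ D ≤ Z) : ∃ a ∈ D, a ∉ Z ∧ a * a ∈ Z ∧ ∀ d ∈ D, d * a * d⁻¹ * a⁻¹ ∈ Z := by
  let φ := ((QuotientGroup.mk' Z).comp D.subtype).rangeRestrict
  have hφ : Function.Surjective φ := MonoidHom.rangeRestrict_surjective _
  have k : ∀ d : D, φ d = 1 ↔ (d : G) ∈ Z := fun d => Subtype.ext_iff.trans (QuotientGroup.eq_one_iff _)
  have := Finite.of_surjective _ hφ
  have h1 := hD.of_surjective φ hφ
  obtain ⟨d, hd, hd'⟩ := SetLike.not_le_iff_exists.1 h
  have : Nontrivial _ := ⟨⟨φ ⟨d, hd⟩, 1, fun e => hd' ((k _).1 e)⟩⟩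
  have := h1.center_nontrivial
  obtain ⟨n, hn, e⟩ := (h1.to_subgroup (center _)).nontrivial_iff_card.1 this
  obtain ⟨⟨z, hz⟩, h2⟩ := exists_prime_orderOf_dvd_card' 2 (e ▸ dvd_pow_self 2 hn.ne')
  obtain ⟨a, rfl⟩ := hφ z
  rw [Subgroup.orderOf_mk] at h2
  refine ⟨a, a.2, fun h => by simp [(k a).2 h] at h2, (k (a * a)).1 (by rw [map_mul, ← sq, ← h2, pow_orderOf_eq_one]),
    fun d hd => (k (⟨d, hd⟩ * a * ⟨d, hd⟩⁻¹ * a⁻¹)).1 ?_⟩
  simp only [map_mul, map_inv]
  rw [mem_center_iff.1 hz]; simp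

variable {K : Type*} [Field K]

theorem mem_center_g2 {g : G2 K} : g ∈ center (G2 K) ↔ Scal (g : M2 K) := by
  rw [GeneralLinearGroup.mem_center_iff_val_mem_range_scalar, scal_iff]
  exact exists_congr fun a => by rw [eq_comm, scalar_apply, smul_one_eq_diagonal]

theorem g2_conj_pm {a d : G2 K} (h1 : a * a ∈ center (G2 K)) {c : K} (h : ((d * a * d⁻¹ : G2 K) : M2 K) = c • (a : M2 K)) :
    d * a * d⁻¹ = a ∨ d * a * d⁻¹ = -a := by
  have h2 : (d * a * d⁻¹) * (d * a * d⁻¹) = a * a := by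
    rw [conj_mul, mem_center_iff.1 h1 d, mul_inv_cancel_right]
  have h3 := congrArg (fun x : G2 K => (x : M2 K) * ((a * a)⁻¹ : G2 K)) h2
  simp only [Units.val_mul (d * a * d⁻¹), h, Units.mul_inv] at h3
  rw [smul_mul_smul_comm, smul_mul_assoc, ← Units.val_mul, Units.mul_inv] at h3
  have h4 : c * c = 1 := by simpa using congrFun (congrFun h3 0) 0
  rcases mul_self_eq_one_iff.1 h4 with rfl | rfl
  · exact Or.inl (Units.ext (by rw [h, one_smul]))
  · exact Or.inr (Units.ext (by rw [h, neg_one_smul, Units.val_neg]))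

theorem g2_relIndex {D : Subgroup (G2 K)} {a : G2 K} (h : ∀ d ∈ D, d * a * d⁻¹ = a ∨ d * a * d⁻¹ = -a) :
    (centralizer {a}).relIndex D ≤ 2 := by
  refine Nat.le_of_dvd two_pos (relIndex_dvd_two_iff.2 ?_)
  simp only [mem_centralizer_singleton_iff, ← mul_inv_eq_iff_eq_mul]
  by_cases h1 : ∃ s ∈ D, s * a * s⁻¹ = -a
  · obtain ⟨s, hs, h1⟩ := h1
    refine ⟨s, hs, fun b hb => (h b hb).symm.imp_left fun e => ?_⟩
    rw [show b * s * a * (b * s)⁻¹ = b * (s * a * s⁻¹) * b⁻¹ by group, h1, mul_neg, neg_mul, e, neg_neg]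
  · exact ⟨1, one_mem _, fun b hb => Or.inr ((h b hb).resolve_right fun e => h1 ⟨b, hb, e⟩)⟩

theorem g2_scal (h2 : (2 : K) ≠ 0) {D : Subgroup (G2 K)} [Finite D] (hD : IsPGroup 2 D)
    (h8 : 4 < (center (G2 K)).relIndex D) (hna : ∃ g ∈ D, ∃ h ∈ D, g * h ≠ h * g)
    {y : G2 K} {N : ℕ} (hN : Odd N) (hy : y ^ N = 1) (hn : ∀ d, d ∈ D ↔ y * d * y⁻¹ ∈ D) : Scal (y : M2 K) := by
  obtain ⟨g, hg, h, hh, hgh⟩ := hna
  obtain ⟨a, ha, a1, a2, a3⟩ := exists_cent_inv hD (center (G2 K)) fun e => hgh (mem_center_iff.1 (e hh) g)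
  have a4 : ∀ d ∈ D, d * a * d⁻¹ = a ∨ d * a * d⁻¹ = -a := fun d hd => by
    obtain ⟨c, hc⟩ := scal_iff.1 (mem_center_g2.1 (a3 d hd))
    refine g2_conj_pm a2 (c := c) ?_
    rw [← inv_mul_cancel_right (d * a * d⁻¹) a, Units.val_mul, hc, smul_mul_assoc, one_mul]
  rw [mem_center_g2] at a1
  obtain ⟨s, hs, a5⟩ : ∃ s ∈ D, s * a * s⁻¹ = -a := by
    by_contra h0
    have : ∀ d ∈ D, (d : M2 K) * a = a * d := fun d hd => congrArg Units.val
      (mul_inv_eq_iff_eq_mul.1 ((a4 d hd).resolve_right fun e => h0 ⟨d, hd, e⟩))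
    exact hgh (Units.ext (comm_of_comm a1 (this g hg) (this h hh)))
  have b1 : ¬ Scal ((y * a * y⁻¹ : G2 K) : M2 K) := fun e => a1 (mem_center_g2.1 (by
    simpa [mul_assoc] using (inferInstance : (center (G2 K)).Normal).conj_mem' _ (mem_center_g2.2 e) y))
  have b2 : ((y * a * y⁻¹ : G2 K) : M2 K) * a = a * (y * a * y⁻¹ : G2 K) := by
    by_contra h0
    have c1 := g2_relIndex (D := D) (a := y * a * y⁻¹) fun d hd => by
      have := a4 (y⁻¹ * d * y) ((hn _).2 (by simpa [mul_assoc] using hd))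
      rw [show d * (y * a * y⁻¹) * d⁻¹ = y * (y⁻¹ * d * y * a * (y⁻¹ * d * y)⁻¹) * y⁻¹ by group]
      exact this.imp (fun e => by rw [e]) fun e => by rw [e, mul_neg, neg_mul]
    have c2 := relIndex_le_of_le_left (L := D) (show centralizer {a} ⊓ centralizer {y * a * y⁻¹} ≤ center (G2 K) from
      fun x hx => by
        obtain ⟨α, β, e⟩ := exists_of_comm a1 (mem_cent_iff.1 hx.1)
        have := mem_cent_iff.1 hx.2
        rw [mem_center_g2, e, scal_lin a1]
        by_contra hβ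
        rw [e] at this
        simp only [add_mul, mul_add, smul_mul_assoc, mul_smul_comm, one_mul, mul_one, add_right_inj] at this
        exact h0 (smul_right_injective _ hβ this).symm) index_ne_zero_of_finite
    have c3 := c2.trans (relIndex_inf_le.trans (Nat.mul_le_mul (g2_relIndex a4) c1))
    omega
  obtain ⟨μ, hμ⟩ := scal_iff.1 (mem_center_g2.1 a2)
  rw [Units.val_mul] at hμ
  obtain ⟨α, β, e⟩ := exists_of_comm a1 b2
  have b3 : α = 0 := by
    have c1 : Scal ((y * a * y⁻¹ * (y * a * y⁻¹) : G2 K) : M2 K) := mem_center_g2.1 (by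
      rw [conj_mul]; exact (inferInstance : (center (G2 K)).Normal).conj_mem _ a2 y)
    rw [Units.val_mul, e, show (α • (1 : M2 K) + β • (a : M2 K)) * (α • (1 : M2 K) + β • (a : M2 K)) =
      (α * α + β * β * μ) • (1 : M2 K) + (2 * α * β) • (a : M2 K) by
        simp only [add_mul, mul_add, smul_mul_assoc, mul_smul_comm, one_mul, mul_one, hμ]; module, scal_lin a1] at c1
    rw [e, scal_lin a1] at b1
    simpa [h2, b1] using c1
  rw [b3, zero_smul, zero_add] at e
  have b4 : Commute y a := pr_commute hN hy (by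
    refine mul_inv_eq_iff_eq_mul.1 ?_
    rw [show y * y * a * (y * y)⁻¹ = y * (y * a * y⁻¹) * y⁻¹ by group]
    rcases g2_conj_pm a2 e with e | e
    · rw [e, e]
    · rw [e, mul_neg, neg_mul, e, neg_neg])
  obtain ⟨γ, δ, e1⟩ := exists_of_comm a1 (congrArg Units.val b4.eq)
  have e2 : ((s * y * s⁻¹ : G2 K) : M2 K) = γ • (1 : M2 K) + (-δ) • (a : M2 K) := by
    have := congrArg Units.val a5
    simp only [Units.val_mul, Units.val_neg] at this ⊢
    rw [e1]
    simp only [add_mul, mul_add, smul_mul_assoc, mul_smul_comm, mul_one, Units.mul_inv, this, smul_neg, neg_smul]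
  have b5 : Commute y (s * y * s⁻¹) := Units.ext (by
    rw [Units.val_mul, Units.val_mul (s * y * s⁻¹), e2]
    exact comm_of_comm a1 (congrArg Units.val b4.eq) (by simp [add_mul, mul_add]))
  have b6 := pr_eq_one hD (x := y * (s * y * s⁻¹)⁻¹) (by
    simpa [mul_assoc] using mul_mem ((hn s).1 hs) (inv_mem hs)) hN (by
    rw [b5.inv_right.mul_pow, inv_pow, conj_pow, hy]; simp)
  have b7 := (lin_inj a1 (e1.symm.trans ((congrArg Units.val (mul_inv_eq_one.1 b6)).trans e2))).2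
  rw [e1, scal_lin a1]
  exact (mul_eq_zero.1 (show 2 * δ = 0 by linear_combination b7)).resolve_left h2

theorem g2_inv (h2 : (2 : K) ≠ 0) {z : G2 K} (h : z * z = 1) (hd : (z : M2 K).det = 1) : z = 1 ∨ z = -1 := by
  have h1 := congrArg Units.val h
  rw [Units.val_mul, Units.val_one, m2ext_iff] at h1
  simp only [m2mul, one_apply_eq, ne_eq, zero_ne_one, not_false_eq_true, one_apply_ne, one_ne_zero] at h1
  obtain ⟨a1, a2, a3, a4⟩ := h1
  rw [det_fin_two] at hd
  have b1 : (z : M2 K) 0 0 + (z : M2 K) 1 1 ≠ 0 := fun e => h2 (by linear_combination (z : M2 K) 0 0 * e - a1 - hd)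
  have b2 : (z : M2 K) 0 1 = 0 := (mul_eq_zero.1 (by linear_combination a2)).resolve_right b1
  have b3 : (z : M2 K) 1 0 = 0 := (mul_eq_zero.1 (by linear_combination a3)).resolve_right b1
  rw [b2] at a1 hd
  rcases mul_self_eq_one_iff.1 (show (z : M2 K) 0 0 * (z : M2 K) 0 0 = 1 by linear_combination a1) with e | e
  · exact Or.inl (Units.ext (m2ext (by simpa using e) (by simpa using b2) (by simpa using b3) (by
      rw [e] at hd; simpa using hd)))
  · exact Or.inr (Units.ext (m2ext (by simpa using e) (by simpa using b2) (by simpa using b3) (by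
      rw [e] at hd; simp; linear_combination -hd)))

end Cfsg.Agent.H28
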