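import Cfsg.Agent.H28.US7
import Cfsg.Agent.H28.UT2
import Cfsg.Agent.H28.UT3
import Cfsg.Agent.H21.Leech14

/-! Presentations of `SU₄(2)`, `SU₄(3)` and of `SU n` for all fields. -/

set_option autoImplicit false
set_option linter.unusedSectionVars false
set_option maxRecDepth 100000

namespace Cfsg.Agent.H28.US

open Subgroup L0 Matrix Ph Function H17
open scoped MatrixGroups

section
variable {F : Type} [Field F] {A : Ar F} {n q : ℕ} {m : ℕ → SU n F q} {Ms : List (List (List ℕ))}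

/-- code of a vector -/
noncomputable def codeV (A : Ar F) (r : List ℕ) (acc t : ℕ) : ℕ :=
  Nat.rec (motive := fun _ => ℕ) acc (fun i ih => Nat.add (Nat.mul ih 16) (A.nrm (nth 0 r i))) t

/-- code of a word -/
noncomputable def codeW (A : Ar F) (n : ℕ) (Ms : List (List (List ℕ))) (u : List ℕ) (t : ℕ) : ℕ :=
  Nat.rec (motive := fun _ => ℕ) 0 (fun j ih => A.appW n Ms u (unitV n j) fun r => codeV A r ih n) t

theorem codeV_congr {r s : List ℕ} (h : A.vec (Equiv.refl (Fin n)) r = A.vec (Equiv.refl _) s) (acc : ℕ) :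
    ∀ t, t ≤ n → codeV A r acc t = codeV A s acc t
  | 0, _ => rfl
  | t + 1, ht => by
    change Nat.add (Nat.mul (codeV A r acc t) 16) _ = Nat.add (Nat.mul (codeV A s acc t) 16) _
    rw [codeV_congr h acc t (by omega), show A.nrm (nth 0 r t) = A.nrm (nth 0 s t) from A.inj _ _ (congrFun h ⟨t, ht⟩)]

theorem codeW_congr (h : MRep A (Equiv.refl _) (τU n F q) m Ms) {u v : List ℕ} (e : ev m u = ev m v) :
    ∀ t, codeW A n Ms u t = codeW A n Ms v t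
  | 0 => rfl
  | t + 1 => by
    obtain ⟨r, -, h1, h2⟩ := h.appW (Ar.length_unitV n t).le u fun r => codeV A r (codeW A n Ms u t) n
    obtain ⟨s, -, h3, h4⟩ := h.appW (Ar.length_unitV n t).le v fun r => codeV A r (codeW A n Ms v t) n
    exact h2.trans (Eq.trans (by rw [codeW_congr h e t, codeV_congr (h1.trans (e ▸ h3.symm)) _ n le_rfl]) h4.symm)

/-- increasing values -/
noncomputable def chainB (f : List ℕ → ℕ) (W : List (List ℕ)) : ℕ → Bool :=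
  List.rec (motive := fun _ => ℕ → Bool) (fun _ => true)
    (fun w _ ih p => forceS (f w) fun c => band (ltB p c) (ih c)) W

theorem chainB_sound {f : List ℕ → ℕ} : ∀ {W : List (List ℕ)} {p : ℕ}, chainB f W p = true →
    (∀ w ∈ W, p < f w) ∧ W.Pairwise fun a b => f a < f b
  | [], _, _ => by simp
  | w :: W, p, h => by
    change forceS (f w) (fun c => band (ltB p c) (chainB f W c)) = true at h
    rw [forceS_eq, band_true] at h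
    obtain ⟨h1, h2⟩ := chainB_sound h.2
    exact ⟨List.forall_mem_cons.2 ⟨ltB_true h.1, fun x hx => (ltB_true h.1).trans (h1 x hx)⟩, .cons h1 h2⟩

/-- check that two words generate a block -/
noncomputable def blkB (A : Ar F) (n : ℕ) (Ms : List (List (List ℕ))) (T : List ℕ) (a b : List ℕ)
    (W : List (List ℕ)) : Bool :=
  band (allL [a, b] fun u => allL T fun k => A.appW n Ms u (unitV n k) fun r => A.veqS 1 r (unitV n k))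
    (chainB (fun w => codeW A n Ms (substW [a, b] w) n) W 0)

theorem blk_gen [Fintype F] (h : MRep A (Equiv.refl _) (τU n F q) m Ms) {S : Finset (Fin n)} {T : List ℕ}
    (hT : ∀ k, k ∉ S → k.1 ∈ T) (a b : List ℕ) (W : List (List ℕ)) (hc : blkB A n Ms T a b W = true)
    (hN : Nat.card (Blk F q S) ≤ W.length) : closure {ev m a, ev m b} = Blk F q S := by
  rw [blkB, band_true] at hc
  have k : ∀ u ∈ [a, b], ev m u ∈ Blk F q S := fun u hu k hk => by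
    have := allL_true (allL_true hc.1 u hu) _ (hT k hk)
    obtain ⟨r, -, h1, h2⟩ := h.appW (Ar.length_unitV n k).le u fun r => A.veqS 1 r (unitV n k)
    have e := A.vec_unitV (Equiv.refl (Fin n)) k
    have e' := A.veq1_sound (Equiv.refl (Fin n)) (h2 ▸ this)
    exact ((congrArg _ e).symm.trans h1.symm).trans (e'.symm.trans e)
  refine eq_of_le_of_card_ge ((closure_le _).2 (by
    rintro _ (rfl | rfl); exacts [k a (by simp), k b (by simp)])) (hN.trans ?_)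
  have nd : (W.map (ev (sub [a, b] m))).Nodup := List.pairwise_map.2 ((chainB_sound hc.2).2.imp fun l e =>
    l.ne (codeW_congr h (by rw [← ev_sub, ← ev_sub]; exact e) n))
  classical
  rw [← List.length_map (ev (sub [a, b] m)), ← List.toFinset_card_of_nodup nd, ← Set.ncard_coe_finset]
  refine le_of_le_of_eq (Set.ncard_le_ncard fun x hx => ?_) (Nat.card_coe_set_eq _).symm
  obtain ⟨w, -, rfl⟩ := List.mem_map.1 (List.mem_toFinset.1 hx)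
  refine ev_mem fun x _ => nth_prop (P := fun r => ev m r ∈ closure {ev m a, ev m b}) (one_mem _) (fun u hu => ?_) x
  simp only [List.mem_cons, List.not_mem_nil, or_false] at hu
  exact subset_closure (by rcases hu with rfl | rfl <;> simp)

end

theorem gen2_of {G G' : Type} [Group G] [Group G'] {E : G →* G'} (hE : Injective E) {a b : G'}
    (h : closure {a, b} = E.range) : ∃ x y : G, closure {x, y} = ⊤ := by
  obtain ⟨x, rfl⟩ : a ∈ E.range := h ▸ subset_closure (by simp)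
  obtain ⟨y, rfl⟩ : b ∈ E.range := h ▸ subset_closure (by simp)
  exact ⟨x, y, map_injective hE (by
    rw [MonoidHom.map_closure, Set.image_pair, h, MonoidHom.range_eq_map])⟩

/-- three letters and their inverses -/
noncomputable def ext3 {H : Type} [Group H] (g : Fin 3 → H) : ℕ → H :=
  nth 1 [g 0, (g 0)⁻¹, g 1, (g 1)⁻¹, g 2, (g 2)⁻¹]

theorem six {P : ℕ → Prop} (h0 : P 0) (h1 : P 1) (h2 : P 2) (h3 : P 3) (h4 : P 4) (h5 : P 5)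
    (h : ∀ x, 6 ≤ x → P x) (x : ℕ) : P x := by
  by_cases hx : 6 ≤ x
  · exact h x hx
  · have : x < 6 := by omega
    interval_cases x <;> assumption

theorem ext3_ge {H : Type} [Group H] (g : Fin 3 → H) {x : ℕ} (h : 6 ≤ x) : ext3 g x = 1 := nth_of_ge _ h

theorem ext3_inv {H : Type} [Group H] (g : Fin 3 → H) : Inv 0 (ext3 g) :=
  six rfl (inv_inv _).symm rfl (inv_inv _).symm rfl (inv_inv _).symm fun x hx => by
    rw [ext3_ge g hx, inv_one, ext3_ge]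
    by_contra h
    have : ∀ y < 6, H17.inv 0 y < 6 := by decide +kernel
    have := this _ (not_le.1 h)
    rw [inv_inv'] at this
    omega

theorem ext3_map {H H' : Type} [Group H] [Group H'] (φ : H →* H') (g : Fin 3 → H) :
    ∀ x, φ (ext3 g x) = ext3 (fun i => φ (g i)) x :=
  six rfl (map_inv φ _) rfl (map_inv φ _) rfl (map_inv φ _) fun x hx => by rw [ext3_ge _ hx, ext3_ge _ hx, map_one]

theorem pres3 {G : Type} [Group G] {m : ℕ → G} {R : List (List ℕ)} {N : ℕ} (h1 : Sat m [[0, 1], [2, 3], [4, 5]])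
    (h6 : ∀ x, 6 ≤ x → m x = 1) (hR : Sat m R) (hg : ∀ K : Subgroup G, (∀ u, ev m u ∈ K) → K = ⊤)
    (hc : ∀ {H : Type} [Group H] {g : ℕ → H}, Inv 0 g → Sat g R → CardLe (wgrp g [[0], [1], [2], [3], [4], [5]]) N)
    (hN : N ≤ Nat.card G) : Pres ![m 0, m 2, m 4] R.length := by
  have e : ext3 ![m 0, m 2, m 4] = m := funext (six rfl
    (inv_eq_of_mul_eq_one_right (by simpa using h1 [0, 1] (by simp))) rfl
    (inv_eq_of_mul_eq_one_right (by simpa using h1 [2, 3] (by simp))) rfl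
    (inv_eq_of_mul_eq_one_right (by simpa using h1 [4, 5] (by simp))) fun x hx => by rw [ext3_ge _ hx, h6 x hx])
  have k : ∀ {H : Type} [Group H] (g : Fin 3 → H) u, FreeGroup.lift g (ev (ext3 FreeGroup.of) u) = ev (ext3 g) u :=
    fun g u => map_ev' _ (fun x => by simpa using ext3_map (FreeGroup.lift g) FreeGroup.of x) u
  have gt : closure (Set.range ![m 0, m 2, m 4]) = ⊤ := hg _ fun u => by
    have := lift_mem (g := ![m 0, m 2, m 4]) (fun i => Subgroup.subset_closure (Set.mem_range_self i))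
      (ev (ext3 FreeGroup.of) u)
    rwa [k, e] at this
  refine Pres.intro (R.map (ev (ext3 FreeGroup.of))) (by simp) gt
    (List.forall_mem_map.2 fun u hu => by rw [k, e, hR u hu]) fun H _ g π hπ hcl hw => ?_
  have := hc (ext3_inv g) fun u hu => (k g u).symm.trans (hw _ (List.mem_map_of_mem hu))
  rw [show wgrp (ext3 g) [[0], [1], [2], [3], [4], [5]] = ⊤ from eq_top_iff.2 (hcl ▸ (closure_le _).2 (by
    rintro _ ⟨i, rfl⟩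
    have : ∀ x, [x] ∈ [[0], [1], [2], [3], [4], [5]] → ext3 g x ∈ wgrp (ext3 g) [[0], [1], [2], [3], [4], [5]] :=
      fun x hx => by simpa only [ev_cons, ev_nil, mul_one] using mem_wgrp (ext3 g) hx
    fin_cases i
    exacts [this 0 (by decide), this 2 (by decide), this 4 (by decide)]))] at this
  have fin := this.top.1
  refine (Surjective.bijective_of_nat_card_le (f := π) ?_ (this.top.2.trans hN)).1
  rw [← MonoidHom.range_eq_top, eq_top_iff, ← gt, closure_le]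
  rintro _ ⟨i, rfl⟩
  exact ⟨_, hπ i⟩

/-- auxiliary matrices -/
def M20 : List (List (List ℕ)) := [[[1, 1, 3, 0], [1, 2, 2, 0], [2, 1, 2, 0], [0, 0, 0, 1]], [[1, 1, 3, 0], [1, 3, 1, 0], [2, 3, 3, 0], [0, 0,
  0, 1]], [[0, 1, 0, 0], [1, 0, 0, 0], [0, 0, 1, 0], [0, 0, 0, 1]], [[1, 0, 0, 0], [0, 0, 1, 0], [0, 1, 0, 0],
  [0, 0, 0, 1]], [[1, 0, 0, 0], [0, 1, 0, 0], [0, 0, 0, 1], [0, 0, 1, 0]]]

/-- generators of `SU₄(2)` -/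
def P2 : List (List ℕ × List (List ℕ)) := [([0], [[1, 1, 3, 0], [1, 2, 2, 0], [2, 1, 2, 0], [0, 0, 0, 1]]), ([1], [[1, 1, 3, 0], [1, 3, 1, 0], [2, 3, 3,
  0], [0, 0, 0, 1]]), ([2, 3], [[0, 0, 1, 0], [1, 0, 0, 0], [0, 1, 0, 0], [0, 0, 0, 1]]), ([3, 2], [[0, 1, 0,
  0], [0, 0, 1, 0], [1, 0, 0, 0], [0, 0, 0, 1]]), ([3, 4], [[1, 0, 0, 0], [0, 0, 0, 1], [0, 1, 0, 0], [0, 0, 1,
  0]]), ([4, 3], [[1, 0, 0, 0], [0, 0, 1, 0], [0, 0, 0, 1], [0, 1, 0, 0]])]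

/-- generators of `SU₄(3)` -/
def M3 : List (List (List ℕ)) := [[[4, 4, 0, 0], [5, 7, 0, 0], [0, 0, 1, 0], [0, 0, 0, 1]], [[7, 8, 0, 0], [7, 4, 0, 0], [0, 0, 1, 0], [0, 0,
  0, 1]], [[0, 0, 1, 0], [1, 0, 0, 0], [0, 1, 0, 0], [0, 0, 0, 1]], [[0, 1, 0, 0], [0, 0, 1, 0], [1, 0, 0, 0],
  [0, 0, 0, 1]], [[1, 0, 0, 0], [0, 0, 0, 1], [0, 1, 0, 0], [0, 0, 1, 0]], [[1, 0, 0, 0], [0, 0, 1, 0], [0, 0,
  0, 1], [0, 1, 0, 0]]]

/-- words -/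
def W2a : List (List ℕ) := [[0, 1, 1, 0, 0, 0], [0, 0, 0, 1, 0, 1, 0, 0], [0, 0, 0, 1, 1, 1, 0, 1], [0, 0, 0, 1, 0, 1], [0, 1, 1, 0], [1,
  1, 0, 0, 1, 0, 0, 1], [1, 0, 0, 1, 1, 1], [1, 0, 1, 0], [0, 1, 0, 0, 1, 0, 0, 1, 1, 0], [0, 1, 0, 0, 0, 1],
  [0, 1, 1, 0, 1, 0, 0, 1], [1, 0, 1, 0, 0, 0], [1, 1], [1, 0, 1, 0, 1, 0, 0, 1], [0, 0, 1, 0, 0, 1, 0, 0, 1,
  1], [1, 0, 0, 0, 1, 1, 0, 1], [0, 0, 0, 1, 0, 0, 1, 0], [1, 1, 0, 0], [0, 1, 1, 0, 0, 1, 0, 0, 0, 1], [0, 0,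
  1, 0, 0, 1, 1, 1], [0, 0, 1, 0, 1, 0], [0, 0, 0, 1, 0, 0, 0, 1], [1, 0, 0, 0, 1, 1, 1, 0], [0, 0, 1, 0, 1, 0,
  0, 0], [1, 0, 0, 1, 0, 0, 1, 1], [0, 0, 1, 1], [0, 1, 0, 0, 1, 0, 0, 0], [0, 1, 0, 0, 0, 1, 1, 1], [0, 1, 0,
  0, 1, 0], [0, 0, 1, 1, 0, 0], [0, 1, 1, 1, 0, 1], [0, 0, 0, 1, 1, 0, 0, 0], [0, 1, 0, 1, 0, 0], [0, 1, 0, 1],
  [0, 0, 0, 1, 1, 0], [0, 1, 1, 1, 0, 1, 0, 0], [0, 1, 1, 0, 0, 1, 0, 1], [0, 0], [0, 0, 1, 0, 0, 0, 1, 0], [],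
  [1, 0, 0, 0, 1, 0], [0, 1, 0, 0, 1, 1, 1, 0], [1, 1, 0, 1, 0], [0, 0, 1, 0, 0, 1, 0, 0, 1], [1, 1, 0, 1, 0, 0,
  0], [0, 1, 0, 1, 0, 1, 0], [0, 0, 1, 1, 0, 0, 1], [1, 0, 1, 0, 0, 0, 1], [0], [0, 0, 0], [0, 0, 0, 1, 0, 0, 0,
  1, 0], [0, 1, 0, 0, 0, 1, 0], [1, 1, 0, 0, 1, 0, 1], [1, 0, 0, 1, 1, 1, 0], [0, 0, 0, 1, 1, 1, 0, 0], [0, 0,
  1, 0], [1, 1, 0, 0, 1, 0, 0, 0], [1, 1, 0, 0, 1, 0], [0, 0, 1, 0, 0, 0], [0, 0, 0, 1, 1, 1], [1, 0, 0, 0, 1],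
  [1, 0, 0, 0, 1, 0, 0], [0, 0, 0, 1, 0, 1, 0], [1, 1, 0, 1, 0, 0, 1], [1, 0, 0, 1, 0, 0, 1, 1, 0], [0, 0, 0, 1,
  0, 1, 0, 0, 0], [0, 1, 1, 1, 0, 0], [1, 0], [1, 0, 1, 0, 0, 0, 1, 0], [0, 0, 1, 1, 0, 0, 1, 0], [0, 1, 1, 1],
  [1, 0, 0, 0], [1, 0, 0, 1, 1], [0, 0, 1, 0, 0, 1, 1], [0, 1, 1, 0, 0, 0, 1], [0, 0, 0, 1, 1, 0, 0, 0, 1], [0,
  1, 1, 1, 0, 1, 0, 0, 1], [1, 1, 0, 0, 1, 0, 0, 1, 1], [0, 0, 1, 1, 0, 0, 0, 1], [1, 1, 0, 0, 0, 1], [0, 0, 1,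
  1, 1, 0, 1, 0, 0, 1], [1, 1, 1, 0, 1, 0, 0, 1], [0, 1, 0, 0, 1, 1], [0, 0, 0, 1, 0, 0, 1, 1], [1, 0, 0, 1, 0,
  0, 1], [0, 0, 1, 1, 0, 1, 0], [0, 0, 1, 1, 0, 1, 0, 0, 0], [0, 0, 0, 1, 0, 1, 0, 1, 0], [1, 1, 0, 0, 1], [1,
  1, 0, 0, 1, 0, 0], [0, 0, 1, 0, 0, 0, 1], [0, 1, 0, 0, 1, 1, 1], [0, 0, 1, 1, 0, 1, 0, 0, 1], [0, 1, 0, 1, 0],
  [1, 1, 0, 0, 1, 0, 0, 0, 1], [0, 1, 0, 1, 0, 0, 0], [1, 0, 0, 1, 0, 0], [0, 0, 1, 0, 0, 1], [0, 1, 0, 1, 0, 0,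
  1, 1], [1, 0, 0, 1], [0, 0, 0, 1, 0, 1, 0, 0, 1, 1], [0, 0, 1, 0, 0, 1, 0, 0], [1, 0, 0, 0, 1, 1, 1], [0, 1,
  1], [1, 0, 0, 1, 0], [1, 0, 0, 1, 0, 0, 0], [1, 0, 0, 0, 1, 1, 1, 0, 0], [0, 1, 1, 0, 0], [0, 0, 0, 1, 0, 1,
  0, 1, 0, 0], [0, 1, 0, 1, 0, 1, 0, 0], [0, 1, 0, 1, 0, 1], [0, 0, 0, 1, 0, 1, 0, 1], [0, 0, 1, 0, 0, 0, 1, 1],
  [1, 0, 0, 0, 1, 1], [0, 1, 0, 0, 0], [0, 1, 0], [0, 0, 1, 1, 1, 0, 0], [0, 1, 0, 1, 0, 0, 0, 1, 0], [0, 0, 1,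
  1, 1], [0, 0, 0, 1, 1, 0, 0, 1, 0], [1, 1, 0, 1], [0, 0, 1, 0, 1, 0, 0, 1], [1, 1, 0, 1, 0, 0], [1, 0, 0, 1,
  1, 0], [0, 1, 0, 0], [0, 1], [0, 0, 0, 1, 0], [0, 0, 0, 1, 0, 0, 0], [1, 1, 1, 0, 0], [0, 1, 1, 0, 0, 1, 0, 0,
  0], [1, 1, 1], [0, 1, 1, 0, 0, 1, 0], [0, 1, 0, 0, 1], [0, 0, 0, 1, 0, 0, 1], [0, 0, 1, 0, 1, 0, 0, 1, 1], [1,
  0, 1, 0, 0, 1, 1], [1, 1, 1, 0, 0, 0, 1], [0, 1, 0, 0, 1, 0, 0], [0, 1, 0, 0, 0, 1, 1], [1, 0, 0, 0, 1, 1, 0],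
  [0, 0, 1, 0, 1, 0, 1, 0, 0], [1, 0, 1, 0, 1, 0, 0], [1, 0, 1, 0, 1], [0, 0, 1, 0, 1, 0, 1], [0, 0, 1, 0, 0, 0,
  1, 1, 1], [0, 0, 0, 1, 1], [0, 0, 1, 0, 0, 1, 0, 0, 0], [0, 0, 1, 0, 0, 1, 0], [0, 1, 0, 0, 1, 0, 0, 1, 1],
  [0, 0, 0, 1, 1, 0, 0], [0, 0, 1, 1, 0, 1], [1, 0, 1, 0, 0, 1], [0, 0, 1, 1, 0, 1, 0, 0], [0, 0, 1, 0, 0, 1, 1,
  0], [0, 0, 0, 1], [0, 0, 0, 1, 0, 0], [0, 0, 0, 1, 0, 1, 0, 1, 0, 1], [1, 1, 1, 0, 1, 0, 0, 0], [0, 0, 1, 1,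
  1, 0, 1, 0], [0, 1, 1, 0, 0, 0, 1, 1], [1, 1, 1, 0, 1, 0], [0, 1, 0, 1, 0, 1, 0, 1], [0, 1, 1, 0, 1, 0, 0, 0],
  [0, 1, 1, 0, 1, 0], [0, 0, 1, 0, 1, 0, 1, 0], [0, 1, 0, 1, 0, 0, 0, 1], [0, 0, 0, 1, 1, 0, 0, 1], [1, 1, 1, 0,
  0, 0, 1, 1], [0, 1, 1, 1, 0, 0, 0], [0, 0, 0, 1, 1, 1, 0, 0, 0], [0, 1, 0, 0, 1, 0, 1], [1, 0, 0, 1, 0, 1, 0],
  [0, 1, 1, 1, 0], [0, 0, 0, 1, 1, 1, 0], [0, 0, 1, 0, 1], [1, 1, 0, 0, 0], [0, 0, 1, 0, 1, 0, 0], [1, 1, 0],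
  [0, 0, 1, 1, 1, 0, 1], [0, 0, 1, 1, 1, 0, 1, 0, 0], [1, 0, 0], [0, 1, 0, 1, 0, 0, 1], [0, 0, 0, 1, 1, 0, 1],
  [0, 0, 0, 1, 1, 0, 1, 0, 0], [1], [0, 0, 0, 1, 0, 0, 1, 1, 0], [1, 0, 1], [0, 0, 1, 1, 0, 0, 0], [0, 0, 1, 1,
  0], [1, 0, 1, 0, 0], [1, 1, 1, 0, 1], [1, 1, 1, 0, 1, 0, 0], [0, 0, 1, 0, 0, 1, 0, 1], [1, 0, 0, 1, 0, 1], [0,
  0, 1, 1, 1, 0], [1, 1, 1, 0], [0, 0, 1, 1, 1, 0, 0, 0], [1, 1, 1, 0, 0, 0], [0, 0, 1, 1, 0, 0, 0, 1, 1], [1,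
  1, 0, 0, 0, 1, 1], [0, 0, 0, 1, 1, 1, 0, 1, 0], [0, 1, 1, 1, 0, 1, 0], [0, 0, 1, 0, 1, 0, 1, 0, 1], [1, 0, 1,
  0, 1, 0, 1], [1, 0, 0, 1, 0, 0, 0, 1], [0, 0, 0, 1, 1, 0, 1, 0], [1, 0, 1, 0, 1, 0], [0, 1, 1, 0, 0, 1, 0, 0],
  [0, 1, 0, 0, 1, 0, 0, 1], [0, 1, 1, 0, 0, 1], [0, 0, 0, 1, 0, 1, 0, 0, 1], [0, 0, 1, 0, 0], [0, 1, 1, 0, 1],
  [0, 1, 1, 0, 1, 0, 0], [0, 0, 1], [0, 1, 0, 0, 1, 1, 0]]

/-- words -/
def W2b : List (List ℕ) := [[1, 0], [0], [0, 1], [], [1], [1, 1]]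

/-- words -/
def W3a : List (List ℕ) := [[1, 0, 0], [0, 1, 1], [0, 0, 1, 1, 0, 0], [0, 1, 0], [], [0, 0, 1, 0, 0, 1], [1, 1, 0], [0, 0, 1, 1, 0], [0],
  [0, 1, 0, 0], [1, 1], [1, 1, 0, 0], [0, 1, 0, 0, 1], [1, 0], [0, 1, 1, 0], [0, 0, 1], [1], [0, 1, 1, 0, 0],
  [0, 0], [0, 0, 1, 0], [0, 0, 1, 0, 0], [0, 0, 1, 1], [1, 0, 0, 1], [0, 1]]

/-- words -/
def W3b : List (List ℕ) := [[1, 0, 0], [0, 1, 1], [0, 0, 1, 1, 0, 0], [0, 1, 0], [], [0, 0, 1, 0, 0, 1], [1, 1, 0], [0, 0, 1, 1, 0], [0],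
  [0, 1, 0, 0], [1, 1], [1, 1, 0, 0], [0, 1, 0, 0, 1], [1, 0], [0, 1, 1, 0], [0, 0, 1], [1], [0, 1, 1, 0, 0],
  [0, 0], [0, 0, 1, 0], [0, 0, 1, 0, 0], [0, 0, 1, 1], [1, 0, 0, 1], [0, 1]]

/-- words -/
def W3c : List (List ℕ) := [[1, 0, 0], [0, 1, 1], [0, 0, 1, 1, 0, 0], [0, 1, 0], [], [0, 0, 1, 0, 0, 1], [1, 1, 0], [0, 0, 1, 1, 0], [0],
  [0, 1, 0, 0], [1, 1], [1, 1, 0, 0], [0, 1, 0, 0, 1], [1, 0], [0, 1, 1, 0], [0, 0, 1], [1], [0, 1, 1, 0, 0],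
  [0, 0], [0, 0, 1, 0], [0, 0, 1, 0, 0], [0, 0, 1, 1], [1, 0, 0, 1], [0, 1]]

instance factF9 : Fact (∀ r : ZMod 3, r ^ 2 ≠ ((2 : ℕ) : ZMod 3) + 0 * r) := ⟨by decide⟩

/-- arithmetic of the field with nine elements -/
noncomputable abbrev ar9 : Ar (LL.FQ 3 2) := LL.arQ 3 2 4 0

/-- the data for small fields -/
def Sm (F : Type) [Field F] (q : ℕ) : Prop := (∃ g : Fin 3 → SU 4 F q, Pres g 9) ∧
  (∃ a b : SU 3 F q, closure {a, b} = ⊤) ∧ ∃ a b : SU 2 F q, closure {a, b} = ⊤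

theorem card_of {F : Type} [Field F] [Fintype F] {q n N : ℕ} (hF : Fintype.card F = q ^ 2) (hn : 1 ≤ n)
    (h : H12.guOrd q n = (q + 1) * N) : Nat.card (SU n F q) = N :=
  Nat.eq_of_mul_eq_mul_left (Nat.succ_pos q) ((H12.card_SU hF hn).trans h)

theorem card_rg {G G' : Type} [Group G] [Group G'] {E : G →* G'} (hE : Injective E) :
    Nat.card E.range = Nat.card G := (Nat.card_congr (MonoidHom.ofInjective hE).toEquiv).symm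

theorem four4 : Four (Finset.univ : Finset (Fin 4)) 0 1 2 3 :=
  ⟨by decide, by decide, by decide, by decide, by decide, by decide, by decide, by decide, by decide, by decide⟩

theorem sm2 : Sm F4 2 := by
  have hF : Fintype.card F4 = 2 ^ 2 := card_F4
  obtain ⟨θ, c⟩ := exists_cy (Or.inl rfl) hF
  obtain ⟨m0, h0⟩ : ∃ m, MRep ar4 (Equiv.refl _) (τU 4 F4 2) m M20 :=
    exists_mrep (τU_inj _ _) (by decide +kernel) fun M hM => exists_SU hF (p := 3) (by decide)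
      (allL_true (f := ar4.suB 4 2 3) (by decide +kernel) M hM)
  obtain ⟨m, h⟩ : ∃ m, MRep ar4 (Equiv.refl _) (τU 4 F4 2) m (P2.map Prod.snd) :=
    exists_mrep (τU_inj _ _) (by decide +kernel) (List.forall_mem_map.2 fun p hp => ⟨_, h0.eq_mat
      (allL_true (f := fun p : List ℕ × List (List ℕ) => ar4.weqM 4 M20 p.1 p.2) (by decide +kernel) p hp)⟩)
  obtain ⟨E, E1, E2⟩ := c.blk_range (show (2 : Fin 4) ≠ 3 by decide)
  have a := blk_gen h (S := {0, 1, 2}) (T := [3]) (by decide) [0] [4, 0, 5, 1, 3, 4, 1, 5] W2a (by decide +kernel) (by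
    rw [← c.F0_range, card_rg (c.emb_inj _), card_of hF (N := 216) (by omega) (by decide)]; decide +kernel)
  have b := blk_gen h (S := {2, 3}) (T := [0, 1]) (by decide) [4, 0, 0, 5] [4, 1, 2, 0, 2, 5] W2b (by decide +kernel) (by
    rw [← E2, card_rg E1, card_of hF (N := 6) (by omega) (by decide)]; decide +kernel)
  refine ⟨⟨_, (pres3 (h.sat (by decide +kernel)) (fun x hx => h.triv hx) (h.sat (R := UT2.R0) (by decide +kernel))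
    (fun K hK => eq_top_iff.2 fun g _ => ?_) UT2.card0 (card_of hF (by omega) (by decide)).ge).mono (by decide)⟩,
    gen2_of (c.emb_inj _) (a.trans c.F0_range.symm), gen2_of E1 (b.trans E2.symm)⟩
  have k : ∀ u v, closure {ev m u, ev m v} ≤ K := fun u v => (closure_le _).2 (by rintro _ (rfl | rfl) <;> exact hK _)
  exact sup_le ((Blk_mono (by decide)).trans (a ▸ k _ _)) (b ▸ k _ _) (c.gen4 four4 fun x hx => (hx (by simp)).elim)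

theorem sm3 : Sm (LL.FQ 3 2) 3 := by
  have hF := LL.card_FQ 3 2
  obtain ⟨θ, c⟩ := exists_cy (Or.inr rfl) hF
  obtain ⟨m, h⟩ : ∃ m, MRep ar9 (Equiv.refl _) (τU 4 (LL.FQ 3 2) 3) m M3 :=
    exists_mrep (τU_inj _ _) (by decide +kernel) fun M hM => exists_SU hF (p := 2) (by decide)
      (allL_true (f := ar9.suB 4 3 2) (by decide +kernel) M hM)
  have cd : ∀ i j : Fin 4, i ≠ j → Nat.card (Blk (LL.FQ 3 2) 3 {i, j}) ≤ 24 := fun i j hij => by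
    obtain ⟨E, E1, E2⟩ := c.blk_range hij
    rw [← E2, card_rg E1, card_of hF (N := 24) (by omega) (by decide)]
  obtain ⟨E, E1, E2⟩ := c.blk_range (show (0 : Fin 4) ≠ 1 by decide)
  have a := blk_gen h (S := {0, 1}) (T := [2, 3]) (by decide) [0] [2, 4, 0, 5, 3] W3a (by decide +kernel) (cd _ _ (by decide))
  have b := blk_gen h (S := {1, 2}) (T := [0, 3]) (by decide) [2, 0, 3] [3, 4, 0, 5, 2] W3b (by decide +kernel) (cd _ _ (by decide))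
  have d := blk_gen h (S := {2, 3}) (T := [0, 1]) (by decide) [3, 5, 0, 4, 2] [2, 5, 2, 0, 3, 4, 3] W3c (by decide +kernel)
    (cd _ _ (by decide))
  refine ⟨⟨_, (pres3 (h.sat (by decide +kernel)) (fun x hx => h.triv hx) (h.sat (R := UT3.R0) (by decide +kernel))
    (fun K hK => eq_top_iff.2 fun g _ => ?_) UT3.card0 (card_of hF (by omega) (by decide)).ge).mono (by decide)⟩,
    (H6.Two.su_two hF 3 le_rfl (by omega)).equiv (H12.suEquiv hF 3).symm, gen2_of E1 (a.trans E2.symm)⟩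
  have k : ∀ u v, closure {ev m u, ev m v} ≤ K := fun u v => (closure_le _).2 (by rintro _ (rfl | rfl) <;> exact hK _)
  exact sup_le ((c.gen3 rfl (p := 2) (d := 1) (b := 0) (by decide) (by decide) (by decide) (by decide) (by decide)
    (by decide)).trans (sup_le ((Blk_mono (by decide)).trans (a ▸ k _ _)) (b ▸ k _ _))) (d ▸ k _ _)
    (c.gen4 four4 fun x hx => (hx (by simp)).elim)

theorem Sm.tr {F K : Type} [Field F] [Field K] {q : ℕ} (h : Sm F q) (e : F ≃+* K) : Sm K q :=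
  ⟨h.1.elim fun _ a => ⟨_, a.equiv (H12.suCongr 4 q e)⟩, H6.Two.Gen2.equiv h.2.1 (H12.suCongr 3 q e),
    H6.Two.Gen2.equiv h.2.2 (H12.suCongr 2 q e)⟩

theorem sm {F : Type} [Field F] [Fintype F] {q : ℕ} (hF : Fintype.card F = q ^ 2) (h : q = 2 ∨ q = 3) : Sm F q := by
  rcases h with rfl | rfl
  · exact sm2.tr (FiniteField.ringEquivOfCardEq (card_F4.trans hF.symm))
  · exact sm3.tr (FiniteField.ringEquivOfCardEq ((LL.card_FQ 3 2).trans hF.symm))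

theorem pp_six {F : Type*} [Field F] [Fintype F] {q n : ℕ} (hF : Fintype.card F = q ^ 2) (hn : 4 ≤ n) :
    PP n F q 6 (if n ≤ 5 then 35 else 39) := PP.of_small hF (by omega) fun K _ _ σ _ h1 h2 => by
  have pad : ∀ {ι : Type} [Fintype ι] {g : ι → SU n K q} {r s : ℕ}, Pres g r → Fintype.card ι ≤ 6 →
      r + 6 ≤ s + Fintype.card ι → ∃ g : Fin 6 → SU n K q, Pres g s := fun h a b =>
    (h.pad_fin a).imp fun _ h => h.mono (by omega)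
  obtain ⟨τ, hτ⟩ := (small6 n (by omega)).2
  obtain ⟨τ', hτ'⟩ := (p7 n (by omega)).2.1
  by_cases hq : 4 ≤ q
  · split_ifs with h
    · obtain ⟨t, t1, t2, g, hg⟩ := su_x ⟨h1, h2, hq⟩ hn hτ
      exact pad hg (by simp) (by simp; omega)
    · obtain ⟨t, t1, t2, g, hg⟩ := su_x ⟨h1, h2, hq⟩ hn hτ'
      exact pad hg (by simp) (by simp; omega)
  have h23 : q = 2 ∨ q = 3 := by have := two_le_of_card_sq h1; omega
  obtain ⟨⟨g, hg⟩, ⟨a, b, hab⟩, x, y, hxy⟩ := sm h1 h23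
  rcases hn.eq_or_lt with rfl | h5
  · exact pad hg (by simp) (by simp)
  · obtain ⟨g', hg'⟩ := su_y ⟨h1, h2, h23⟩ h5 hτ' hg hab hxy
    exact pad hg' (by simp) (by split_ifs <;> simp)

end Cfsg.Agent.H28.US
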