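import Cfsg.Agent.L0.SymSyl

/-! Elements of a symmetric group lying in a unique Sylow 2-subgroup. -/

set_option autoImplicit false

namespace Cfsg.Agent.H28

open Equiv Equiv.Perm Subgroup Cfsg.Agent.L0.SymSyl

/-- Nontrivial cycles have distinct lengths, and there are at most two fixed points. -/
def UC {α : Type*} (x : Perm α) : Prop :=
  (∀ a b, x a ≠ a → (∀ j : ℕ, (x ^ j) a = a ↔ (x ^ j) b = b) → SameCycle x a b) ∧
    ∀ a b c, x a = a → x b = b → x c = c → a = b ∨ a = c ∨ b = c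

variable {α β γ : Type} [Fintype α] [DecidableEq α] [Fintype β] [DecidableEq β]

omit [DecidableEq α] in
theorem us_half {x : Perm α} {a : α} {i j : ℕ} (h1 : (x ^ i) a ≠ a) (h2 : (x ^ i) ((x ^ i) a) = a)
    (h3 : (x ^ j) a ≠ a) (h4 : (x ^ j) ((x ^ j) a) = a) : (x ^ i) a = (x ^ j) a := by
  have key : ∀ i : ℕ, (x ^ i) a ≠ a → (x ^ i) ((x ^ i) a) = a →
      2 * (i % MulAction.period x a) = MulAction.period x a := fun i h1 h2 => by
    have p0 : 0 < MulAction.period x a := MulAction.period_pos_of_orderOf_pos (orderOf_pos x) a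
    have p1 : ¬ MulAction.period x a ∣ i := fun h => h1 (MulAction.pow_smul_eq_iff_period_dvd.2 h)
    have p2 : MulAction.period x a ∣ i + i := MulAction.pow_smul_eq_iff_period_dvd.1 (by rw [pow_add]; exact h2)
    generalize MulAction.period x a = m at p0 p1 p2
    have p3 := Nat.mod_lt i p0
    have p4 : i % m ≠ 0 := fun h => p1 (Nat.dvd_of_mod_eq_zero h)
    obtain ⟨t, ht⟩ : m ∣ i % m + i % m := (Nat.dvd_iff_mod_eq_zero ..).2 (by
      rw [← Nat.add_mod]; exact Nat.mod_eq_zero_of_dvd p2)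
    have : t = 1 := by
      rcases t with _ | _ | t
      · omega
      · rfl
      · nlinarith
    subst this
    omega
  have e : i % MulAction.period x a = j % MulAction.period x a := by
    have := key i h1 h2
    have := key j h3 h4
    omega
  exact (MulAction.pow_mod_period_smul i).symm.trans (e ▸ MulAction.pow_mod_period_smul j)

theorem us_func {P : Subgroup (Perm α)} (hP : IsPGroup 2 P) {a b c : α} (h1 : a ≠ b) (h2 : a ≠ c)
    (h3 : swap a b ∈ P) (h4 : swap a c ∈ P) : b = c := by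
  by_contra h
  obtain ⟨k, hk⟩ := hP ⟨_, mul_mem h3 h4⟩
  have := orderOf_dvd_of_pow_eq_one (show (swap a b * swap a c) ^ 2 ^ k = 1 from congrArg Subtype.val hk)
  rw [(isThreeCycle_swap_mul_swap_same h1 h2 h).orderOf] at this
  exact absurd (Nat.prime_three.dvd_of_dvd_pow this) (by decide)

omit [Fintype α] in
theorem us_inv {P : Subgroup (Perm α)} {y : Perm α} (hy : y ∈ P) {a b : α} (h : swap a b ∈ P) :
    swap (y a) (y b) ∈ P := by
  rw [swap_apply_apply]
  exact mul_mem (mul_mem hy h) (inv_mem hy)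

theorem us_exists (P : Sylow 2 (Perm α)) :
    ∃ e : (Fin (Fintype.card α / 2) × Bool) ⊕ Fin (Fintype.card α % 2) ≃ α, ∀ b, tr e b ∈ P := by
  obtain ⟨e⟩ := exists_e α
  have := subs (Fintype.card α)
  obtain ⟨S, hS⟩ := exists_sylow e
  obtain ⟨g, rfl⟩ := MulAction.exists_smul_eq (Perm α) S P
  refine ⟨e.trans g, fun b => ?_⟩
  rw [show tr (e.trans g) b = g * tr e b * g⁻¹ from swap_apply_apply g _ _]
  exact smul_mem_pointwise_smul _ (MulAut.conj g) _ (hS b)

theorem us_near (P : Sylow 2 (Perm α)) {a a' : α} (h : a ≠ a') :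
    (∃ b, a ≠ b ∧ swap a b ∈ P.1) ∨ ∃ b, a' ≠ b ∧ swap a' b ∈ P.1 := by
  obtain ⟨e, he⟩ := us_exists P
  have := subs (Fintype.card α)
  refine (one_in_fibre e h).imp ?_ ?_ <;> rintro ⟨b, i, rfl⟩ <;>
    exact ⟨_, by cases i <;> simp, tr_eq e b i ▸ he b⟩

theorem us_fix {P : Subgroup (Perm α)} (hP : IsPGroup 2 P) {y : Perm α} (hy : y ∈ P) {a b : α} (h1 : a ≠ b)
    (h : swap a b ∈ P) (h2 : y a = a) : y b = b :=
  us_func hP (h2 ▸ y.injective.ne h1) h1 (by simpa [h2] using us_inv hy h) h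

theorem us_flip {P : Subgroup (Perm α)} (hP : IsPGroup 2 P) {y : Perm α} (hy : y ∈ P) {a b : α} (h1 : a ≠ b)
    (h : swap a b ∈ P) (h2 : y a = b) : y b = a := by
  have h3 := us_inv hy h
  have h4 := y.injective.ne h1
  rw [h2] at h3 h4
  exact us_func hP h4 h1.symm h3 (swap_comm a b ▸ h)

theorem us_part {P : Subgroup (Perm α)} (hP : IsPGroup 2 P) {x : Perm α} (hx : x ∈ P) (hc : UC x) {a b : α}
    (h1 : a ≠ b) (h : swap a b ∈ P) (h2 : x a ≠ a) : ∃ i : ℕ, (x ^ i) a = b ∧ (x ^ i) b = a := by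
  obtain ⟨i, -, hi⟩ := (hc.1 a b h2 fun j => ⟨us_fix hP (pow_mem hx j) h1 h,
    us_fix hP (pow_mem hx j) h1.symm (swap_comm a b ▸ h)⟩).exists_pow_eq'
  exact ⟨i, hi, us_flip hP (pow_mem hx i) h1 h hi⟩

theorem us_swap {P Q : Sylow 2 (Perm α)} {x : Perm α} (hP : x ∈ P.1) (hQ : x ∈ Q.1) (hc : UC x) {a b : α}
    (h1 : a ≠ b) (h : swap a b ∈ P.1) : swap a b ∈ Q.1 := by
  by_cases h2 : x a = a
  · have h3 := us_fix P.isPGroup' hP h1 h h2
    rcases us_near Q h1 with ⟨c, c1, c2⟩ | ⟨c, c1, c2⟩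
    · rcases hc.2 a b c h2 h3 (us_fix Q.isPGroup' hQ c1 c2 h2) with e | e | e
      exacts [absurd e h1, absurd e c1, e ▸ c2]
    · rcases hc.2 a b c h2 h3 (us_fix Q.isPGroup' hQ c1 c2 h3) with e | e | e
      exacts [absurd e h1, by rw [swap_comm, e]; exact c2, absurd e c1]
  obtain ⟨c, c1, c2⟩ : ∃ c, a ≠ c ∧ swap a c ∈ Q.1 := by
    refine (us_near Q (Ne.symm h2)).elim id fun ⟨c, c1, c2⟩ => ⟨x⁻¹ c, fun e => c1 (by simp [e]), ?_⟩
    simpa using us_inv (inv_mem hQ) c2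
  obtain ⟨i, i1, i2⟩ := us_part P.isPGroup' hP hc h1 h h2
  obtain ⟨j, j1, j2⟩ := us_part Q.isPGroup' hQ hc c1 c2 h2
  rwa [← i1, us_half (i1 ▸ h1.symm) (i1 ▸ i2) (j1 ▸ c1.symm) (j1 ▸ j2), j1]

omit [Fintype α] [Fintype β] [DecidableEq β] in
theorem us_pt {e : (β × Bool) ⊕ γ ≃ α} {φ : NM e →* Perm β}
    (hφ : ∀ x : NM e, ∀ b, (x : Perm α) * tr e b * (x : Perm α)⁻¹ = tr e (φ x b)) (z : NM e) (b : β) (i : Bool) :
    ∃ j, z.1 (e (.inl (b, i))) = e (.inl (φ z b, j)) :=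
  tr_ne (by rw [← hφ]; simpa using tr_moves e b i)

omit [Fintype β] [DecidableEq β] in
theorem us_step {e : (β × Bool) ⊕ γ ≃ α} {P : Subgroup (Perm α)} (hP : IsPGroup 2 P) (he : ∀ b, tr e b ∈ P)
    {φ : NM e →* Perm β} (hφ : ∀ x : NM e, ∀ b, (x : Perm α) * tr e b * (x : Perm α)⁻¹ = tr e (φ x b))
    {x : NM e} (hx : x.1 ∈ P) (hc : UC x.1) : UC (φ x) := by
  have n1 : ∀ b, e (.inl (b, false)) ≠ e (.inl (b, true)) := fun b => by simp
  have k1 : ∀ (j : ℕ) b, (φ x ^ j) b = b ↔ (x.1 ^ j) (e (.inl (b, false))) = e (.inl (b, false)) ∨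
      (x.1 ^ j) (e (.inl (b, false))) = e (.inl (b, true)) := fun j b => by
    obtain ⟨t, ht⟩ := us_pt hφ (x ^ j) b false
    rw [SubgroupClass.coe_pow, map_pow] at ht
    rw [ht]
    cases t <;> simp
  have k2 : ∀ (j : ℕ) b, (x.1 ^ j) (e (.inl (b, false))) = e (.inl (b, true)) →
      (x.1 ^ j) (e (.inl (b, true))) = e (.inl (b, false)) := fun j b h =>
    us_flip hP (pow_mem hx j) (n1 b) (he b) h
  have k3 : ∀ (j : ℕ) b, x.1 (e (.inl (b, false))) ≠ e (.inl (b, false)) → ((φ x ^ j) b = b ↔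
      (x.1 ^ (2 * j)) (e (.inl (b, false))) = e (.inl (b, false))) := fun j b hb => by
    rw [k1, two_mul, pow_add, Perm.mul_apply]
    refine ⟨fun h => h.elim (fun h => by rw [h, h]) fun h => by rw [h, k2 j b h], fun h => ?_⟩
    refine or_iff_not_imp_left.2 fun h' => ?_
    obtain ⟨i, i1, i2⟩ := us_part hP hx hc (n1 b) (he b) hb
    rw [us_half h' h (i1 ▸ (n1 b).symm) (i1 ▸ i2), i1]
  have k4 : ∀ (j : ℕ) a, x.1 a ≠ a → (x.1 ^ (2 * j + 1)) a ≠ a := fun j a ha h => by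
    obtain ⟨k, hk⟩ := hP ⟨_, hx⟩
    obtain ⟨m, hm⟩ := exists_pow_eq_self_of_coprime (x := x.1) (n := 2 * j + 1)
      (Nat.Coprime.coprime_dvd_right (orderOf_dvd_of_pow_eq_one (congrArg Subtype.val hk))
        ((Nat.coprime_two_right.2 (odd_two_mul_add_one j)).pow_right k))
    exact ha (hm ▸ pow_apply_eq_self_of_apply_eq_self h m)
  have k5 : ∀ b c, x.1 (e (.inl (b, false))) ≠ e (.inl (b, false)) → x.1 (e (.inl (c, false))) ≠ e (.inl (c, false)) →
      (∀ j : ℕ, (φ x ^ j) b = b ↔ (φ x ^ j) c = c) → SameCycle (φ x) b c := fun b c hb hc' h => by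
    obtain ⟨i, -, hi⟩ := (hc.1 _ (e (.inl (c, false))) hb fun j => by
      obtain ⟨m, rfl | rfl⟩ := Nat.even_or_odd' j
      · rw [← k3 m b hb, ← k3 m c hc', h]
      · exact iff_of_false (k4 m _ hb) (k4 m _ hc')).exists_pow_eq'
    obtain ⟨t, ht⟩ := us_pt hφ (x ^ i) b false
    rw [SubgroupClass.coe_pow, map_pow, hi] at ht
    exact ⟨i, by simpa using ((Prod.mk.inj (Sum.inl.inj (e.injective ht))).1).symm⟩
  have k6 : ∀ b, φ x b ≠ b → x.1 (e (.inl (b, false))) ≠ e (.inl (b, false)) := fun b hb h =>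
    hb (by simpa using (k1 1 b).2 (Or.inl (by simpa using h)))
  refine ⟨fun b c hb h => k5 b c (k6 b hb) (k6 c fun h' => hb (by simpa [h'] using h 1)) h, fun a b c ha hb hc' => ?_⟩
  have k7 : ∀ b c, φ x b = b → φ x c = c → (x.1 (e (.inl (b, false))) = e (.inl (b, false)) ↔
      x.1 (e (.inl (c, false))) = e (.inl (c, false))) → b = c := fun b c hb hc' h => by
    by_cases h1 : x.1 (e (.inl (b, false))) = e (.inl (b, false))
    · simpa using hc.2 _ _ _ h1 (us_fix hP hx (n1 b) (he b) h1) (h.1 h1)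
    · exact (k5 b c h1 (mt h.2 h1) fun j => iff_of_true (pow_apply_eq_self_of_apply_eq_self hb j)
        (pow_apply_eq_self_of_apply_eq_self hc' j)).eq_of_left hb
  have := k7 a b ha hb
  have := k7 a c ha hc'
  have := k7 b c hb hc'
  tauto

theorem us_unique (n : ℕ) : ∀ (α : Type) [Fintype α] [DecidableEq α], Fintype.card α = n →
    ∀ (x : Perm α) (P Q : Sylow 2 (Perm α)), UC x → x ∈ P.1 → x ∈ Q.1 → P = Q := by
  induction n using Nat.strong_induction_on with
  | _ n ih =>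
  intro α _ _ hn x P Q hc hP hQ
  rcases Nat.eq_zero_or_pos n with h0 | h0
  · have : IsEmpty α := Fintype.card_eq_zero_iff.1 (hn.trans h0)
    exact Sylow.ext (Subsingleton.elim _ _)
  obtain ⟨e, he⟩ := us_exists P
  have := subs (Fintype.card α)
  have he' : ∀ b, tr e b ∈ Q := fun b => us_swap hP hQ hc (by simp) (he b)
  obtain ⟨φ, hφ⟩ := exists_phi e
  have hle : ∀ {S : Sylow 2 (Perm α)}, (∀ b, tr e b ∈ S) → S.1 ≤ NM e := fun hS s hs =>
    mem_NM_of hS fun t ht => mul_mem (mul_mem hs ht) (inv_mem hs)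
  have hk : IsPGroup 2 φ.ker := fun y => ⟨1, Subtype.ext (Subtype.ext (by
    simpa using sq_of_cent (e := e) fun b => by rw [hφ, y.2, Perm.one_apply]))⟩
  have h1 := ih (Fintype.card α / 2) (by omega) _ (Fintype.card_fin _) (φ ⟨x, hle he hP⟩)
    ((P.subtype (hle he)).mapSurjective (phi_surj hφ)) ((Q.subtype (hle he')).mapSurjective (phi_surj hφ))
    (us_step P.isPGroup' he hφ hP hc) ⟨_, hP, rfl⟩ ⟨_, hQ, rfl⟩
  have h2 := congrArg (fun S : Sylow 2 (Perm (Fin (Fintype.card α / 2))) => S.1.comap φ) h1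
  simp only [Sylow.coe_mapSurjective, comap_map_eq_self (hk.le_sylow_of_normal _)] at h2
  exact Sylow.subtype_injective (Sylow.ext h2)

theorem us_mem {x : Perm α} (hx : ∃ k : ℕ, orderOf x = 2 ^ k) {a b : α} (h : ¬ SameCycle x a b)
    (h1 : ∀ j : ℕ, (x ^ j) a = a ↔ (x ^ j) b = b) : ∃ P : Sylow 2 (Perm α), x ∈ P.1 ∧ swap a b ∈ P.1 := by
  let s : Set (Perm α) := Set.range fun j : ℕ => swap ((x ^ j) a) ((x ^ j) b)
  have c0 : ∀ j : ℕ, Commute (swap a b) (swap ((x ^ j) a) ((x ^ j) b)) := fun j => by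
    by_cases h2 : (x ^ j) a = a
    · rw [h2, (h1 j).1 h2]
    · have h3 : (x ^ j) a ≠ b := fun e => h ⟨j, by simpa using e⟩
      have h4 : (x ^ j) b ≠ a := fun e => h (SameCycle.symm ⟨j, by simpa using e⟩)
      refine mul_inv_eq_iff_eq_mul.1 ?_
      rw [← swap_apply_apply, swap_apply_of_ne_of_ne h2 h3, swap_apply_of_ne_of_ne h4 (mt (h1 j).2 h2)]
  have c1 : ∀ i j : ℕ, Commute (swap ((x ^ i) a) ((x ^ i) b)) (swap ((x ^ (i + j)) a) ((x ^ (i + j)) b)) :=
    fun i j => by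
      rw [pow_add, Perm.mul_apply, Perm.mul_apply, swap_apply_apply (x ^ i), swap_apply_apply (x ^ i)]
      exact (c0 j).map (MulAut.conj (x ^ i))
  have c2 : ∀ u ∈ s, ∀ v ∈ s, u * v = v * u := by
    rintro _ ⟨i, rfl⟩ _ ⟨j, rfl⟩
    rcases le_total i j with h | h <;> obtain ⟨k, rfl⟩ := Nat.exists_eq_add_of_le h
    exacts [c1 i k, (c1 j k).symm]
  have c3 : ∀ u ∈ closure s, ∀ v ∈ closure s, u * v = v * u := fun u hu v hv =>
    congrArg Subtype.val ((isMulCommutative_closure c2).1.1 ⟨u, hu⟩ ⟨v, hv⟩)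
  have c4 : IsPGroup 2 (closure s) := fun u => ⟨1, Subtype.ext (by
    refine closure_induction (p := fun u _ => u ^ 2 ^ 1 = 1) ?_ (by simp) (fun u v hu hv h1 h2 => ?_)
      (fun u _ h => by rw [inv_pow, h, inv_one]) u.2
    · rintro _ ⟨j, rfl⟩
      simp [sq]
    · rw [Commute.mul_pow (c3 u hu v hv), h1, h2, one_mul])⟩
  have c5 : zpowers x ≤ normalizer (closure s : Set (Perm α)) := zpowers_le.2 (mem_normalizer_fintype fun u hu => by
    refine closure_induction (p := fun u _ => x * u * x⁻¹ ∈ closure s) ?_ (by simp) (fun u v _ _ h1 h2 => ?_)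
      (fun u _ h => ?_) hu
    · rintro _ ⟨j, rfl⟩
      exact subset_closure ⟨j + 1, by simp only [← swap_apply_apply, pow_succ', Perm.mul_apply]⟩
    · simpa [mul_assoc] using mul_mem h1 h2
    · simpa [mul_assoc] using inv_mem h)
  obtain ⟨k, hk⟩ := hx
  obtain ⟨P, hP⟩ := ((IsPGroup.of_card (p := 2) ((Nat.card_zpowers x).trans hk)).to_sup_of_normal_right' c4
    c5).exists_le_sylow
  exact ⟨P, hP (mem_sup_left (mem_zpowers x)), hP (mem_sup_right (subset_closure ⟨0, by simp⟩))⟩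

theorem us_iff {x : Perm α} (hx : ∃ k : ℕ, orderOf x = 2 ^ k) : (∃! P : Sylow 2 (Perm α), x ∈ P) ↔ UC x := by
  refine ⟨fun ⟨P, _, hP⟩ => ?_, fun h => ?_⟩
  · have key : ∀ a b, ¬ SameCycle x a b → (∀ j : ℕ, (x ^ j) a = a ↔ (x ^ j) b = b) → swap a b ∈ P.1 :=
      fun a b h1 h2 => by
        obtain ⟨Q, h3, h4⟩ := us_mem hx h1 h2
        exact hP Q h3 ▸ h4
    refine ⟨fun a b ha h => by_contra fun h1 => ?_, fun a b c ha hb hc => ?_⟩
    · have h2 : ¬ SameCycle x a (x b) := by rwa [sameCycle_apply_right]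
      refine ha ((by simpa using h 1 : x a = a ↔ x b = b).2 (us_func P.isPGroup' (fun e => h2 (e ▸ SameCycle.rfl))
        (fun e => h1 (e ▸ SameCycle.rfl)) (key _ _ h2 fun j => ?_) (key _ _ h1 h)))
      rw [h, ← Perm.mul_apply, ← pow_succ, pow_succ', Perm.mul_apply, x.injective.eq_iff]
    · have k : ∀ b, x b = b → a ≠ b → swap a b ∈ P.1 := fun b hb h => key a b (fun e => h (e.eq_of_left ha))
        fun j => iff_of_true (pow_apply_eq_self_of_apply_eq_self ha j) (pow_apply_eq_self_of_apply_eq_self hb j)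
      by_contra! h
      exact h.2.2 (us_func P.isPGroup' h.1 h.2.1 (k b hb h.1) (k c hc h.2.1))
  · obtain ⟨k, hk⟩ := hx
    obtain ⟨P, hP⟩ := (IsPGroup.of_card (p := 2) ((Nat.card_zpowers x).trans hk)).exists_le_sylow
    exact ⟨P, hP (mem_zpowers x), fun Q hQ => us_unique _ α rfl x Q P h hQ (hP (mem_zpowers x))⟩

theorem us_per {x : Perm α} {a : α} (ha : x a ≠ a) (j : ℕ) : (x ^ j) a = a ↔ (x.cycleOf a).support.card ∣ j := by
  have h := isCycle_cycleOf x ha
  rw [← h.orderOf, orderOf_dvd_iff_pow_eq_one, h.pow_eq_one_iff' (x := a) (by rwa [cycleOf_apply_self]),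
    cycleOf_pow_apply_self]

theorem uc_iff {x : Perm α} : UC x ↔ Fintype.card α ≤ x.support.card + 2 ∧ x.cycleType.Nodup := by
  rw [and_comm]
  refine and_congr ?_ ?_
  · rw [cycleType_def, Multiset.nodup_map_iff_inj_on x.cycleFactorsFinset.nodup]
    refine ⟨fun h c hc d hd e => ?_, fun h a b ha h1 => ?_⟩
    · obtain ⟨a, ha, -⟩ := (mem_cycleFactorsFinset_iff.1 hc).1
      obtain ⟨b, hb, -⟩ := (mem_cycleFactorsFinset_iff.1 hd).1
      have a1 := cycle_is_cycleOf (mem_support.2 ha) hc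
      have b1 := cycle_is_cycleOf (mem_support.2 hb) hd
      rw [a1, cycleOf_apply_self] at ha
      rw [b1, cycleOf_apply_self] at hb
      rw [a1, b1] at e ⊢
      exact (h a b ha fun j => by
        rw [us_per ha, us_per hb, show (x.cycleOf a).support.card = (x.cycleOf b).support.card from e]).cycleOf_eq
    · have hb : x b ≠ b := fun e => ha (by simpa [e] using h1 1)
      have := h _ (cycleOf_mem_cycleFactorsFinset_iff.2 (mem_support.2 ha)) _
        (cycleOf_mem_cycleFactorsFinset_iff.2 (mem_support.2 hb))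
        (Nat.dvd_antisymm ((us_per ha _).1 ((h1 _).2 ((us_per hb _).2 dvd_rfl)))
          ((us_per hb _).1 ((h1 _).1 ((us_per ha _).2 dvd_rfl))))
      have h2 : b ∈ (x.cycleOf a).support := this ▸ mem_support.2 (by rwa [cycleOf_apply_self])
      exact (mem_support_cycleOf_iff.1 h2).1
  · rw [← Finset.card_add_card_compl x.support, Nat.add_le_add_iff_left, ← not_lt, Finset.two_lt_card]
    simp only [Finset.mem_compl, notMem_support]
    push Not
    exact ⟨fun h a ha b hb c hc h1 h2 => ((h a b c ha hb hc).resolve_left h1).resolve_left h2,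
      fun h a b c ha hb hc => or_iff_not_imp_left.2 fun h1 => or_iff_not_imp_left.2 (h a ha b hb c hc h1)⟩

end Cfsg.Agent.H28
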