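import Cfsg.Agent.H28.YS1
import Cfsg.Agent.H28.YS2
import Cfsg.Agent.H17.Fi23
import Cfsg.Agent.H17.Fi23S
import Cfsg.Agent.H17.Cover
import Cfsg.Prelude.Def_Spor_M

/-! The spider relation implies the arm relations in `Y₅₅₅`. -/

namespace Cfsg.Agent.H28.YS

open H17

set_option maxRecDepth 100000
set_option Elab.async false

noncomputable def σL : List (List ℕ) := [[0], [1], [2], [3], [4], [5], [8], [9]]
noncomputable def dsL : List (List (List ℕ)) := [[[nat_lit 1]],
  [[nat_lit 17]],
  [[nat_lit 33]],
  [[nat_lit 49]],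
  [[nat_lit 65]],
  [[nat_lit 97]],
  [[nat_lit 113]],
  [[nat_lit 137]],
  [[nat_lit 153]],
  [[nat_lit 169]],
  [[nat_lit 185]],
  [[nat_lit 217]],
  [[nat_lit 233]],
  [[nat_lit 257]],
  [[nat_lit 273]],
  [[nat_lit 289]],
  [[nat_lit 321]],
  [[nat_lit 337]],
  [[nat_lit 361]],
  [[nat_lit 377]],
  [[nat_lit 409]],
  [[nat_lit 425]],
  [[nat_lit 449]],
  [[nat_lit 481]],
  [[nat_lit 497]],
  [[nat_lit 537]],
  [[nat_lit 553]],
  [[nat_lit 633]],
  [[nat_lit 665]]]
theorem derL : chkDer 11 (substL σL RL) dsL R5 = true := by decide +kernel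
noncomputable def Z : List ℕ := unp 8 63 (nat_lit 0x80504030201000805040302010008050403020100080504030201000805040302010008050403020100080504030201000805040302010008050403020100)
noncomputable def CZ : List (List ℕ) := [unp 8 126 (nat_lit 0x80504030201000805040302010008050403020100080504030201000805040302010008050403020100080504030201000805040302010008050403020100080504030201000805040302010008050403020100080504030201000805040302010008050403020100080504030201000805040302010008050403020100),
  unp 8 128 (nat_lit 0x805040302010008050403020100080504030201000805040302010008050403020100080504030201000805040302010008050403020100080504030201000008050403020100080504030201000805040302010008050403020100080504030201000805040302010008050403020100080504030201000805040302010000),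
  unp 8 128 (nat_lit 0x805040302010008050403020100080504030201000805040302010008050403020100080504030201000805040302010008050403020100080504030201000108050403020100080504030201000805040302010008050403020100080504030201000805040302010008050403020100080504030201000805040302010001),
  unp 8 128 (nat_lit 0x805040302010008050403020100080504030201000805040302010008050403020100080504030201000805040302010008050403020100080504030201000208050403020100080504030201000805040302010008050403020100080504030201000805040302010008050403020100080504030201000805040302010002),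
  unp 8 128 (nat_lit 0x805040302010008050403020100080504030201000805040302010008050403020100080504030201000805040302010008050403020100080504030201000308050403020100080504030201000805040302010008050403020100080504030201000805040302010008050403020100080504030201000805040302010003),
  unp 8 128 (nat_lit 0x805040302010008050403020100080504030201000805040302010008050403020100080504030201000805040302010008050403020100080504030201000408050403020100080504030201000805040302010008050403020100080504030201000805040302010008050403020100080504030201000805040302010004),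
  unp 8 128 (nat_lit 0x805040302010008050403020100080504030201000805040302010008050403020100080504030201000805040302010008050403020100080504030201000508050403020100080504030201000805040302010008050403020100080504030201000805040302010008050403020100080504030201000805040302010005),
  unp 8 128 (nat_lit 0x805040302010008050403020100080504030201000805040302010008050403020100080504030201000805040302010008050403020100080504030201000608050403020100080504030201000805040302010008050403020100080504030201000805040302010008050403020100080504030201000805040302010006),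
  unp 8 128 (nat_lit 0x805040302010008050403020100080504030201000805040302010008050403020100080504030201000805040302010008050403020100080504030201000708050403020100080504030201000805040302010008050403020100080504030201000805040302010008050403020100080504030201000805040302010007),
  unp 8 128 (nat_lit 0x805040302010008050403020100080504030201000805040302010008050403020100080504030201000805040302010008050403020100080504030201000808050403020100080504030201000805040302010008050403020100080504030201000805040302010008050403020100080504030201000805040302010008),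
  unp 8 128 (nat_lit 0x805040302010008050403020100080504030201000805040302010008050403020100080504030201000805040302010008050403020100080504030201000908050403020100080504030201000805040302010008050403020100080504030201000805040302010008050403020100080504030201000805040302010009),
  unp 8 128 (nat_lit 0x805040302010008050403020100080504030201000805040302010008050403020100080504030201000805040302010008050403020100080504030201000a0805040302010008050403020100080504030201000805040302010008050403020100080504030201000805040302010008050403020100080504030201000a)]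
noncomputable def dsC : List (List (List ℕ)) := [[[nat_lit 1]],
  [[nat_lit 25]],
  [[nat_lit 41]],
  [[nat_lit 57]],
  [[nat_lit 73]],
  [[nat_lit 89]],
  [[nat_lit 105]],
  [unp 16 192 (nat_lit 0x3000410030000000b1000800f90010013900180171002001a101f9004002010048000000b1000800f90010013900180171002001a101f9004002010048000000b1000800f90010013900180171002001a101f9004002010048000000b1000800f90010013900180171002001a101f9004002010048000000b1000800f90010013900180171002001a101f9004002010048000000b1000800f90010013900180171002001a101f9004002010048000000b1000800f90010013900180171002001a101f9004002010048000000b1000800f90010013900180171002001a101f9004002010048000000b1000800f90010013900180171002001a101f9004002010040002000180010000800000048004000200018001000080000004800400020001800100008000000480040002000180010000800000048004000200018001000080000004800400020001800100008000000480040002000180010000800000048004000200018001000080000004800400020001800100008000000420031)],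
  [unp 16 192 (nat_lit 0x3800490038000000c1000801090010014900180181002001b10219004002210048000000c1000801090010014900180181002001b10219004002210048000000c1000801090010014900180181002001b10219004002210048000000c1000801090010014900180181002001b10219004002210048000000c1000801090010014900180181002001b10219004002210048000000c1000801090010014900180181002001b10219004002210048000000c1000801090010014900180181002001b10219004002210048000000c1000801090010014900180181002001b10219004002210048000000c1000801090010014900180181002001b102190040022100400020001800100008000000480040002000180010000800000048004000200018001000080000004800400020001800100008000000480040002000180010000800000048004000200018001000080000004800400020001800100008000000480040002000180010000800000048004000200018001000080000004a0039)],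
  [[nat_lit 137]],
  [[nat_lit 153]],
  [unp 16 194 (nat_lit 0x5000610050000000f10008013900100179001801b1002001e10040025100480259000000f10008013900100179001801b1002001e10040025100480259000000f10008013900100179001801b1002001e10040025100480259000000f10008013900100179001801b1002001e10040025100480259000000f10008013900100179001801b1002001e10040025100480259000000f10008013900100179001801b1002001e10040025100480259000000f10008013900100179001801b1002001e10040025100480259000000f10008013900100179001801b1002001e10040025100480259000000f10008013900100179001801b1002001e1004002510048025900480040002000180010000800000048004000200018001000080000004800400020001800100008000000480040002000180010000800000048004000200018001000080000004800400020001800100008000000480040002000180010000800000048004000200018001000080000004800400020001800100008000000620051)]]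
theorem derC : chkDer 11 CZ dsC (substL σL KL ++ R5) = true := by decide +kernel
noncomputable def fJ : List ℕ := unp 8 63 (nat_lit 0x60105080204030601050802040306010508020403060105080204030601050802040306010508020403060105080204030601050802040306010508020403)
noncomputable def fK : List ℕ := unp 8 63 (nat_lit 0x60905020804030609050208040306090502080403060905020804030609050208040306090502080403060905020804030609050208040306090502080403)
noncomputable def KF : List (List ℕ) := [unp 8 64 (nat_lit 0x304020805010603040208050106030402080501060304020805010603040208050106030402080501060304020805010603040208050106030402080501060a),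
  unp 8 64 (nat_lit 0x304080205090603040802050906030408020509060304080205090603040802050906030408020509060304080205090603040802050906030408020509060a)]
noncomputable def R6 : List (List ℕ) := R5 ++ [Z]
noncomputable def σψ : List (List ℕ) := [[0], [1], [2], [3], [4], [5], [6], [7], [8], [9]]
noncomputable def σθ : List (List ℕ) := σψ ++ [fJ]

/-- the letters -/
noncomputable def g6 : ℕ → PG 11 11 R6 := pgen 11 11 R6

theorem pres6 : Presents 11 11 R6 g6 := presents_PG _ _ _

theorem fiS {K : List (List ℕ)} (h : Fi23S.S.fixB Fi23T.D.N K Fi23.base = true) : Sat Fi23.g K :=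
  Fi23.faith.satS Fi23T.rep Fi23S.ok h

theorem k_eq : g6 10 = ev g6 fJ ∧ ev g6 fJ = ev g6 fK := by
  obtain ⟨ψ, hψ, rψ⟩ := Fi23.pres.exists_hom_sub (f := g6) (σ := σψ)
    (inv_sub pres6.inv (by decide) (by decide) (by decide +kernel)) rfl
    (pres6.sat.mono (subsetB_sound (by decide +kernel)))
  obtain ⟨θ, hθ, -⟩ := pres6.exists_hom_sub (f := Fi23.g) (σ := σθ)
    (inv_sub_of_sat (by decide) (by decide) (fiS (by decide +kernel))) rfl (fiS (by decide +kernel))
  have tr : ∀ u, substW σψ u = u → ψ (ev Fi23.g u) = ev g6 u := fun u hu => by rw [map_ev' ψ hψ, ev_sub, hu]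
  have hw : ev (sub YT.σ g6) wT = 1 := by
    rw [ev_sub, ← tr _ (by decide +kernel), fiS (K := [substW YT.σ wT]) (by decide +kernel) _ (by simp), map_one]
  have hI : Inv 10 (sub YT.σ g6) := inv_sub pres6.inv (by decide) (by decide) (by decide +kernel)
  have h1 := tc_stab (H := wgrp (sub YT.σ g6) YT.C.W) YT.good hI (fun x hx => sub_triv g6 hx)
    (sat_sub (chkDer_sound pres6.inv (fun r hr => pres6.sat r (List.mem_append_left _ hr)) YT.der)) YT.satK
    (fun u hu => mem_wgrp _ hu) YT.cert.tree YT.cert.all _ (TD.sendB_sound YT.good.toShape fixT)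
  have e9 : sub YT.σ g6 9 = g6 10 := mul_one _
  have e10 : g6 10 * g6 10 = 1 := mul_eq_one_iff_eq_inv.2 (pres6.inv 10)
  simp only [ev_append, hw, ev_cons, ev_nil, mul_one, e9, e10, one_mul] at h1
  rw [wgrp_sub] at h1
  obtain ⟨κ, hκ⟩ : g6 10 ∈ ψ.range := rψ ▸ wgrp_le_of_subsetB _ (by decide +kernel) h1
  have id : θ (ψ κ) = κ := by
    obtain ⟨v, rfl⟩ := Fi23.pres.surj κ
    refine map_ev' (θ.comp ψ) (fun x => ?_) v
    rw [MonoidHom.comp_apply, hψ]
    by_cases hx : 10 ≤ x
    · rw [sub_triv g6 hx, map_one, Fi23.pres.triv x hx]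
    · have : x < 10 := by omega
      interval_cases x <;> exact (congrArg θ (mul_one _)).trans ((hθ _).trans (mul_one _))
  refine ⟨?_, ?_⟩
  · rw [← hκ, ← id, hκ, hθ]; exact tr _ (by decide +kernel)
  · rw [← tr _ (by decide +kernel), ← tr fK (by decide +kernel),
      Fi23.faith.eqS Fi23T.rep Fi23S.ok (u := fJ) (v := fK) (by decide +kernel)]

theorem satKF : Sat g6 KF := by
  rw [show KF = [10 :: invW 11 fJ, 10 :: invW 11 fK] by decide +kernel]
  exact .cons (by rw [ev_cons, ev_invW pres6.inv, k_eq.1, mul_inv_cancel])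
    (.cons (by rw [ev_cons, ev_invW pres6.inv, k_eq.1, k_eq.2, mul_inv_cancel]) (.nil _))

theorem twist {M : Type} [Group M] {m : ℕ → M} {z : M} (h : ∀ x, Commute (m x) z) : ∀ u : List ℕ,
    (∀ x ∈ u, x < 11) → ev (fun x => if x < 11 then m x * z else 1) u = ev m u * z ^ u.length
  | [], _ => by simp
  | x :: u, hu => by
    have c : Commute z (ev m u) := Subgroup.mem_centralizer_singleton_iff.1
      (ev_mem (H := Subgroup.centralizer {z}) fun y _ => Subgroup.mem_centralizer_singleton_iff.2 (h y)) |>.symm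
    rw [ev_cons, ev_cons, twist h u fun y hy => hu y (List.mem_cons_of_mem _ hy), if_pos (hu x (by simp)),
      List.length_cons, pow_succ', mul_assoc, ← mul_assoc z, c.eq]
    simp only [mul_assoc]

theorem arm {M : Type} [Group M] {m : ℕ → M} (hI : Inv 11 m) (ht : ∀ x, 11 ≤ x → m x = 1) (hR : Sat m R5) :
    Sat m KF := by
  have hC := chkDer_sound hI (.append (presL.transfer_sub satKL (inv_sub hI (by decide) (by decide)
    (by decide +kernel)) rfl (chkDer_sound hI hR derL)) hR) derC
  have z2 : ev m Z ^ 2 = 1 := by rw [sq, ← ev_append]; exact hC _ (by decide +kernel)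
  have sq : ∀ x < 11, (m x)⁻¹ = m x := fun x hx => by rw [← hI, inv_of_lt hx]
  have hc : ∀ x, Commute (m x) (ev m Z) := fun x => by
    by_cases hx : x < 11
    · have := hC (x :: Z ++ x :: Z) ((by decide +kernel : ∀ x < 11, (x :: Z ++ x :: Z) ∈ CZ) x hx)
      rw [List.cons_append, ev_cons, ev_append, ev_cons, ← mul_assoc, mul_eq_one_iff_eq_inv, mul_inv_rev, sq x hx,
        inv_eq_of_mul_eq_one_right ((pow_two _).symm.trans z2)] at this
      exact this
    · simp [ht x (not_lt.1 hx)]
  have ev2 : ∀ u : List ℕ, (∀ x ∈ u, x < 11) ∧ u.length % 2 = 0 →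
      ev (fun x => if x < 11 then m x * ev m Z else 1) u = ev m u := fun u hu => by
    rw [twist hc u hu.1, ← Nat.div_add_mod u.length 2, hu.2, add_zero, pow_mul, z2, one_pow, mul_one]
  have := pres6.transfer satKF (f := fun x => if x < 11 then m x * ev m Z else 1) (fun x => by
      by_cases hx : x < 11
      · rw [inv_of_lt hx]
        simp only [if_pos hx, mul_inv_rev, sq x hx, inv_eq_of_mul_eq_one_right ((pow_two _).symm.trans z2)]
        exact hc x
      · simp only [if_neg hx, inv_one, if_neg (show ¬ H17.inv 11 x < 11 by rw [inv_of_ge (not_lt.1 hx)]; omega)])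
    (fun x hx => if_neg (not_lt.2 hx)) (.append (fun u hu => (ev2 u
      ((by decide +kernel : ∀ u ∈ R5, (∀ x ∈ u, x < 11) ∧ u.length % 2 = 0) u hu)).trans (hR u hu))
      (.cons (by
        rw [twist hc _ (by decide +kernel), ← pow_succ', show Z.length + 1 = 2 * 32 by decide +kernel, pow_mul, z2,
          one_pow]) (.nil _)))
  exact fun u hu => (ev2 u ((by decide +kernel : ∀ u ∈ KF, (∀ x ∈ u, x < 11) ∧ u.length % 2 = 0) u hu)).symm.trans
    (this u hu)

open Cfsg.Spor

def lets : List (Bimonster.Gen × Bool) := [(.a, true), (.b1, true), (.c1, true), (.d1, true), (.e1, true), (.f1, true), (.b2, true), (.c2, true), (.d2, true), (.e2, true), (.f2, true), (.b3, true), (.c3, true), (.d3, true), (.e3, true), (.f3, true)]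
def gens : List Bimonster.Gen := [.a, .b1, .c1, .d1, .e1, .f1, .b2, .c2, .d2, .e2, .f2, .b3, .c3, .d3, .e3, .f3]
def enc : Bimonster.Gen → ℕ
  | .a => 0
  | .b1 => 1
  | .c1 => 2
  | .d1 => 3
  | .e1 => 4
  | .f1 => 5
  | .b2 => 6
  | .c2 => 7
  | .d2 => 8
  | .e2 => 9
  | .f2 => 10
  | .b3 => 11
  | .c3 => 12
  | .d3 => 13
  | .e3 => 14
  | .f3 => 15

theorem mem_gens (x : Bimonster.Gen) : x ∈ gens := by cases x <;> decide

/-- the spider relator -/
def spider : List (FreeGroup Bimonster.Gen) := [(Bimonster.a * Bimonster.b1 * Bimonster.c1 * Bimonster.a *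
  Bimonster.b2 * Bimonster.c2 * Bimonster.a * Bimonster.b3 * Bimonster.c3) ^ 10]

theorem letsOK : LetsOK 16 16 lets gens enc Bimonster.edges spider := by decide +kernel

noncomputable def R16 : List (List ℕ) := [[nat_lit 0, nat_lit 1, nat_lit 0, nat_lit 1, nat_lit 0, nat_lit 1],
  [nat_lit 0, nat_lit 2, nat_lit 0, nat_lit 2],
  [nat_lit 0, nat_lit 3, nat_lit 0, nat_lit 3],
  [nat_lit 0, nat_lit 4, nat_lit 0, nat_lit 4],
  [nat_lit 0, nat_lit 5, nat_lit 0, nat_lit 5],
  [nat_lit 0, nat_lit 6, nat_lit 0, nat_lit 6, nat_lit 0, nat_lit 6],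
  [nat_lit 0, nat_lit 7, nat_lit 0, nat_lit 7],
  [nat_lit 0, nat_lit 8, nat_lit 0, nat_lit 8],
  [nat_lit 0, nat_lit 9, nat_lit 0, nat_lit 9],
  [nat_lit 0, nat_lit 10, nat_lit 0, nat_lit 10],
  [nat_lit 0, nat_lit 11, nat_lit 0, nat_lit 11, nat_lit 0, nat_lit 11],
  [nat_lit 0, nat_lit 12, nat_lit 0, nat_lit 12],
  [nat_lit 0, nat_lit 13, nat_lit 0, nat_lit 13],
  [nat_lit 0, nat_lit 14, nat_lit 0, nat_lit 14],
  [nat_lit 0, nat_lit 15, nat_lit 0, nat_lit 15],
  [nat_lit 1, nat_lit 2, nat_lit 1, nat_lit 2, nat_lit 1, nat_lit 2],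
  [nat_lit 1, nat_lit 3, nat_lit 1, nat_lit 3],
  [nat_lit 1, nat_lit 4, nat_lit 1, nat_lit 4],
  [nat_lit 1, nat_lit 5, nat_lit 1, nat_lit 5],
  [nat_lit 1, nat_lit 6, nat_lit 1, nat_lit 6],
  [nat_lit 1, nat_lit 7, nat_lit 1, nat_lit 7],
  [nat_lit 1, nat_lit 8, nat_lit 1, nat_lit 8],
  [nat_lit 1, nat_lit 9, nat_lit 1, nat_lit 9],
  [nat_lit 1, nat_lit 10, nat_lit 1, nat_lit 10],
  [nat_lit 1, nat_lit 11, nat_lit 1, nat_lit 11],
  [nat_lit 1, nat_lit 12, nat_lit 1, nat_lit 12],
  [nat_lit 1, nat_lit 13, nat_lit 1, nat_lit 13],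
  [nat_lit 1, nat_lit 14, nat_lit 1, nat_lit 14],
  [nat_lit 1, nat_lit 15, nat_lit 1, nat_lit 15],
  [nat_lit 2, nat_lit 3, nat_lit 2, nat_lit 3, nat_lit 2, nat_lit 3],
  [nat_lit 2, nat_lit 4, nat_lit 2, nat_lit 4],
  [nat_lit 2, nat_lit 5, nat_lit 2, nat_lit 5],
  [nat_lit 2, nat_lit 6, nat_lit 2, nat_lit 6],
  [nat_lit 2, nat_lit 7, nat_lit 2, nat_lit 7],
  [nat_lit 2, nat_lit 8, nat_lit 2, nat_lit 8],
  [nat_lit 2, nat_lit 9, nat_lit 2, nat_lit 9],
  [nat_lit 2, nat_lit 10, nat_lit 2, nat_lit 10],
  [nat_lit 2, nat_lit 11, nat_lit 2, nat_lit 11],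
  [nat_lit 2, nat_lit 12, nat_lit 2, nat_lit 12],
  [nat_lit 2, nat_lit 13, nat_lit 2, nat_lit 13],
  [nat_lit 2, nat_lit 14, nat_lit 2, nat_lit 14],
  [nat_lit 2, nat_lit 15, nat_lit 2, nat_lit 15],
  [nat_lit 3, nat_lit 4, nat_lit 3, nat_lit 4, nat_lit 3, nat_lit 4],
  [nat_lit 3, nat_lit 5, nat_lit 3, nat_lit 5],
  [nat_lit 3, nat_lit 6, nat_lit 3, nat_lit 6],
  [nat_lit 3, nat_lit 7, nat_lit 3, nat_lit 7],
  [nat_lit 3, nat_lit 8, nat_lit 3, nat_lit 8],
  [nat_lit 3, nat_lit 9, nat_lit 3, nat_lit 9],
  [nat_lit 3, nat_lit 10, nat_lit 3, nat_lit 10],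
  [nat_lit 3, nat_lit 11, nat_lit 3, nat_lit 11],
  [nat_lit 3, nat_lit 12, nat_lit 3, nat_lit 12],
  [nat_lit 3, nat_lit 13, nat_lit 3, nat_lit 13],
  [nat_lit 3, nat_lit 14, nat_lit 3, nat_lit 14],
  [nat_lit 3, nat_lit 15, nat_lit 3, nat_lit 15],
  [nat_lit 4, nat_lit 5, nat_lit 4, nat_lit 5, nat_lit 4, nat_lit 5],
  [nat_lit 4, nat_lit 6, nat_lit 4, nat_lit 6],
  [nat_lit 4, nat_lit 7, nat_lit 4, nat_lit 7],
  [nat_lit 4, nat_lit 8, nat_lit 4, nat_lit 8],
  [nat_lit 4, nat_lit 9, nat_lit 4, nat_lit 9],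
  [nat_lit 4, nat_lit 10, nat_lit 4, nat_lit 10],
  [nat_lit 4, nat_lit 11, nat_lit 4, nat_lit 11],
  [nat_lit 4, nat_lit 12, nat_lit 4, nat_lit 12],
  [nat_lit 4, nat_lit 13, nat_lit 4, nat_lit 13],
  [nat_lit 4, nat_lit 14, nat_lit 4, nat_lit 14],
  [nat_lit 4, nat_lit 15, nat_lit 4, nat_lit 15],
  [nat_lit 5, nat_lit 6, nat_lit 5, nat_lit 6],
  [nat_lit 5, nat_lit 7, nat_lit 5, nat_lit 7],
  [nat_lit 5, nat_lit 8, nat_lit 5, nat_lit 8],
  [nat_lit 5, nat_lit 9, nat_lit 5, nat_lit 9],
  [nat_lit 5, nat_lit 10, nat_lit 5, nat_lit 10],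
  [nat_lit 5, nat_lit 11, nat_lit 5, nat_lit 11],
  [nat_lit 5, nat_lit 12, nat_lit 5, nat_lit 12],
  [nat_lit 5, nat_lit 13, nat_lit 5, nat_lit 13],
  [nat_lit 5, nat_lit 14, nat_lit 5, nat_lit 14],
  [nat_lit 5, nat_lit 15, nat_lit 5, nat_lit 15],
  [nat_lit 6, nat_lit 7, nat_lit 6, nat_lit 7, nat_lit 6, nat_lit 7],
  [nat_lit 6, nat_lit 8, nat_lit 6, nat_lit 8],
  [nat_lit 6, nat_lit 9, nat_lit 6, nat_lit 9],
  [nat_lit 6, nat_lit 10, nat_lit 6, nat_lit 10],
  [nat_lit 6, nat_lit 11, nat_lit 6, nat_lit 11],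
  [nat_lit 6, nat_lit 12, nat_lit 6, nat_lit 12],
  [nat_lit 6, nat_lit 13, nat_lit 6, nat_lit 13],
  [nat_lit 6, nat_lit 14, nat_lit 6, nat_lit 14],
  [nat_lit 6, nat_lit 15, nat_lit 6, nat_lit 15],
  [nat_lit 7, nat_lit 8, nat_lit 7, nat_lit 8, nat_lit 7, nat_lit 8],
  [nat_lit 7, nat_lit 9, nat_lit 7, nat_lit 9],
  [nat_lit 7, nat_lit 10, nat_lit 7, nat_lit 10],
  [nat_lit 7, nat_lit 11, nat_lit 7, nat_lit 11],
  [nat_lit 7, nat_lit 12, nat_lit 7, nat_lit 12],
  [nat_lit 7, nat_lit 13, nat_lit 7, nat_lit 13],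
  [nat_lit 7, nat_lit 14, nat_lit 7, nat_lit 14],
  [nat_lit 7, nat_lit 15, nat_lit 7, nat_lit 15],
  [nat_lit 8, nat_lit 9, nat_lit 8, nat_lit 9, nat_lit 8, nat_lit 9],
  [nat_lit 8, nat_lit 10, nat_lit 8, nat_lit 10],
  [nat_lit 8, nat_lit 11, nat_lit 8, nat_lit 11],
  [nat_lit 8, nat_lit 12, nat_lit 8, nat_lit 12],
  [nat_lit 8, nat_lit 13, nat_lit 8, nat_lit 13],
  [nat_lit 8, nat_lit 14, nat_lit 8, nat_lit 14],
  [nat_lit 8, nat_lit 15, nat_lit 8, nat_lit 15],
  [nat_lit 9, nat_lit 10, nat_lit 9, nat_lit 10, nat_lit 9, nat_lit 10],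
  [nat_lit 9, nat_lit 11, nat_lit 9, nat_lit 11],
  [nat_lit 9, nat_lit 12, nat_lit 9, nat_lit 12],
  [nat_lit 9, nat_lit 13, nat_lit 9, nat_lit 13],
  [nat_lit 9, nat_lit 14, nat_lit 9, nat_lit 14],
  [nat_lit 9, nat_lit 15, nat_lit 9, nat_lit 15],
  [nat_lit 10, nat_lit 11, nat_lit 10, nat_lit 11],
  [nat_lit 10, nat_lit 12, nat_lit 10, nat_lit 12],
  [nat_lit 10, nat_lit 13, nat_lit 10, nat_lit 13],
  [nat_lit 10, nat_lit 14, nat_lit 10, nat_lit 14],
  [nat_lit 10, nat_lit 15, nat_lit 10, nat_lit 15],
  [nat_lit 11, nat_lit 12, nat_lit 11, nat_lit 12, nat_lit 11, nat_lit 12],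
  [nat_lit 11, nat_lit 13, nat_lit 11, nat_lit 13],
  [nat_lit 11, nat_lit 14, nat_lit 11, nat_lit 14],
  [nat_lit 11, nat_lit 15, nat_lit 11, nat_lit 15],
  [nat_lit 12, nat_lit 13, nat_lit 12, nat_lit 13, nat_lit 12, nat_lit 13],
  [nat_lit 12, nat_lit 14, nat_lit 12, nat_lit 14],
  [nat_lit 12, nat_lit 15, nat_lit 12, nat_lit 15],
  [nat_lit 13, nat_lit 14, nat_lit 13, nat_lit 14, nat_lit 13, nat_lit 14],
  [nat_lit 13, nat_lit 15, nat_lit 13, nat_lit 15],
  [nat_lit 14, nat_lit 15, nat_lit 14, nat_lit 15, nat_lit 14, nat_lit 15],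
  unp 8 90 (nat_lit 0xc0b000706000201000c0b000706000201000c0b000706000201000c0b000706000201000c0b000706000201000c0b000706000201000c0b000706000201000c0b000706000201000c0b000706000201000c0b00070600020100)]

theorem R16_eq : coxWords 16 gens enc Bimonster.edges spider = R16 := by decide +kernel

noncomputable def σ1 : List (List ℕ) := [[13], [12], [11], [0], [1], [2], [3], [4], [6], [7], [5]]
noncomputable def σ2 : List (List ℕ) := [[3], [2], [1], [0], [6], [7], [8], [9], [11], [12], [10]]
noncomputable def σ3 : List (List ℕ) := [[8], [7], [6], [0], [11], [12], [13], [14], [1], [2], [15]]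
noncomputable def d1 : List (List (List ℕ)) := [[[nat_lit 96, nat_lit 913, nat_lit 96]],
  [[nat_lit 88, nat_lit 897, nat_lit 88]],
  [[nat_lit 0, nat_lit 113, nat_lit 0]],
  [[nat_lit 8, nat_lit 233, nat_lit 8]],
  [[nat_lit 16, nat_lit 345, nat_lit 16]],
  [[nat_lit 24, nat_lit 449, nat_lit 24]],
  [[nat_lit 32, nat_lit 545, nat_lit 32]],
  [[nat_lit 48, nat_lit 705, nat_lit 48]],
  [[nat_lit 56, nat_lit 777, nat_lit 56]],
  [[nat_lit 40, nat_lit 649, nat_lit 40]],
  [[nat_lit 88, nat_lit 961, nat_lit 88]],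
  [[nat_lit 0, nat_lit 177, nat_lit 0]],
  [[nat_lit 8, nat_lit 297, nat_lit 8]],
  [[nat_lit 16, nat_lit 409, nat_lit 16]],
  [[nat_lit 24, nat_lit 513, nat_lit 24]],
  [[nat_lit 32, nat_lit 609, nat_lit 32]],
  [[nat_lit 48, nat_lit 769, nat_lit 48]],
  [[nat_lit 56, nat_lit 841, nat_lit 56]],
  [[nat_lit 40, nat_lit 713, nat_lit 40]],
  [[nat_lit 0, nat_lit 233, nat_lit 0]],
  [[nat_lit 8, nat_lit 353, nat_lit 8]],
  [[nat_lit 16, nat_lit 465, nat_lit 16]],
  [[nat_lit 24, nat_lit 569, nat_lit 24]],
  [[nat_lit 32, nat_lit 665, nat_lit 32]],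
  [[nat_lit 48, nat_lit 825, nat_lit 48]],
  [[nat_lit 56, nat_lit 897, nat_lit 56]],
  [[nat_lit 40, nat_lit 769, nat_lit 40]],
  [[nat_lit 217]],
  [[nat_lit 233]],
  [[nat_lit 249]],
  [[nat_lit 265]],
  [[nat_lit 289]],
  [[nat_lit 305]],
  [[nat_lit 297]],
  [[nat_lit 393]],
  [[nat_lit 409]],
  [[nat_lit 425]],
  [[nat_lit 449]],
  [[nat_lit 465]],
  [[nat_lit 457]],
  [[nat_lit 553]],
  [[nat_lit 569]],
  [[nat_lit 593]],
  [[nat_lit 609]],
  [[nat_lit 601]],
  [[nat_lit 697]],
  [[nat_lit 721]],
  [[nat_lit 737]],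
  [[nat_lit 729]],
  [[nat_lit 833]],
  [[nat_lit 849]],
  [[nat_lit 841]],
  [[nat_lit 1017]],
  [[nat_lit 40, nat_lit 945, nat_lit 40]],
  [[nat_lit 40, nat_lit 961, nat_lit 40]],
  [unp 16 13 (nat_lit 0x38003000000010000800000579000000080010000000300038)]]
noncomputable def d2 : List (List (List ℕ)) := [[[nat_lit 16, nat_lit 233, nat_lit 16]],
  [[nat_lit 8, nat_lit 137, nat_lit 8]],
  [[nat_lit 0, nat_lit 33, nat_lit 0]],
  [[nat_lit 377]],
  [[nat_lit 393]],
  [[nat_lit 409]],
  [[nat_lit 425]],
  [[nat_lit 449]],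
  [[nat_lit 465]],
  [[nat_lit 457]],
  [[nat_lit 8, nat_lit 201, nat_lit 8]],
  [[nat_lit 0, nat_lit 97, nat_lit 0]],
  [[nat_lit 353]],
  [[nat_lit 369]],
  [[nat_lit 385]],
  [[nat_lit 401]],
  [[nat_lit 425]],
  [[nat_lit 441]],
  [[nat_lit 433]],
  [[nat_lit 0, nat_lit 153, nat_lit 0]],
  [[nat_lit 313]],
  [[nat_lit 329]],
  [[nat_lit 345]],
  [[nat_lit 361]],
  [[nat_lit 385]],
  [[nat_lit 401]],
  [[nat_lit 393]],
  [[nat_lit 257]],
  [[nat_lit 273]],
  [[nat_lit 289]],
  [[nat_lit 305]],
  [[nat_lit 329]],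
  [[nat_lit 345]],
  [[nat_lit 337]],
  [[nat_lit 873]],
  [[nat_lit 889]],
  [[nat_lit 905]],
  [[nat_lit 929]],
  [[nat_lit 945]],
  [[nat_lit 937]],
  [[nat_lit 993]],
  [[nat_lit 1009]],
  [[nat_lit 1033]],
  [[nat_lit 1049]],
  [[nat_lit 1041]],
  [[nat_lit 1097]],
  [[nat_lit 1121]],
  [[nat_lit 1137]],
  [[nat_lit 1129]],
  [[nat_lit 1193]],
  [[nat_lit 1209]],
  [[nat_lit 1201]],
  [[nat_lit 1297]],
  [[nat_lit 80, nat_lit 1265, nat_lit 80]],
  [[nat_lit 80, nat_lit 1281, nat_lit 80]],
  [[nat_lit 1401]]]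
noncomputable def d3 : List (List (List ℕ)) := [[[nat_lit 56, nat_lit 673, nat_lit 56]],
  [[nat_lit 48, nat_lit 617, nat_lit 48]],
  [[nat_lit 0, nat_lit 73, nat_lit 0]],
  [[nat_lit 777]],
  [[nat_lit 793]],
  [[nat_lit 809]],
  [[nat_lit 825]],
  [[nat_lit 8, nat_lit 225, nat_lit 8]],
  [[nat_lit 16, nat_lit 337, nat_lit 16]],
  [[nat_lit 857]],
  [[nat_lit 48, nat_lit 681, nat_lit 48]],
  [[nat_lit 0, nat_lit 137, nat_lit 0]],
  [[nat_lit 793]],
  [[nat_lit 809]],
  [[nat_lit 825]],
  [[nat_lit 841]],
  [[nat_lit 8, nat_lit 289, nat_lit 8]],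
  [[nat_lit 16, nat_lit 401, nat_lit 16]],
  [[nat_lit 873]],
  [[nat_lit 0, nat_lit 193, nat_lit 0]],
  [[nat_lit 793]],
  [[nat_lit 809]],
  [[nat_lit 825]],
  [[nat_lit 841]],
  [[nat_lit 8, nat_lit 345, nat_lit 8]],
  [[nat_lit 16, nat_lit 457, nat_lit 16]],
  [[nat_lit 873]],
  [[nat_lit 297]],
  [[nat_lit 313]],
  [[nat_lit 329]],
  [[nat_lit 345]],
  [[nat_lit 249]],
  [[nat_lit 265]],
  [[nat_lit 377]],
  [[nat_lit 1153]],
  [[nat_lit 1169]],
  [[nat_lit 1185]],
  [[nat_lit 8, nat_lit 489, nat_lit 8]],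
  [[nat_lit 16, nat_lit 601, nat_lit 16]],
  [[nat_lit 1217]],
  [[nat_lit 1233]],
  [[nat_lit 1249]],
  [[nat_lit 8, nat_lit 537, nat_lit 8]],
  [[nat_lit 16, nat_lit 649, nat_lit 16]],
  [[nat_lit 1281]],
  [[nat_lit 1297]],
  [[nat_lit 8, nat_lit 577, nat_lit 8]],
  [[nat_lit 16, nat_lit 689, nat_lit 16]],
  [[nat_lit 1329]],
  [[nat_lit 8, nat_lit 609, nat_lit 8]],
  [[nat_lit 16, nat_lit 721, nat_lit 16]],
  [[nat_lit 1361]],
  [[nat_lit 537]],
  [[nat_lit 649]],
  [[nat_lit 761]],
  [unp 16 7 (nat_lit 0x10000800000579000000080010)]]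

theorem main : ∀ r ∈ Bimonster.extra,
    PresentedGroup.mk (coxRelators Bimonster.edges ∪ {r | r ∈ spider}) r = 1 := by
  have p := R16_eq ▸ presents_cox mem_gens letsOK
  have k : ∀ σ d, σ.length = 11 → freeInvB 16 11 σ σ.length = true → chkDer 16 (substL σ R5) d R16 = true →
      Sat _ (substL σ KF) := fun σ d h1 h2 h3 => sat_of_sub (arm (inv_sub p.inv (by omega) (by omega) h2)
    (fun x hx => sub_triv _ (h1 ▸ hx)) (sat_sub (chkDer_sound p.inv p.sat h3)))
  have := p.sat.append ((k σ1 d1 rfl (by decide +kernel) (by decide +kernel)).append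
    ((k σ2 d2 rfl (by decide +kernel) (by decide +kernel)).append (k σ3 d3 rfl (by decide +kernel) (by decide +kernel))))
  intro r hr
  rw [mk_eq_ev mem_gens letsOK]
  exact this.mono (R := Bimonster.extra.map (wordOf 16 enc)) (subsetB_sound (by decide +kernel)) _
    (List.mem_map_of_mem hr)

end Cfsg.Agent.H28.YS
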